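import Mathlib
import Cfsg.Agent.Lib.Fusion.Thompson

/-!
Facts on the alternating group of degree six, and on permutation modules on six points over a field
with four elements.
Owner: helper55.
-/
set_option autoImplicit false
set_option linter.unusedSectionVars false
set_option maxRecDepth 100000

namespace Cfsg.Agent.Lib.Sp4Res55

/-- The orders in the alternating group of degree six. -/
theorem alt_six_orders : ∀ g : Equiv.Perm (Fin 6), Equiv.Perm.sign g = 1 →
    g ^ 4 = 1 ∨ g ^ 3 = 1 ∨ g ^ 5 = 1 := by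
  decide +kernel

theorem perm_six_fives :
    (Finset.univ.filter fun g : Equiv.Perm (Fin 6) => g ≠ 1 ∧ g ^ 5 = 1).card = 144 := by
  decide +kernel

theorem alt_six_fives :
    Nat.card {g : alternatingGroup (Fin 6) // g ≠ 1 ∧ g ^ 5 = 1} = 144 := by
  classical
  have key : ∀ g : Equiv.Perm (Fin 6), g ^ 5 = 1 → g ∈ alternatingGroup (Fin 6) := fun g hg => by
    rw [Equiv.Perm.mem_alternatingGroup]
    have h := congrArg Equiv.Perm.sign hg
    rw [map_pow, map_one] at h
    rcases Int.units_eq_one_or (Equiv.Perm.sign g) with h' | h'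
    · exact h'
    · rw [h'] at h; exact absurd h (by decide)
  rw [Nat.card_congr
    { toFun := fun g : {g : alternatingGroup (Fin 6) // g ≠ 1 ∧ g ^ 5 = 1} =>
        (⟨g.1.1, fun h => g.2.1 (Subtype.ext h),
          (congrArg Subtype.val g.2.2 : _)⟩ : {g : Equiv.Perm (Fin 6) // g ≠ 1 ∧ g ^ 5 = 1})
      invFun := fun g => ⟨⟨g.1, key g.1 g.2.2⟩, fun h => g.2.1 (congrArg Subtype.val h),
        Subtype.ext g.2.2⟩
      left_inv := fun g => rfl
      right_inv := fun g => rfl }, Nat.card_eq_fintype_card, Fintype.card_subtype]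
  exact perm_six_fives

/-- More than four elements of order five in a group of order dividing `360` and at most `60`
force order `60`. -/
theorem card_of_fives {H : Type*} [Group H] [Finite H] (hd : Nat.card H ∣ 360)
    (hle : Nat.card H ≤ 60) (h : 4 < Nat.card {g : H // g ≠ 1 ∧ g ^ 5 = 1}) :
    Nat.card H = 60 := by
  classical
  haveI : Fact (Nat.Prime 5) := ⟨by norm_num⟩
  have := Fintype.ofFinite H
  have few : ∀ {K : Type _} [Group K] [Finite K], Nat.card K ∣ 360 →
      Nat.card (Sylow 5 K) = 1 → Nat.card {g : K // g ≠ 1 ∧ g ^ 5 = 1} ≤ 4 := by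
    intro K _ _ hdK h1
    haveI : Subsingleton (Sylow 5 K) := (Nat.card_eq_one_iff_unique.1 h1).1
    have S : Sylow 5 K := default
    have hS : Nat.card (S : Subgroup K) ≤ 5 := by
      rw [S.card_eq_multiplicity]
      by_cases hk : (Nat.card K).factorization 5 ≤ 1
      · calc 5 ^ (Nat.card K).factorization 5 ≤ 5 ^ 1 := Nat.pow_le_pow_right (by norm_num) hk
          _ = 5 := pow_one 5
      · exfalso
        have h25 : 5 ^ 2 ∣ Nat.card K :=
          (pow_dvd_pow 5 (by omega : 2 ≤ (Nat.card K).factorization 5)).trans (Nat.ordProj_dvd _ 5)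
        have := h25.trans hdK
        norm_num at this
    have hin : ∀ g : {g : K // g ≠ 1 ∧ g ^ 5 = 1}, g.1 ∈ (S : Subgroup K) := by
      rintro ⟨g, hg1, hg5⟩
      have hp : IsPGroup 5 (Subgroup.zpowers g) := IsPGroup.of_card (n := 1) (by
        rw [Nat.card_zpowers, pow_one, orderOf_eq_prime hg5 hg1])
      obtain ⟨Q, hQ⟩ := hp.exists_le_sylow
      rw [Subsingleton.elim S Q]
      exact hQ (Subgroup.mem_zpowers g)
    calc Nat.card {g : K // g ≠ 1 ∧ g ^ 5 = 1}
        ≤ Nat.card {g : (S : Subgroup K) // g ≠ 1} :=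
          Nat.card_le_card_of_injective (fun g => ⟨⟨g.1, hin g⟩, fun he => g.2.1 (congrArg Subtype.val he)⟩)
            fun a b he => Subtype.ext (congrArg (fun z : {g : (S : Subgroup K) // g ≠ 1} => (z.1 : K)) he)
      _ = Nat.card (S : Subgroup K) - 1 := by
          have := Fintype.ofFinite (S : Subgroup K)
          rw [Nat.card_eq_fintype_card, Nat.card_eq_fintype_card, Fintype.card_subtype_compl,
            Fintype.card_subtype_eq]
      _ ≤ 4 := by omega
  have hn1 : Nat.card (Sylow 5 H) ≠ 1 := fun e => absurd (few hd e) (by omega)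
  have hmod : Nat.card (Sylow 5 H) % 5 = 1 := card_sylow_modEq_one 5 H
  have hdiv : Nat.card (Sylow 5 H) ∣ Nat.card H := by
    have S : Sylow 5 H := default
    exact S.card_dvd_index.trans (Subgroup.index_dvd_card _)
  have hpos : 0 < Nat.card (Sylow 5 H) := Nat.card_pos
  -- two Sylow subgroups need order thirty or sixty
  have h5H : 5 ∣ Nat.card H := by
    obtain ⟨⟨g, hg1, hg5⟩⟩ := (Nat.card_pos_iff.1 (by omega : 0 < Nat.card {g : H // g ≠ 1 ∧ g ^ 5 = 1})).1
    rw [← orderOf_eq_prime hg5 hg1]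
    exact orderOf_dvd_natCard g
  have hidx : Nat.card (Sylow 5 H) ∣ Nat.card H / 5 := by
    have hcop : Nat.Coprime (Nat.card (Sylow 5 H)) 5 :=
      ((Nat.Prime.coprime_iff_not_dvd (by norm_num : Nat.Prime 5)).2 (by omega)).symm
    exact hcop.dvd_of_dvd_mul_right (by rwa [Nat.div_mul_cancel h5H])
  have hH : Nat.card H = 30 ∨ Nat.card H = 60 := by
    have hHpos : 0 < Nat.card H := Nat.card_pos
    obtain ⟨k, hk⟩ := h5H
    rw [hk, Nat.mul_div_cancel_left k (by norm_num)] at hidx
    have hk12 : k ≤ 12 := by omega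
    have hkd : k ∣ 72 := by
      rw [hk] at hd
      exact Nat.dvd_of_mul_dvd_mul_left (by norm_num : (0 : ℕ) < 5) (by simpa using hd)
    have hle' := Nat.le_of_dvd (by omega : 0 < k) hidx
    generalize Nat.card (Sylow 5 H) = n at *
    interval_cases k <;> interval_cases n <;> omega
  refine hH.resolve_left fun h30 => ?_
  -- order thirty: a normal subgroup of order fifteen holds all elements of order five
  haveI : Fact (Nat.Prime 2) := ⟨Nat.prime_two⟩
  obtain ⟨t, ht⟩ := exists_prime_orderOf_dvd_card' 2 (by rw [h30]; norm_num : 2 ∣ Nat.card H)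
  obtain ⟨N, hN, -⟩ := Cfsg.Agent.Lib.Fusion.Thompson.exists_index_two_of_fixedPointFree (G := H) (α := H)
    (by rw [h30]) t ht (fun x hx => by
      have : t = 1 := mul_eq_right.1 hx
      rw [this, orderOf_one] at ht
      exact absurd ht (by norm_num))
  have hNc : Nat.card N = 15 := by
    have := N.card_mul_index
    rw [hN, h30] at this
    omega
  have hNn : N.Normal := Subgroup.normal_of_index_eq_two hN
  have hNin : ∀ g : {g : H // g ≠ 1 ∧ g ^ 5 = 1}, g.1 ∈ N := by
    rintro ⟨g, -, hg⟩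
    have h2 : g ^ N.index ∈ N := Subgroup.pow_index_mem N g
    rw [hN] at h2
    have e : g = (g ^ 2) ^ 3 := by
      rw [← pow_mul, show 2 * 3 = 5 + 1 from rfl, pow_succ, hg, one_mul]
    show g ∈ N
    exact e ▸ pow_mem h2 3
  have hle15 : Nat.card {g : H // g ≠ 1 ∧ g ^ 5 = 1} ≤ Nat.card {g : N // g ≠ 1 ∧ g ^ 5 = 1} :=
    Nat.card_le_card_of_injective
      (fun g => ⟨⟨g.1, hNin g⟩, fun he => g.2.1 (congrArg Subtype.val he), Subtype.ext g.2.2⟩)
      fun a b he => Subtype.ext (congrArg (fun z : {g : N // g ≠ 1 ∧ g ^ 5 = 1} => (z.1 : H)) he)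
  have hN1 : Nat.card (Sylow 5 N) = 1 := by
    have hm : Nat.card (Sylow 5 N) % 5 = 1 := card_sylow_modEq_one 5 N
    have S : Sylow 5 N := default
    have hdN : Nat.card (Sylow 5 N) ∣ 15 := hNc ▸ S.card_dvd_index.trans (Subgroup.index_dvd_card _)
    have := Nat.le_of_dvd (by norm_num) hdN
    generalize Nat.card (Sylow 5 N) = n at *
    interval_cases n <;> omega
  have := few (by rw [hNc]; norm_num) hN1
  omega

/-- A submodule of the six-point permutation module over four elements, invariant under the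
alternating group and with a non-constant member, has dimension at least five. -/
theorem five_le_finrank {F : Type*} [Field F] [Fintype F] (hF : Fintype.card F = 4)
    {X : Type*} [Fintype X] [DecidableEq X] (hX : Fintype.card X = 6) (K : Submodule F (X → F))
    (hinv : ∀ σ : Equiv.Perm X, Equiv.Perm.sign σ = 1 → ∀ c ∈ K, c ∘ σ ∈ K) {c : X → F} (hc : c ∈ K)
    {a b : X} (hab : c a ≠ c b) : 5 ≤ Module.finrank F K := by
  classical
  have fresh : ∀ s : Finset X, s.card < 6 → ∃ x, x ∉ s := fun s hs => by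
    by_contra! hall
    rw [Finset.eq_univ_iff_forall.2 hall, Finset.card_univ, hX] at hs
    exact lt_irrefl _ hs
  obtain ⟨i, k, j, l, hik, hij, hil, hkj, hkl, hjl, hcik, hcjl⟩ : ∃ i k j l : X,
      i ≠ k ∧ i ≠ j ∧ i ≠ l ∧ k ≠ j ∧ k ≠ l ∧ j ≠ l ∧ c i = c k ∧ c j ≠ c l := by
    obtain ⟨i, k, hik, hcik⟩ := Fintype.exists_ne_map_eq_of_card_lt c (by rw [hF, hX]; norm_num)
    obtain ⟨j, hcj⟩ : ∃ j, c j ≠ c i := by
      by_cases h : c a = c i
      · exact ⟨b, fun e => hab (h.trans e.symm)⟩
      · exact ⟨a, h⟩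
    have hij : i ≠ j := fun e => hcj (by rw [e])
    have hkj : k ≠ j := fun e => hcj (by rw [← e, hcik])
    by_cases hl : ∃ l, l ≠ i ∧ l ≠ k ∧ l ≠ j ∧ c j ≠ c l
    · obtain ⟨l, h1, h2, h3, h4⟩ := hl
      exact ⟨i, k, j, l, hik, hij, h1.symm, hkj, h2.symm, h3.symm, hcik, h4⟩
    · push Not at hl
      obtain ⟨l₁, hl₁⟩ := fresh {i, k, j} (Finset.card_le_three.trans_lt (by norm_num))
      obtain ⟨l₂, hl₂⟩ := fresh {i, k, j, l₁} (Finset.card_le_four.trans_lt (by norm_num))
      simp only [Finset.mem_insert, Finset.mem_singleton, not_or] at hl₁ hl₂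
      exact ⟨l₁, l₂, i, j, Ne.symm hl₂.2.2.2, hl₁.1, hl₁.2.2, hl₂.1, hl₂.2.2.1, hij,
        (hl l₁ hl₁.1 hl₁.2.1 hl₁.2.2).symm.trans (hl l₂ hl₂.1 hl₂.2.1 hl₂.2.2.1),
        fun e => hcj e.symm⟩
  set δ : X → X → F := fun y x => if x = y then 1 else 0 with hδ
  have hd : δ j + δ l ∈ K := by
    have hs : Equiv.Perm.sign (Equiv.swap i k * Equiv.swap j l) = 1 := by
      rw [map_mul, Equiv.Perm.sign_swap hik, Equiv.Perm.sign_swap hjl]; decide
    have h := K.smul_mem (c j - c l)⁻¹ (K.sub_mem hc (hinv _ hs c hc))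
    convert h using 1
    have h2 : (2 : F) = 0 := by
      haveI : Fact (Nat.Prime 2) := ⟨Nat.prime_two⟩
      haveI : CharP F 2 := charP_of_card_eq_prime_pow (hF.trans (by norm_num : 4 = 2 ^ 2))
      exact CharTwo.two_eq_zero
    have hne : c j - c l ≠ 0 := sub_ne_zero.2 hcjl
    funext x
    simp only [Pi.smul_apply, Pi.sub_apply, Pi.add_apply, Function.comp_apply, Equiv.Perm.mul_apply,
      smul_eq_mul, hδ]
    by_cases hxj : x = j
    · subst hxj
      rw [if_pos rfl, if_neg hjl, Equiv.swap_apply_left,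
        Equiv.swap_apply_of_ne_of_ne hil.symm hkl.symm, inv_mul_cancel₀ hne, add_zero]
    by_cases hxl : x = l
    · subst hxl
      rw [if_neg hxj, if_pos rfl, Equiv.swap_apply_right,
        Equiv.swap_apply_of_ne_of_ne hij.symm hkj.symm, zero_add,
        show c x - c j = -(c j - c x) by ring, mul_neg, inv_mul_cancel₀ hne]
      linear_combination h2
    rw [if_neg hxj, if_neg hxl, Equiv.swap_apply_of_ne_of_ne hxj hxl, add_zero]
    by_cases hxi : x = i
    · subst hxi; rw [Equiv.swap_apply_left, hcik, sub_self, mul_zero]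
    by_cases hxk : x = k
    · subst hxk; rw [Equiv.swap_apply_right, hcik, sub_self, mul_zero]
    rw [Equiv.swap_apply_of_ne_of_ne hxi hxk, sub_self, mul_zero]
  have hall : ∀ x y : X, x ≠ y → δ x + δ y ∈ K := by
    intro x y hxy
    set τ := Equiv.swap x j with hτ
    have hy' : τ y ≠ j := fun e => hxy (τ.injective (by rw [e, hτ, Equiv.swap_apply_left]))
    set σ₀ := Equiv.swap (τ y) l * τ with hσ₀
    have hσx : σ₀ x = j := by
      rw [hσ₀, Equiv.Perm.mul_apply, hτ, Equiv.swap_apply_left, ← hτ,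
        Equiv.swap_apply_of_ne_of_ne (Ne.symm hy') hjl]
    have hσy : σ₀ y = l := by rw [hσ₀, Equiv.Perm.mul_apply, Equiv.swap_apply_left]
    obtain ⟨σ, hsg, hx1, hy1⟩ : ∃ σ : Equiv.Perm X, Equiv.Perm.sign σ = 1 ∧ σ x = j ∧ σ y = l := by
      rcases Int.units_eq_one_or (Equiv.Perm.sign σ₀) with h | h
      · exact ⟨σ₀, h, hσx, hσy⟩
      · refine ⟨Equiv.swap i k * σ₀, by rw [map_mul, h, Equiv.Perm.sign_swap hik]; decide, ?_, ?_⟩
        · rw [Equiv.Perm.mul_apply, hσx, Equiv.swap_apply_of_ne_of_ne hij.symm hkj.symm]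
        · rw [Equiv.Perm.mul_apply, hσy, Equiv.swap_apply_of_ne_of_ne hil.symm hkl.symm]
    convert hinv σ hsg _ hd using 1
    funext z
    simp only [hδ, Pi.add_apply, Function.comp_apply, ← hx1, ← hy1, EmbeddingLike.apply_eq_iff_eq]
  let L : ({y : X // y ≠ i} → F) →ₗ[F] K :=
    { toFun := fun v => ∑ y, v y • (⟨δ i + δ y.1, hall i y.1 (Ne.symm y.2)⟩ : K)
      map_add' := fun v w => by simp only [Pi.add_apply, add_smul, Finset.sum_add_distrib]
      map_smul' := fun r v => by
        simp only [Pi.smul_apply, smul_eq_mul, RingHom.id_apply, Finset.smul_sum, smul_smul] }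
  have hin : Function.Injective L := by
    refine (injective_iff_map_eq_zero L).2 fun v hv => funext fun y => ?_
    have h := congrFun (congrArg Subtype.val hv) y.1
    simp only [L, LinearMap.coe_mk, AddHom.coe_mk, AddSubmonoidClass.coe_finsetSum,
      SetLike.val_smul, Finset.sum_apply, Pi.smul_apply, Pi.add_apply, smul_eq_mul, hδ,
      if_neg y.2, zero_add, mul_ite, mul_one, mul_zero, ZeroMemClass.coe_zero, Pi.zero_apply] at h
    rw [Finset.sum_eq_single y (fun z _ hz => if_neg fun e => hz (Subtype.ext e.symm))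
      (fun hh => absurd (Finset.mem_univ y) hh), if_pos rfl] at h
    exact h
  have := LinearMap.finrank_le_finrank_of_injective hin
  rwa [Module.finrank_fintype_fun_eq_card, Fintype.card_subtype_compl, Fintype.card_subtype_eq, hX]
    at this

end Cfsg.Agent.Lib.Sp4Res55
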