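import Cfsg.Agent.Lib.Sp4Res55.Traces
import Cfsg.Agent.Lib.Sp4Res55.PermSix
import Cfsg.Agent.Lib.Alternating.Basic
import Cfsg.Agent.Lib.Mitchell96.TraceForms

/-!
The alternating group of degree six is no residual subgroup: its traces lie in the field with four
elements, and over that field a non-zero vector would have a stabiliser of index six.
Owner: helper55.
-/
set_option autoImplicit false
set_option linter.unusedSectionVars false
set_option maxHeartbeats 1000000

namespace Cfsg.Agent.Lib.Sp4Res55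

open Matrix Module Cfsg.Agent.Lib.Subspaces.Transvection Cfsg.Agent.Lib.Subspaces.SympGen

variable {F : Type*} [Field F] [Fintype F]

local notation "Vec" => Fin 2 ⊕ Fin 2 → F
local notation "Mat" => Matrix (Fin 2 ⊕ Fin 2) (Fin 2 ⊕ Fin 2) F
local notation "GL4" => Matrix.GeneralLinearGroup (Fin 2 ⊕ Fin 2) F
local notation "f₄" => Cfsg.sympForm 2 F

/-- Over four elements, an element of order five with trace outside the prime field fixes a vector. -/
theorem exists_fixed (h2 : (2 : F) = 0) (hF : ∀ a : F, a ^ 4 = a) {x : GL4} (hx : x ^ 5 = 1)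
    (ht : (x : Mat).trace * (x : Mat).trace ≠ (x : Mat).trace) :
    ∃ v : Vec, v ≠ 0 ∧ (x : Mat) *ᵥ v = v := by
  classical
  have : CharP F 2 := (CharP.charP_iff_prime_eq_zero Nat.prime_two).2 h2
  by_contra! hno
  let L := AlgebraicClosure F
  let φ : F →+* L := algebraMap F L
  have : CharP L 2 := charP_of_injective_ringHom φ.injective 2
  set A : Matrix (Fin 2 ⊕ Fin 2) (Fin 2 ⊕ Fin 2) L := (x : Mat).map φ with hA
  set R := A.charpoly.roots with hR
  have hroot : ∀ μ ∈ R, μ ^ 5 = 1 ∧ μ ≠ 1 := by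
    intro μ hμ
    rw [hR, Polynomial.mem_roots A.charpoly_monic.ne_zero] at hμ
    refine ⟨?_, fun h1 => ?_⟩
    · have h := spectrum.pow_mem_pow A 5 (Matrix.mem_spectrum_iff_isRoot_charpoly.2 hμ)
      rw [show A ^ 5 = 1 by
        rw [hA, show ((x : Mat).map φ) ^ 5 = ((x : Mat) ^ 5).map φ from (map_pow φ.mapMatrix _ 5).symm,
          ← Units.val_pow_eq_pow_val, hx, Units.val_one, Matrix.map_one φ (map_zero φ) (map_one φ)],
        spectrum.one_eq] at h
      exact h
    · have h0 : (x : Mat).charpoly.eval 1 = 0 := by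
        apply φ.injective
        have h := hμ
        rw [h1, Polynomial.IsRoot.def, hA, Matrix.charpoly_map, ← map_one φ,
          Polynomial.eval_map_apply] at h
        rw [h, map_zero]
      rw [Matrix.eval_charpoly, map_one] at h0
      obtain ⟨v, hv, hv0⟩ := Matrix.exists_mulVec_eq_zero_iff.2 h0
      rw [sub_mulVec, one_mulVec, sub_eq_zero] at hv0
      exact hno v hv hv0.symm
  let ψ : L →+* L := (frobenius L 2).comp (frobenius L 2)
  have hψ : ∀ μ, ψ μ = μ ^ 4 := fun μ => by
    simp only [ψ, RingHom.comp_apply, frobenius_def]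
    rw [← pow_mul]
  have hRψ : R.map ψ = R := by
    have e : A.charpoly.map ψ = A.charpoly := by
      rw [hA, Matrix.charpoly_map, Polynomial.map_map]
      congr 1
      ext a
      rw [RingHom.comp_apply, hψ, ← map_pow, hF]
    rw [hR, ← (IsAlgClosed.splits A.charpoly).roots_map_of_injective ψ.injective, e]
  have hdeg : R.card = 4 := by
    rw [hR, IsAlgClosed.card_roots_eq_natDegree, Matrix.charpoly_natDegree_eq_dim]; simp
  have hmove : ∀ μ ∈ R, ψ μ ≠ μ ∧ ψ (ψ μ) = μ ∧
      (μ + ψ μ) * (μ + ψ μ) + (μ + ψ μ) + 1 = 0 := by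
    intro μ hμ
    obtain ⟨h5, h1⟩ := hroot μ hμ
    have hμ0 : μ ≠ 0 := fun e => by simp [e] at h5
    have hm : μ ^ 4 + μ ^ 3 + μ ^ 2 + μ + 1 = 0 := by
      refine (mul_eq_zero.1 (?_ : (μ - 1) * _ = 0)).resolve_left (sub_ne_zero.2 h1)
      linear_combination h5
    rw [hψ]
    refine ⟨fun e => h1 ?_, ?_, ?_⟩
    · have e3 : μ ^ 3 = 1 := mul_right_cancel₀ hμ0 (by linear_combination e)
      have e2 : μ ^ 2 = 1 := mul_left_cancel₀ (pow_ne_zero 3 hμ0) (by rw [← pow_add, h5, mul_one, e3])
      linear_combination e3 - μ * e2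
    · rw [hψ, ← pow_mul, show 4 * 4 = 5 * 3 + 1 from rfl, pow_succ, pow_mul, h5, one_pow, one_mul]
    · have h20 : (2 : L) = 0 := CharTwo.two_eq_zero
      linear_combination hm + (μ ^ 3) * h5 + (μ ^ 5) * h20
  obtain ⟨μ, hμ⟩ := Multiset.card_pos_iff_exists_mem.1 (by rw [hdeg]; norm_num : 0 < R.card)
  have hψμ : ψ μ ∈ R := hRψ ▸ Multiset.mem_map_of_mem ψ hμ
  obtain ⟨R₁, hR₁⟩ := Multiset.exists_cons_of_mem hμ
  have hψμ₁ : ψ μ ∈ R₁ := by
    rw [hR₁, Multiset.mem_cons] at hψμ
    exact hψμ.resolve_left (hmove μ hμ).1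
  obtain ⟨R₂, hR₂⟩ := Multiset.exists_cons_of_mem hψμ₁
  have hR₂ψ : R₂.map ψ = R₂ := by
    have h := hRψ
    rw [hR₁, hR₂, Multiset.map_cons, Multiset.map_cons, (hmove μ hμ).2.1, Multiset.cons_swap] at h
    exact (Multiset.cons_inj_right _).1 ((Multiset.cons_inj_right _).1 h)
  have hc2 : R₂.card = 2 := by
    have h := hdeg
    rw [hR₁, hR₂, Multiset.card_cons, Multiset.card_cons] at h
    omega
  obtain ⟨a, b, hab⟩ := Multiset.card_eq_two.1 hc2
  have ha : a ∈ R := by rw [hR₁, hR₂, hab]; simp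
  have hb : ψ a = b := by
    have h : ψ a ∈ R₂ := hR₂ψ ▸ Multiset.mem_map_of_mem ψ (by rw [hab]; simp)
    rw [hab, Multiset.insert_eq_cons, Multiset.mem_cons, Multiset.mem_singleton] at h
    exact h.resolve_left (hmove a ha).1
  have hsum : φ (x : Mat).trace = (μ + ψ μ) + (a + ψ a) := by
    rw [show φ (x : Mat).trace = A.trace from AddMonoidHom.map_trace φ.toAddMonoidHom (x : Mat),
      Matrix.trace_eq_sum_roots_charpoly, ← hR, hR₁, hR₂, hab, hb]
    simp [add_assoc]
  apply ht
  apply φ.injective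
  rw [map_mul, hsum]
  have e1 := (hmove μ hμ).2.2
  have e2 := (hmove a ha).2.2
  have h20 : (2 : L) = 0 := CharTwo.two_eq_zero
  linear_combination e1 + e2 + ((μ + ψ μ) * (a + ψ a) - (μ + ψ μ) - (a + ψ a) - 1) * h20

/-- A fixed vector of an element of order five spans, with a second one, a fixed plane. -/
theorem fixed_plane (h2 : (2 : F) = 0) {x : GL4} (hxs : x ∈ Cfsg.spGL 2 F) (hx : x ^ 5 = 1)
    {v : Vec} (hv : v ≠ 0) (hxv : (x : Mat) *ᵥ v = v) :
    ∃ w : Vec, Indep v w ∧ (x : Mat) *ᵥ w = w := by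
  obtain ⟨z, hz⟩ := f_nd hv
  have hpow : ∀ n : ℕ, ((x ^ n : GL4) : Mat) *ᵥ v = v := fun n => by
    induction n with
    | zero => simp
    | succ n ih => rw [pow_succ, gl_mul_mulVec, hxv, ih]
  refine ⟨∑ i ∈ Finset.range 5, ((x ^ i : GL4) : Mat) *ᵥ z, indep_of_form ?_, ?_⟩
  · have h : ∀ i : ℕ, f₄ v (((x ^ i : GL4) : Mat) *ᵥ z) = f₄ v z := fun i => by
      conv_lhs => rw [← hpow i]
      exact f_map (pow_mem hxs i) v z
    simp only [Finset.sum_range_succ, Finset.sum_range_zero, zero_add, f_addr, h]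
    intro e
    exact hz (by linear_combination e - 2 * (f₄ v z) * h2)
  · rw [Matrix.mulVec_sum]
    simp only [← gl_mul_mulVec, ← pow_succ']
    rw [Finset.sum_range_succ, hx, Finset.sum_range_succ' (fun i => ((x ^ i : GL4) : Mat) *ᵥ z) 4,
      pow_zero]

variable {P : Subgroup (Matrix.GeneralLinearGroup (Fin 2 ⊕ Fin 2) F)}

/-- The case of `A₆`. -/
theorem Setting.no_alt_six (S : Setting P) (h4 : 4 ≤ Fintype.card F)
    (habs : Cfsg.Geo.ActsAbsolutelyIrreducibly (Cfsg.Geo.matrixSet P))
    (hnos : ∀ E : Subfield F, E ≠ ⊤ → ¬ Cfsg.Geo.RealisableOver E (Cfsg.Geo.matrixSet P))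
    (e : P ≃* alternatingGroup (Fin 6)) : False := by
  classical
  have h2 := S.two
  haveI : Fact (Nat.Prime 5) := ⟨by norm_num⟩
  haveI := S.simple
  have hP : Nat.card P = 360 := by
    rw [Nat.card_congr e.toEquiv, nat_card_alternatingGroup, Nat.card_eq_fintype_card, Fintype.card_fin]
    norm_num [Nat.factorial]
  have hord : ∀ g ∈ P, g ^ 4 = 1 ∨ g ^ 3 = 1 ∨ g ^ 5 = 1 := by
    intro g hg
    have h := alt_six_orders (e ⟨g, hg⟩ : Equiv.Perm (Fin 6)) (Equiv.Perm.mem_alternatingGroup.1 (e ⟨g, hg⟩).2)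
    have key : ∀ n : ℕ, ((e ⟨g, hg⟩ : Equiv.Perm (Fin 6))) ^ n = 1 → g ^ n = 1 := fun n hn => by
      have h1 : e (⟨g, hg⟩ ^ n) = 1 := by rw [map_pow]; exact Subtype.ext hn
      rw [MulEquiv.map_eq_one_iff] at h1
      exact congrArg Subtype.val h1
    rcases h with h | h | h
    · exact Or.inl (key 4 h)
    · exact Or.inr (Or.inl (key 3 h))
    · exact Or.inr (Or.inr (key 5 h))
  have htr : ∀ g ∈ P, (g : Mat).trace ^ 4 = (g : Mat).trace ∧
      ((g : Mat).trace * (g : Mat).trace ≠ (g : Mat).trace → g ≠ 1 ∧ g ^ 5 = 1) := by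
    intro g hg
    have hgs := S.le hg
    rcases hord g hg with h | h | h
    · have ht := trace_two_element h2 (e := 2) (by simpa using h)
      rw [ht]; simp
    · have hsq : g ^ 2 = g⁻¹ := eq_inv_of_mul_eq_one_left (by rw [← pow_succ, h])
      have ht : (g : Mat).trace * (g : Mat).trace = (g : Mat).trace := by
        rw [← trace_mul_self h2, ← Units.val_mul, ← pow_two, hsq, trace_inv h2 hgs]
      exact ⟨by linear_combination ((g : Mat).trace * (g : Mat).trace + (g : Mat).trace + 1) * ht,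
        fun hne => absurd ht hne⟩
    · have h4g : g ^ (2 ^ 2) = g⁻¹ := eq_inv_of_mul_eq_one_left (by rw [← pow_succ]; exact h)
      have ht := trace_pow_two_pow h2 g 2
      rw [h4g, trace_inv h2 hgs] at ht
      refine ⟨by simpa using ht.symm, fun hne => ⟨fun h1 => hne ?_, h⟩⟩
      rw [h1, trace_one h2, mul_zero]
  have htop : fixField (F := F) h2 2 = ⊤ := by
    by_contra hne
    exact hnos _ hne (Cfsg.Agent.Lib.Mitchell96.realisable_of_trace habs _ fun g hg =>
      (mem_fixField h2).2 (by simpa using (htr g hg).1))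
  have hFc : Fintype.card F = 4 := le_antisymm (card_le_of_fixField h2 (by norm_num) htop) h4
  have hF : ∀ a : F, a ^ 4 = a := fun a => by
    simpa using (mem_fixField h2).1 (htop ▸ Subfield.mem_top a : a ∈ fixField h2 2)
  obtain ⟨x, hx, hxt⟩ : ∃ x ∈ P, (x : Mat).trace * (x : Mat).trace ≠ (x : Mat).trace := by
    by_contra! hall
    have htop1 : fixField (F := F) h2 1 = ⊤ := by
      by_contra hne
      exact hnos _ hne (Cfsg.Agent.Lib.Mitchell96.realisable_of_trace habs _ fun g hg =>
        (mem_fixField h2).2 (by rw [pow_one, pow_two]; exact hall g hg))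
    have := card_le_of_fixField h2 le_rfl htop1
    omega
  obtain ⟨hx1, hx5⟩ := (htr x hx).2 hxt
  obtain ⟨v₀, hv₀, hxv₀⟩ := exists_fixed h2 hF hx5 hxt
  obtain ⟨w₀, hw₀, hxw₀⟩ := fixed_plane h2 (S.le hx) hx5 hv₀ hxv₀
  -- every element of order five fixes a plane
  have hplane : ∀ g : P, g ≠ 1 → g ^ 5 = 1 → ∃ v w : Vec, Indep v w ∧
      ((g : GL4) : Mat) *ᵥ v = v ∧ ((g : GL4) : Mat) *ᵥ w = w := by
    intro g hg1 hg5
    have hcard : ∀ y : P, y ≠ 1 → y ^ 5 = 1 → Nat.card (Subgroup.zpowers y) = 5 ^ (Nat.card P).factorization 5 := by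
      intro y hy1 hy5
      rw [Nat.card_zpowers, orderOf_eq_prime hy5 hy1, hP]
      have h45 : (360 : ℕ).factorization 5 = 1 := by
        rw [show (360 : ℕ) = 5 ^ 1 * 72 by norm_num,
          Nat.factorization_mul (by norm_num) (by norm_num), Finsupp.add_apply,
          Nat.Prime.factorization_pow (by norm_num), Finsupp.single_eq_same,
          Nat.factorization_eq_zero_of_not_dvd (by norm_num)]
      rw [h45, pow_one]
    obtain ⟨c, hc⟩ := MulAction.exists_smul_eq P
      (Sylow.ofCard (Subgroup.zpowers (⟨x, hx⟩ : P)) (hcard _ (fun h => hx1 (congrArg Subtype.val h))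
        (Subtype.ext hx5)))
      (Sylow.ofCard (Subgroup.zpowers g) (hcard g hg1 hg5))
    have hmem : g ∈ (Sylow.ofCard (Subgroup.zpowers g) (hcard g hg1 hg5) : Subgroup P) :=
      Subgroup.mem_zpowers g
    rw [← hc, Sylow.coe_subgroup_smul, Subgroup.mem_pointwise_smul_iff_inv_smul_mem] at hmem
    obtain ⟨n, hn⟩ := Subgroup.mem_zpowers_iff.1 hmem
    have hg : (g : GL4) = (c : GL4) * x ^ n * (c : GL4)⁻¹ := by
      have h := congrArg (fun z : P => (c : GL4) * (z : GL4) * (c : GL4)⁻¹) hn
      simp only [MulAut.smul_def, map_inv, MulAut.inv_apply, MulAut.conj_symm_apply, Subgroup.coe_mul,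
        Subgroup.coe_inv, Subgroup.coe_zpow] at h
      rw [h]; group
    have hfix : ∀ u : Vec, (x : Mat) *ᵥ u = u →
        ((g : GL4) : Mat) *ᵥ ((c : GL4) : Mat) *ᵥ u = ((c : GL4) : Mat) *ᵥ u := by
      intro u hu
      rw [hg, gl_mul_mulVec, gl_mul_mulVec, gl_inv_mulVec]
      congr 1
      let St : Subgroup GL4 :=
        { carrier := {z | (z : Mat) *ᵥ u = u}
          one_mem' := by simp
          mul_mem' := fun {a b} (ha : (a : Mat) *ᵥ u = u) (hb : (b : Mat) *ᵥ u = u) => by
            show ((a * b : GL4) : Mat) *ᵥ u = u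
            rw [gl_mul_mulVec, hb, ha]
          inv_mem' := fun {a} (ha : (a : Mat) *ᵥ u = u) => by
            show ((a⁻¹ : GL4) : Mat) *ᵥ u = u
            conv_lhs => rw [← ha]
            exact gl_inv_mulVec a u }
      exact St.zpow_mem (show x ∈ St from hu) n
    refine ⟨_, _, ⟨?_, ?_⟩, hfix v₀ hxv₀, hfix w₀ hxw₀⟩
    · intro h
      exact hw₀.1 (gl_mulVec_injective (c : GL4) (h.trans (mulVec_zero _).symm))
    · intro r h
      rw [← mulVec_smul] at h
      exact hw₀.2 r (gl_mulVec_injective (c : GL4) h)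
  -- count
  let T : Finset P := Finset.univ.filter fun g => g ≠ 1 ∧ g ^ 5 = 1
  have hT : T.card = 144 := by
    rw [show T.card = Nat.card {g : P // g ≠ 1 ∧ g ^ 5 = 1} by
      rw [Nat.card_eq_fintype_card, Fintype.card_subtype]]
    rw [← alt_six_fives]
    exact Nat.card_congr (Equiv.subtypeEquiv e.toEquiv fun g => by
      simp [← map_pow, MulEquiv.map_eq_one_iff])
  obtain ⟨v, hv, hv4⟩ : ∃ v : Vec, v ≠ 0 ∧ 4 < (T.filter fun g : P => ((g : GL4) : Mat) *ᵥ v = v).card := by
    by_contra! hall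
    set V₀ : Finset Vec := Finset.univ.erase 0 with hV₀
    have hV : V₀.card = 255 := by
      rw [hV₀, Finset.card_erase_of_mem (Finset.mem_univ _), Finset.card_univ, Fintype.card_fun, hFc]
      norm_num
    have hup : (∑ v ∈ V₀, (T.filter fun g : P => ((g : GL4) : Mat) *ᵥ v = v).card) ≤ 255 * 4 := by
      rw [← hV, ← smul_eq_mul]
      exact Finset.sum_le_card_nsmul _ _ _ fun v hv => hall v (Finset.mem_erase.1 hv).1
    have hswap : (∑ v ∈ V₀, (T.filter fun g : P => ((g : GL4) : Mat) *ᵥ v = v).card) =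
        ∑ g ∈ T, (V₀.filter fun v => ((g : GL4) : Mat) *ᵥ v = v).card := by
      simp only [Finset.card_filter]
      exact Finset.sum_comm
    have hlo : 144 * 15 ≤ ∑ g ∈ T, (V₀.filter fun v => ((g : GL4) : Mat) *ᵥ v = v).card := by
      rw [← hT, ← smul_eq_mul]
      refine Finset.card_nsmul_le_sum _ _ _ fun g hg => ?_
      obtain ⟨a, b, hab, ha, hb⟩ := hplane g (Finset.mem_filter.1 hg).2.1 (Finset.mem_filter.1 hg).2.2
      have hinj : Function.Injective fun rs : F × F => rs.1 • a + rs.2 • b := by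
        intro p q hpq
        obtain ⟨e1, e2⟩ := hab.eq_zero (a := p.1 - q.1) (b := p.2 - q.2) (by
          simp only at hpq
          calc (p.1 - q.1) • a + (p.2 - q.2) • b = (p.1 • a + p.2 • b) - (q.1 • a + q.2 • b) := by module
            _ = 0 := by rw [hpq, sub_self])
        exact Prod.ext (sub_eq_zero.1 e1) (sub_eq_zero.1 e2)
      calc 15 = ((Finset.univ : Finset (F × F)).erase 0).card := by
            rw [Finset.card_erase_of_mem (Finset.mem_univ _), Finset.card_univ, Fintype.card_prod, hFc]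
        _ ≤ _ := Finset.card_le_card_of_injOn (fun rs => rs.1 • a + rs.2 • b) (fun rs hrs => by
            rw [Finset.mem_coe, Finset.mem_erase] at hrs
            rw [Finset.mem_coe, Finset.mem_filter, hV₀, Finset.mem_erase]
            refine ⟨⟨fun h0 => hrs.1 (hinj (show _ = (0 : F × F).1 • a + (0 : F × F).2 • b by
              simpa using h0)), Finset.mem_univ _⟩, ?_⟩
            rw [mulVec_add, mulVec_smul, mulVec_smul, ha, hb]) hinj.injOn
    omega
  -- the stabiliser
  let H : Subgroup P :=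
    { carrier := {g | ((g : GL4) : Mat) *ᵥ v = v}
      one_mem' := by simp
      mul_mem' := fun {a b} (ha : ((a : GL4) : Mat) *ᵥ v = v) (hb : ((b : GL4) : Mat) *ᵥ v = v) => by
        show (((a * b : P) : GL4) : Mat) *ᵥ v = v
        rw [Subgroup.coe_mul, gl_mul_mulVec, hb, ha]
      inv_mem' := fun {a} (ha : ((a : GL4) : Mat) *ᵥ v = v) => by
        show (((a⁻¹ : P) : GL4) : Mat) *ᵥ v = v
        conv_lhs => rw [← ha]
        rw [Subgroup.coe_inv, gl_inv_mulVec] }
  have hHtop : H ≠ ⊤ := by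
    intro h
    rcases S.irr (Submodule.span F {v}) (fun g hg w hw => by
      obtain ⟨r, rfl⟩ := Submodule.mem_span_singleton.1 hw
      rw [mulVec_smul, show (g : Mat) *ᵥ v = v from (h ▸ Subgroup.mem_top _ : (⟨g, hg⟩ : P) ∈ H)]
      exact Submodule.smul_mem _ _ (Submodule.mem_span_singleton_self v)) with h' | h'
    · exact hv (Submodule.span_singleton_eq_bot.1 h')
    · have h1 : finrank F (Submodule.span F {v}) = 4 := by rw [h', finrank_top]; simp
      rw [finrank_span_singleton hv] at h1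
      omega
  have hidx6 : 6 ≤ H.index := by
    have hd := Cfsg.Agent.Lib.Alternating.card_dvd_factorial_of_simple H hHtop
    rw [hP] at hd
    by_contra hlt
    interval_cases H.index <;> norm_num [Nat.factorial] at hd
  have hmul := H.card_mul_index
  rw [hP] at hmul
  have hH60 : Nat.card H = 60 := by
    refine card_of_fives ⟨H.index, hmul.symm⟩ ?_ (hv4.trans_le ?_)
    · nlinarith
    · rw [Nat.card_eq_fintype_card, Fintype.card_subtype]
      refine Finset.card_le_card_of_injOn (fun g => if hg : g ∈ H then ⟨g, hg⟩ else 1)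
        (fun g hg => ?_) fun a ha b hb hab => ?_
      · rw [Finset.mem_coe, Finset.mem_filter] at hg
        beta_reduce
        rw [dif_pos (show g ∈ H from hg.2), Finset.mem_coe, Finset.mem_filter]
        obtain ⟨hg1, hg5⟩ := (Finset.mem_filter.1 hg.1).2
        exact ⟨Finset.mem_univ _, fun h => hg1 (congrArg Subtype.val h), Subtype.ext hg5⟩
      · rw [Finset.mem_coe, Finset.mem_filter] at ha hb
        simp only [dif_pos (show a ∈ H from ha.2), dif_pos (show b ∈ H from hb.2)] at hab
        exact congrArg Subtype.val hab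
  have hidx : H.index = 6 := by rw [hH60] at hmul; omega
  -- the permutation module
  let X := P ⧸ H
  have := Fintype.ofFinite X
  have hX : Fintype.card X = 6 := by rw [← Nat.card_eq_fintype_card]; exact hidx
  let π : X → Vec := Quotient.lift (fun g : P => ((g : GL4) : Mat) *ᵥ v) (fun a b hab => by
    have hm : ((((a⁻¹ * b : P)) : GL4) : Mat) *ᵥ v = v := QuotientGroup.leftRel_apply.1 hab
    conv_lhs => rw [← hm]
    rw [Subgroup.coe_mul, gl_mul_mulVec, Subgroup.coe_inv, gl_mulVec_inv])
  have hπ : ∀ (g : P) (z : X), π (g • z) = ((g : GL4) : Mat) *ᵥ π z := by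
    intro g z
    induction z using QuotientGroup.induction_on with
    | H a =>
      show (((g * a : P) : GL4) : Mat) *ᵥ v = _
      rw [Subgroup.coe_mul, gl_mul_mulVec]
      rfl
  let L : (X → F) →ₗ[F] Vec :=
    { toFun := fun c => ∑ z, c z • π z
      map_add' := fun c d => by simp only [Pi.add_apply, add_smul, Finset.sum_add_distrib]
      map_smul' := fun r c => by
        simp only [Pi.smul_apply, smul_eq_mul, RingHom.id_apply, Finset.smul_sum, smul_smul] }
  have hequiv : ∀ (g : P) (c : X → F), L (fun z => c (g • z)) = ((g⁻¹ : P) : GL4).val *ᵥ L c := by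
    intro g c
    show ∑ z, c (g • z) • π z = _ *ᵥ ∑ z, c z • π z
    rw [Matrix.mulVec_sum, ← Equiv.sum_comp (MulAction.toPerm g) fun z => ((g⁻¹ : P) : GL4).val *ᵥ (c z • π z)]
    refine Finset.sum_congr rfl fun z _ => ?_
    rw [MulAction.toPerm_apply, mulVec_smul, ← hπ, inv_smul_smul]
  have hsurj : LinearMap.range L = ⊤ := by
    refine (S.irr (LinearMap.range L) fun g hg w hw => ?_).resolve_left fun h => ?_
    · obtain ⟨c, rfl⟩ := hw
      refine ⟨fun z => c ((⟨g, hg⟩ : P)⁻¹ • z), ?_⟩
      rw [hequiv, inv_inv]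
    · refine hv ?_
      have hmem : L (Pi.single (QuotientGroup.mk (1 : P)) 1) ∈ LinearMap.range L := ⟨_, rfl⟩
      rw [h, Submodule.mem_bot] at hmem
      have hsingle : L (Pi.single (QuotientGroup.mk (1 : P)) 1) = v := by
        show ∑ z, _ • π z = v
        rw [Finset.sum_eq_single (QuotientGroup.mk (1 : P))]
        · rw [Pi.single_eq_same, one_smul]
          show (((1 : P) : GL4) : Mat) *ᵥ v = v
          simp
        · intro z _ hz
          rw [Pi.single_eq_of_ne hz, zero_smul]
        · intro h0; exact absurd (Finset.mem_univ _) h0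
      rw [← hsingle]; exact hmem
  have hker : finrank F (LinearMap.ker L) = 2 := by
    have h := LinearMap.finrank_range_add_finrank_ker L
    rw [hsurj, finrank_top, finrank_fintype_fun_eq_card, finrank_fintype_fun_eq_card, hX] at h
    simp only [Fintype.card_sum, Fintype.card_fin] at h
    omega
  obtain ⟨c, hc, a, b, hab⟩ : ∃ c ∈ LinearMap.ker L, ∃ a b, c a ≠ c b := by
    by_contra! hconst
    have hle : LinearMap.ker L ≤ Submodule.span F {fun _ : X => (1 : F)} := fun c hc => by
      refine Submodule.mem_span_singleton.2 ⟨c (QuotientGroup.mk (1 : P)), funext fun z => ?_⟩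
      simp only [Pi.smul_apply, smul_eq_mul, mul_one]
      exact hconst c hc _ z
    have h1 := (Submodule.finrank_mono hle).trans (finrank_span_singleton
      (fun h => one_ne_zero (congrFun h (QuotientGroup.mk (1 : P))))).le
    omega
  have hle := five_le_finrank hFc hX (LinearMap.ker L) ?_ hc hab
  · omega
  intro σ hσ c hc
  let ρ := MulAction.toPermHom P X
  have hρ : Function.Injective ρ := by
    refine (MonoidHom.ker_eq_bot_iff ρ).1 ((MonoidHom.normal_ker ρ).eq_bot_or_eq_top.resolve_right fun h => ?_)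
    apply hHtop
    rw [eq_top_iff, ← h, ← Subgroup.normalCore_eq_ker]
    exact H.normalCore_le
  have hrange : ρ.range = alternatingGroup X := by
    apply Equiv.Perm.eq_alternatingGroup_of_index_eq_two
    have h := ρ.range.card_mul_index
    rw [← Nat.card_congr (MonoidHom.ofInjective hρ).toEquiv, hP, Nat.card_perm,
      Nat.card_eq_fintype_card, hX] at h
    norm_num [Nat.factorial] at h
    omega
  obtain ⟨g, hg⟩ : σ ∈ ρ.range := hrange ▸ Equiv.Perm.mem_alternatingGroup.2 hσ
  rw [LinearMap.mem_ker] at hc ⊢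
  rw [show c ∘ σ = fun z => c (g • z) by funext z; rw [← hg]; rfl, hequiv, hc, mulVec_zero]

end Cfsg.Agent.Lib.Sp4Res55
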