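import Cfsg.Agent.Lib.Subspaces.SympGen
import Cfsg.Prelude.Def_GeometricClasses

/-!
The four-dimensional symplectic space in characteristic two: transvections and perpendiculars.
Owner: helper55.
-/
set_option autoImplicit false
set_option linter.unusedSectionVars false

namespace Cfsg.Agent.Lib.Sp4Res55

open Matrix Module Cfsg.Agent.Lib.Subspaces.Transvection Cfsg.Agent.Lib.Subspaces.FormVec
  Cfsg.Agent.Lib.Subspaces.SympGen

variable {F : Type*} [Field F]

local notation "ι₄" => Fin 2 ⊕ Fin 2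
local notation "Vec" => Fin 2 ⊕ Fin 2 → F
local notation "Mat" => Matrix (Fin 2 ⊕ Fin 2) (Fin 2 ⊕ Fin 2) F
local notation "GL4" => Matrix.GeneralLinearGroup (Fin 2 ⊕ Fin 2) F
local notation "f₄" => Cfsg.sympForm 2 F

/-- The symplectic transvection `x ↦ x + a f(x,v) v`. -/
noncomputable def sv (v : Fin 2 ⊕ Fin 2 → F) (a : F) :
    Matrix.GeneralLinearGroup (Fin 2 ⊕ Fin 2) F :=
  tv v (a • formVec (Cfsg.sympForm 2 F) v)

theorem hf : Cfsg.Geo.IsSymplecticForm f₄ := sympForm_isSymplectic 2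

theorem f_addl (x y v : Vec) : f₄ (x + y) v = f₄ x v + f₄ y v := hf.bilinear.add_left x y v
theorem f_addr (v x y : Vec) : f₄ v (x + y) = f₄ v x + f₄ v y := hf.bilinear.add_right v x y
theorem f_smull (c : F) (x v : Vec) : f₄ (c • x) v = c * f₄ x v := hf.bilinear.smul_left c x v
theorem f_smulr (c : F) (v x : Vec) : f₄ v (c • x) = c * f₄ v x := hf.bilinear.smul_right c v x
theorem f_self (x : Vec) : f₄ x x = 0 := hf.alternating x

theorem f_zerol (x : Vec) : f₄ 0 x = 0 := by simpa using f_smull 0 x x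
theorem f_zeror (x : Vec) : f₄ x 0 = 0 := by simpa using f_smulr 0 x x

theorem f_nd {v : Vec} (hv : v ≠ 0) : ∃ x, f₄ v x ≠ 0 := (hf.nondegenerate v hv).2

theorem eq_zero_of_orth {v : Vec} (h : ∀ x, f₄ v x = 0) : v = 0 := by
  by_contra hv
  obtain ⟨x, hx⟩ := f_nd hv
  exact hx (h x)

theorem sv_mulVec (v : Vec) (a : F) (x : Vec) : (sv v a : Mat) *ᵥ x = x + (a * f₄ x v) • v :=
  stv_mulVec hf v a x

theorem sv_mem (v : Vec) (a : F) : sv v a ∈ Cfsg.spGL 2 F := stv_mem_spGL v a

theorem f_map {g : GL4} (hg : g ∈ Cfsg.spGL 2 F) (x y : Vec) :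
    f₄ ((g : Mat) *ᵥ x) ((g : Mat) *ᵥ y) = f₄ x y := mem_spGL_iff.mp hg x y

theorem f_map_inv {g : GL4} (hg : g ∈ Cfsg.spGL 2 F) (x y : Vec) :
    f₄ (((g⁻¹ : GL4) : Mat) *ᵥ x) y = f₄ x ((g : Mat) *ᵥ y) := by
  rw [← f_map hg (((g⁻¹ : GL4) : Mat) *ᵥ x) y, gl_mulVec_inv]

theorem conj_sv {g : GL4} (hg : g ∈ Cfsg.spGL 2 F) (v : Vec) (a : F) :
    g * sv v a * g⁻¹ = sv ((g : Mat) *ᵥ v) a := by
  refine gl_ext fun x => ?_
  rw [gl_mul_mulVec, gl_mul_mulVec, sv_mulVec, sv_mulVec, mulVec_add, gl_mulVec_inv, mulVec_smul,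
    f_map_inv hg]

theorem sv_zero (v : Vec) : sv v (0 : F) = 1 := by
  refine gl_ext fun x => ?_
  rw [sv_mulVec, Units.val_one, one_mulVec, zero_mul, zero_smul, add_zero]

theorem sv_add (v : Vec) (a b : F) : sv v a * sv v b = sv v (a + b) := by
  refine gl_ext fun x => ?_
  simp only [gl_mul_mulVec, sv_mulVec, f_addl, f_smull, f_self, mul_zero, add_zero]
  module

theorem sv_smul (c : F) (v : Vec) (a : F) : sv (c • v) a = sv v (c * c * a) := by
  refine gl_ext fun x => ?_
  simp only [sv_mulVec, f_smulr]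
  module

theorem sv_commute {v w : Vec} (h : f₄ v w = 0) (a b : F) : Commute (sv v a) (sv w b) := by
  have h' : f₄ w v = 0 := swap_eq_zero hf h
  refine gl_ext fun x => ?_
  simp only [gl_mul_mulVec, sv_mulVec, f_addl, f_smull, h, h', mul_zero, add_zero]
  module

theorem sv_ne_one {v : Vec} {a : F} (hv : v ≠ 0) (ha : a ≠ 0) : sv v a ≠ 1 := by
  intro h
  obtain ⟨x, hx⟩ := (hf.nondegenerate v hv).1
  have h1 := congrArg (fun g : GL4 => (g : Mat) *ᵥ x) h
  simp only [sv_mulVec, Units.val_one, one_mulVec, add_eq_left, smul_eq_zero, mul_eq_zero] at h1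
  rcases h1 with (h1 | h1) | h1
  exacts [ha h1, hx h1, hv h1]

/-- Two equal non-trivial transvections have proportional centres. -/
theorem sv_eq_sv {v w : Vec} {a b : F} (hv : v ≠ 0) (ha : a ≠ 0) (h : sv v a = sv w b) :
    ∃ c : F, c ≠ 0 ∧ w = c • v ∧ a = b * c * c := by
  obtain ⟨x, hx⟩ := (hf.nondegenerate v hv).1
  have h1 := congrArg (fun g : GL4 => (g : Mat) *ᵥ x) h
  simp only [sv_mulVec, add_right_inj] at h1
  have hb0 : b * f₄ x w ≠ 0 := fun e => by
    rw [e, zero_smul, smul_eq_zero, mul_eq_zero] at h1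
    rcases h1 with (h1 | h1) | h1
    exacts [ha h1, hx h1, hv h1]
  set c := (b * f₄ x w)⁻¹ * (a * f₄ x v)
  have hw : w = c • v := by rw [mul_smul, h1, smul_smul, inv_mul_cancel₀ hb0, one_smul]
  have hc : c ≠ 0 := mul_ne_zero (inv_ne_zero hb0) (mul_ne_zero ha hx)
  refine ⟨c, hc, hw, ?_⟩
  have h2 := congrArg (fun z => f₄ z x) h1
  rw [hw] at h2
  simp only [f_smull, f_smulr] at h2
  have hxv : f₄ v x ≠ 0 := fun e => hx (swap_eq_zero hf e)
  apply mul_right_cancel₀ (mul_ne_zero hx hxv)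
  linear_combination h2

section Char2

variable (h2 : (2 : F) = 0)
include h2

theorem f_comm (x y : Vec) : f₄ x y = f₄ y x := by
  rw [hf.skew x y]
  linear_combination (-(f₄ y x)) * h2

theorem vv (v : Vec) : v + v = 0 := by rw [← two_smul F v, h2, zero_smul]

theorem aa (a : F) : a + a = 0 := by linear_combination a * h2

theorem eq_of_add {a b : F} (h : a + b = 0) : a = b := by linear_combination h - b * h2

theorem vec_eq_of_add {v w : Vec} (h : v + w = 0) : v = w := by
  calc v = v + (w + w) := by rw [vv h2, add_zero]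
    _ = w := by rw [← add_assoc, h, zero_add]

theorem sv_sq (v : Vec) (a : F) : sv v a * sv v a = 1 := by rw [sv_add, aa h2, sv_zero]

theorem sv_inv (v : Vec) (a : F) : (sv v a)⁻¹ = sv v a :=
  inv_eq_of_mul_eq_one_right (sv_sq h2 v a)

theorem orderOf_sv {v : Vec} {a : F} (hv : v ≠ 0) (ha : a ≠ 0) : orderOf (sv v a) = 2 :=
  orderOf_eq_prime (by rw [pow_two, sv_sq h2]) (sv_ne_one hv ha)

end Char2

/-- Two vectors that are independent. -/
def Indep (u v : Fin 2 ⊕ Fin 2 → F) : Prop := u ≠ 0 ∧ ∀ c : F, v ≠ c • u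

theorem Indep.eq_zero {u v : Vec} (h : Indep u v) {a b : F} (e : a • u + b • v = 0) :
    a = 0 ∧ b = 0 := by
  by_cases hb : b = 0
  · subst hb
    rw [zero_smul, add_zero, smul_eq_zero] at e
    exact ⟨e.resolve_right h.1, rfl⟩
  · exfalso
    apply h.2 (-(b⁻¹ * a))
    have : b⁻¹ • (a • u + b • v) = 0 := by rw [e, smul_zero]
    rw [smul_add, smul_smul, smul_smul, inv_mul_cancel₀ hb, one_smul, add_comm,
      add_eq_zero_iff_eq_neg] at this
    rw [this, neg_smul]

theorem Indep.ne_right {u v : Vec} (h : Indep u v) : v ≠ 0 := fun e => h.2 0 (by rw [e, zero_smul])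

theorem Indep.symm {u v : Vec} (h : Indep u v) : Indep v u :=
  ⟨h.ne_right, fun c e => by
    have := h.eq_zero (a := 1) (b := -c) (by rw [one_smul, neg_smul, e, add_neg_cancel])
    exact one_ne_zero this.1⟩

theorem indep_of_form {u v : Vec} (h : f₄ u v ≠ 0) : Indep u v :=
  ⟨fun e => h (by rw [e, f_zerol]), fun c e => h (by rw [e, f_smulr, f_self, mul_zero])⟩

variable [Finite F]

/-- The vectors orthogonal to an independent orthogonal pair are its combinations. -/
theorem mem_of_orth_pair {u v x : Vec} (h : Indep u v) (huv : f₄ u v = 0)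
    (hu : f₄ x u = 0) (hv : f₄ x v = 0) : ∃ a b : F, x = a • u + b • v := by
  classical
  let L : Vec →ₗ[F] (Fin 2 → F) :=
    { toFun := fun z => ![f₄ z u, f₄ z v]
      map_add' := fun y z => by ext i; fin_cases i <;> simp [f_addl]
      map_smul' := fun c z => by ext i; fin_cases i <;> simp [f_smull] }
  have hsurj : LinearMap.range L = ⊤ := by
    by_contra hne
    obtain ⟨φ, hφ0, hφ⟩ := Submodule.exists_le_ker_of_lt_top _ (lt_top_iff_ne_top.2 hne)
    have hz : φ (Pi.single 0 1) • u + φ (Pi.single 1 1) • v = 0 := by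
      refine eq_zero_of_orth fun z => ?_
      have h1 : φ (L z) = 0 := hφ ⟨z, rfl⟩
      have h2 : L z = f₄ z u • Pi.single 0 1 + f₄ z v • Pi.single 1 1 := by
        ext i; fin_cases i <;> simp [L]
      rw [h2, map_add, map_smul, map_smul] at h1
      rw [f_addl, f_smull, f_smull, hf.skew u z, hf.skew v z]
      simp only [smul_eq_mul] at h1
      linear_combination -h1
    obtain ⟨h0, h1⟩ := h.eq_zero hz
    apply hφ0
    ext i
    fin_cases i
    · simpa using h0
    · simpa using h1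
  have hdim : finrank F (LinearMap.ker L) = 2 := by
    have := LinearMap.finrank_range_add_finrank_ker L
    rw [hsurj, finrank_top, finrank_fin_fun, finrank_fintype_fun_eq_card] at this
    simp only [Fintype.card_sum, Fintype.card_fin] at this
    omega
  have hmem : ∀ {y : Vec}, f₄ y u = 0 → f₄ y v = 0 → y ∈ LinearMap.ker L := fun hy1 hy2 => by
    rw [LinearMap.mem_ker]; ext i; fin_cases i <;> simp [L, hy1, hy2]
  have hle : Submodule.span F {u, v} ≤ LinearMap.ker L := by
    rw [Submodule.span_le]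
    rintro y (rfl | rfl)
    · exact hmem (f_self _) huv
    · exact hmem (swap_eq_zero hf huv) (f_self _)
  have hli : LinearIndependent F ![u, v] :=
    LinearIndependent.pair_iff.2 fun s t e => h.eq_zero e
  have h2d : finrank F (Submodule.span F {u, v}) = 2 := by
    rw [← Matrix.range_cons_cons_empty, finrank_span_eq_card hli]; rfl
  have := Submodule.eq_of_le_of_finrank_le hle (by omega)
  have hx := hmem hu hv
  rw [← this, Submodule.mem_span_pair] at hx
  obtain ⟨a, b, e⟩ := hx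
  exact ⟨a, b, e.symm⟩

end Cfsg.Agent.Lib.Sp4Res55
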