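import Cfsg.Agent.Lib.Sp4Res55.Centres

/-!
Involutions of the four-dimensional symplectic group whose associated form is not alternating and
which are no transvections: `x ↦ x + f(x,p) p + f(x,q) q` with `p`, `q` independent and orthogonal.
Owner: helper55.
-/
set_option autoImplicit false
set_option linter.unusedSectionVars false

namespace Cfsg.Agent.Lib.Sp4Res55

open Matrix Module Cfsg.Agent.Lib.Subspaces.Transvection Cfsg.Agent.Lib.Subspaces.SympGen

variable {F : Type*} [Field F] [Fintype F]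

local notation "Vec" => Fin 2 ⊕ Fin 2 → F
local notation "Mat" => Matrix (Fin 2 ⊕ Fin 2) (Fin 2 ⊕ Fin 2) F
local notation "GL4" => Matrix.GeneralLinearGroup (Fin 2 ⊕ Fin 2) F
local notation "f₄" => Cfsg.sympForm 2 F

/-- The shape of an involution of the third class. -/
structure C2 (g : Matrix.GeneralLinearGroup (Fin 2 ⊕ Fin 2) F) (p q : Fin 2 ⊕ Fin 2 → F) :
    Prop where
  indep : Indep p q
  orth : Cfsg.sympForm 2 F p q = 0
  act : ∀ x : Fin 2 ⊕ Fin 2 → F, (g : Matrix (Fin 2 ⊕ Fin 2) (Fin 2 ⊕ Fin 2) F) *ᵥ x =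
    x + Cfsg.sympForm 2 F x p • p + Cfsg.sympForm 2 F x q • q

/-- A dual vector. -/
theorem exists_dual {p q : Vec} (h : Indep p q) : ∃ x, f₄ x p = 1 ∧ f₄ x q = 0 := by
  by_contra! hc
  obtain ⟨y₀, hy₀⟩ := (hf.nondegenerate q h.ne_right).1
  set y := (f₄ y₀ q)⁻¹ • y₀ with hy
  have hyq : f₄ y q = 1 := by rw [hy, f_smull, inv_mul_cancel₀ hy₀]
  have hzero : ∀ x, f₄ x q = 0 → f₄ x p = 0 := fun x hx => by
    by_contra hxp
    exact hc ((f₄ x p)⁻¹ • x) (by rw [f_smull, inv_mul_cancel₀ hxp]) (by rw [f_smull, hx, mul_zero])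
  refine h.symm.2 (f₄ y p) (sub_eq_zero.1 (eq_zero_of_orth fun x => ?_))
  apply swap_eq_zero hf
  have hs : ∀ v w : Vec, f₄ x (v - w) = f₄ x v - f₄ x w := fun v w => by
    rw [sub_eq_add_neg, ← neg_one_smul F w, f_addr, f_smulr]; ring
  rw [hs, f_smulr]
  have h0 := hzero (x + (-(f₄ x q)) • y) (by rw [f_addl, f_smull, hyq]; ring)
  rw [f_addl, f_smull] at h0
  linear_combination h0

namespace C2

variable {g : Matrix.GeneralLinearGroup (Fin 2 ⊕ Fin 2) F} {p q : Fin 2 ⊕ Fin 2 → F}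

theorem fix_left (h2 : (2 : F) = 0) (h : C2 g p q) : (g : Mat) *ᵥ p = p := by
  rw [h.act, f_self, h.orth, zero_smul, zero_smul, add_zero, add_zero]

theorem fix_right (h2 : (2 : F) = 0) (h : C2 g p q) : (g : Mat) *ᵥ q = q := by
  rw [h.act, f_self, f_comm h2 q p, h.orth, zero_smul, zero_smul, add_zero, add_zero]

/-- The fixed vectors are the combinations of `p` and `q`. -/
theorem mem_of_fix (h : C2 g p q) {x : Vec} (hx : (g : Mat) *ᵥ x = x) :
    ∃ r s : F, x = r • p + s • q := by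
  rw [h.act, add_assoc, add_eq_left] at hx
  obtain ⟨h1, h2'⟩ := h.indep.eq_zero hx
  exact mem_of_orth_pair h.indep h.orth h1 h2'

theorem fix_of_mem (h2 : (2 : F) = 0) (h : C2 g p q) (r s : F) :
    (g : Mat) *ᵥ (r • p + s • q) = r • p + s • q := by
  rw [mulVec_add, mulVec_smul, mulVec_smul, h.fix_left h2, h.fix_right h2]

/-- The associated form is the square of `f · (p + q)`. -/
theorem form (h2 : (2 : F) = 0) (h : C2 g p q) (x : Vec) :
    f₄ ((g : Mat) *ᵥ x) x = f₄ x (p + q) * f₄ x (p + q) := by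
  rw [h.act, f_addl, f_addl, f_smull, f_smull, f_self, f_addr, f_comm h2 p x, f_comm h2 q x]
  linear_combination (-(f₄ x p * f₄ x q)) * h2

/-- What commutes with the involution fixes `p + q` and moves `p`, `q` by the same multiple of it. -/
theorem of_commute (h2 : (2 : F) = 0) (h : C2 g p q) {k : GL4} (hk : k ∈ Cfsg.spGL 2 F)
    (hc : Commute k g) :
    ∃ t : F, (k : Mat) *ᵥ p = p + t • (p + q) ∧ (k : Mat) *ᵥ q = q + t • (p + q) := by
  have hfix : ∀ x, (g : Mat) *ᵥ x = x → (g : Mat) *ᵥ ((k : Mat) *ᵥ x) = (k : Mat) *ᵥ x := fun x hx => by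
    rw [← gl_mul_mulVec, ← hc.eq, gl_mul_mulVec, hx]
  obtain ⟨A, C, hkp⟩ := h.mem_of_fix (hfix p (h.fix_left h2))
  obtain ⟨B, D, hkq⟩ := h.mem_of_fix (hfix q (h.fix_right h2))
  have hrep : ∀ x, f₄ x ((k : Mat) *ᵥ p) • (k : Mat) *ᵥ p + f₄ x ((k : Mat) *ᵥ q) • (k : Mat) *ᵥ q =
      f₄ x p • p + f₄ x q • q := by
    intro x
    have e : (g : Mat) *ᵥ x = (k : Mat) *ᵥ ((g : Mat) *ᵥ (((k⁻¹ : GL4) : Mat) *ᵥ x)) := by
      rw [← gl_mul_mulVec, hc.eq, gl_mul_mulVec, gl_mulVec_inv]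
    rw [h.act, h.act, mulVec_add, mulVec_add, mulVec_smul, mulVec_smul, gl_mulVec_inv, f_map_inv hk,
      f_map_inv hk, add_assoc, add_assoc, add_right_inj] at e
    exact e.symm
  obtain ⟨x, hxp, hxq⟩ := exists_dual h.indep
  obtain ⟨y, hyq, hyp⟩ := exists_dual h.indep.symm
  have hx := hrep x
  have hy := hrep y
  rw [hkp, hkq] at hx hy
  simp only [f_addr, f_smulr, hxp, hxq, hyp, hyq, mul_one, mul_zero, add_zero, zero_add, one_smul,
    zero_smul] at hx hy
  have ex := h.indep.eq_zero (a := A * A + B * B + 1) (b := A * C + B * D) (by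
    have h0 : A • (A • p + C • q) + B • (B • p + D • q) + p = 0 := by rw [hx, vv h2]
    calc _ = A • (A • p + C • q) + B • (B • p + D • q) + p := by module
      _ = 0 := h0)
  have ey := h.indep.eq_zero (a := C * A + D * B) (b := C * C + D * D + 1) (by
    have h0 : C • (A • p + C • q) + D • (B • p + D • q) + q = 0 := by rw [hy, vv h2]
    calc _ = C • (A • p + C • q) + D • (B • p + D • q) + q := by module
      _ = 0 := h0)
  have hAB : A + B + 1 = 0 := mul_self_eq_zero.1 (by linear_combination ex.1 + (A * B + A + B) * h2)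
  have hCD : C + D + 1 = 0 := mul_self_eq_zero.1 (by linear_combination ey.2 + (C * D + C + D) * h2)
  have hBC : B + C = 0 := by
    linear_combination ex.2 - C * hAB - B * hCD + (B * C + B + C) * h2
  have hA : A = 1 + B := by linear_combination hAB - (1 + B) * h2
  have hC : C = B := by linear_combination hBC - B * h2
  have hD : D = 1 + B := by linear_combination hCD - hBC + (-1) * h2
  refine ⟨B, ?_, ?_⟩
  · rw [hkp, hA, hC]; module
  · rw [hkq, hD]; module

/-- The centraliser has exponent four. -/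
theorem pow_four (h2 : (2 : F) = 0) (h : C2 g p q) {k : GL4} (hk : k ∈ Cfsg.spGL 2 F)
    (hc : Commute k g) : k ^ 4 = 1 := by
  obtain ⟨t, hp, hq⟩ := h.of_commute h2 hk hc
  have ha : (k : Mat) *ᵥ (p + q) = p + q := by
    rw [mulVec_add, hp, hq]
    calc p + t • (p + q) + (q + t • (p + q)) = p + q + (t • (p + q) + t • (p + q)) := by abel
      _ = p + q := by rw [vv h2, add_zero]
  have h2v : ∀ {w : Vec}, (k : Mat) *ᵥ w = w + t • (p + q) → (k : Mat) *ᵥ ((k : Mat) *ᵥ w) = w := by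
    intro w hw
    rw [hw, mulVec_add, hw, mulVec_smul, ha, add_assoc, vv h2, add_zero]
  refine gl_ext fun x => ?_
  rw [Units.val_one, one_mulVec]
  set T : Vec → Vec := fun v => (k : Mat) *ᵥ ((k : Mat) *ᵥ v) + v with hT
  have hTW : ∀ r s : F, T (r • p + s • q) = 0 := fun r s => by
    simp only [hT, mulVec_add, mulVec_smul, h2v hp, h2v hq]
    exact vv h2 _
  have hNk : ∀ v : Vec, (g : Mat) *ᵥ T v = T ((g : Mat) *ᵥ v) := fun v => by
    simp only [hT, mulVec_add, ← gl_mul_mulVec]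
    rw [show g * (k * k) = k * k * g by rw [← mul_assoc, ← hc.eq, mul_assoc, ← hc.eq, mul_assoc]]
  have hfx : (g : Mat) *ᵥ T x = T x := by
    rw [hNk, h.act]
    have hadd : ∀ a b : Vec, T (a + b) = T a + T b := fun a b => by
      simp only [hT, mulVec_add]; abel
    rw [add_assoc, hadd, hTW, add_zero]
  obtain ⟨r, s, hrs⟩ := h.mem_of_fix hfx
  have h4 : T (T x) = 0 := by rw [hrs, hTW]
  simp only [hT, mulVec_add] at h4
  rw [show k ^ 4 = k * k * (k * k) by simp [pow_succ, mul_assoc], gl_mul_mulVec, gl_mul_mulVec, gl_mul_mulVec]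
  refine vec_eq_of_add h2 ?_
  calc (k : Mat) *ᵥ ((k : Mat) *ᵥ ((k : Mat) *ᵥ ((k : Mat) *ᵥ x))) + x
      = (k : Mat) *ᵥ ((k : Mat) *ᵥ ((k : Mat) *ᵥ ((k : Mat) *ᵥ x))) + (k : Mat) *ᵥ ((k : Mat) *ᵥ x) +
          ((k : Mat) *ᵥ ((k : Mat) *ᵥ x) + x) := by
        rw [add_assoc, ← add_assoc ((k : Mat) *ᵥ ((k : Mat) *ᵥ x)), vv h2, zero_add]
    _ = 0 := h4

/-- Commuting involutions share the fixed plane or the point. -/
theorem share (h2 : (2 : F) = 0) (h : C2 g p q) {k : GL4} {p' q' : Vec} (hk : k ∈ Cfsg.spGL 2 F)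
    (h' : C2 k p' q') (hc : Commute k g) :
    ((k : Mat) *ᵥ p = p ∧ (k : Mat) *ᵥ q = q) ∨ ∃ c : F, p' + q' = c • (p + q) := by
  obtain ⟨t, hp, hq⟩ := h.of_commute h2 hk hc
  by_cases ht : t = 0
  · subst ht
    simp only [zero_smul, add_zero] at hp hq
    exact Or.inl ⟨hp, hq⟩
  refine Or.inr ?_
  have e1 := h'.form h2 p
  have e2 := h'.form h2 q
  rw [hp, f_addl, f_self, f_smull, f_addl, f_self, f_comm h2 q p, h.orth] at e1
  rw [hq, f_addl, f_self, f_smull, f_addl, f_self, h.orth] at e2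
  simp only [add_zero, mul_zero, zero_add] at e1 e2
  have o1 : f₄ (p' + q') p = 0 := by
    rw [f_comm h2]; exact mul_self_eq_zero.1 e1.symm
  have o2 : f₄ (p' + q') q = 0 := by
    rw [f_comm h2]; exact mul_self_eq_zero.1 e2.symm
  obtain ⟨r, s, hrs⟩ := mem_of_orth_pair h.indep h.orth o1 o2
  have hfix : (k : Mat) *ᵥ (p' + q') = p' + q' := by
    rw [mulVec_add, h'.fix_left h2, h'.fix_right h2]
  rw [hrs, mulVec_add, mulVec_smul, mulVec_smul, hp, hq] at hfix
  have e := h.indep.eq_zero (a := r * t + s * t) (b := r * t + s * t) (by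
    have : r • (p + t • (p + q)) + s • (q + t • (p + q)) - (r • p + s • q) = 0 := sub_eq_zero.2 hfix
    rw [← this]; module)
  have hrs' : r = s := by
    refine eq_of_add h2 ((mul_eq_zero.1 (?_ : (r + s) * t = 0)).resolve_right ht)
    linear_combination e.1
  exact ⟨r, by rw [hrs, hrs']; module⟩

/-- The plane is not a line. -/
theorem not_rank_one (h : C2 g p q) (a : Vec) :
    ¬ ∀ x : Vec, (g : Mat) *ᵥ x = x + f₄ x a • a := by
  intro hg
  obtain ⟨x, hxp, hxq⟩ := exists_dual h.indep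
  obtain ⟨y, hyq, hyp⟩ := exists_dual h.indep.symm
  have e1 := (h.act x).symm.trans (hg x)
  have e2 := (h.act y).symm.trans (hg y)
  rw [hxp, hxq, zero_smul, add_zero, one_smul, add_right_inj] at e1
  rw [hyp, hyq, zero_smul, add_zero, one_smul, add_right_inj] at e2
  by_cases h0 : f₄ x a = 0
  · exact h.indep.1 (by rw [e1, h0, zero_smul])
  · exact h.indep.2 (f₄ y a * (f₄ x a)⁻¹) (by
      rw [e1, e2, smul_smul, inv_mul_cancel_right₀ h0])

end C2

/-- An involution which is neither a transvection nor alternating has this shape. -/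
theorem exists_c2 (h2 : (2 : F) = 0) {g : GL4} (hg : g ∈ Cfsg.spGL 2 F) (hsq : g * g = 1)
    (hnt : ∀ v : Vec, g ≠ sv v 1) (halt : ∃ x : Vec, f₄ ((g : Mat) *ᵥ x) x ≠ 0) :
    ∃ p q, C2 g p q := by
  have : CharP F 2 := (CharP.charP_iff_prime_eq_zero Nat.prime_two).2 h2
  set N : Vec → Vec := fun x => (g : Mat) *ᵥ x + x with hN
  have hgN : ∀ x : Vec, (g : Mat) *ᵥ x = x + N x := fun x => by
    simp only [hN]; rw [add_left_comm, vv h2, add_zero]
  have hgg : ∀ x : Vec, (g : Mat) *ᵥ ((g : Mat) *ᵥ x) = x := fun x => by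
    rw [← gl_mul_mulVec, hsq, Units.val_one, one_mulVec]
  have e1 : ∀ x y : Vec, f₄ ((g : Mat) *ᵥ x) y = f₄ x ((g : Mat) *ᵥ y) := fun x y => by
    conv_lhs => rw [← f_map hg, hgg]
  have hNN : ∀ x y : Vec, f₄ (N x) (N y) = 0 := fun x y => by
    simp only [hN, f_addl, f_addr, f_map hg, e1]
    linear_combination (f₄ x y + f₄ x ((g : Mat) *ᵥ y)) * h2
  have hsym : ∀ x y : Vec, f₄ (N x) y = f₄ (N y) x := fun x y => by
    simp only [hN, f_addl, e1]
    rw [f_comm h2 x ((g : Mat) *ᵥ y), f_comm h2 x y, e1]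
  have hadd : ∀ a b : Vec, N (a + b) = N a + N b := fun a b => by simp only [hN, mulVec_add]; abel
  have hsm : ∀ (c : F) (a : Vec), N (c • a) = c • N a := fun c a => by
    simp only [hN, mulVec_smul, smul_add]
  obtain ⟨x₀, hx₀⟩ := halt
  have hx₀' : f₄ (N x₀) x₀ ≠ 0 := by simpa [hN, f_addl, f_self] using hx₀
  obtain ⟨r, hr⟩ := FiniteField.isSquare_of_char_two (ringChar.eq F 2) (f₄ (N x₀) x₀)
  have hr0 : r ≠ 0 := fun e => hx₀' (by rw [hr, e, mul_zero])
  set x := r⁻¹ • x₀ with hxdef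
  have hxx : f₄ (N x) x = 1 := by
    rw [hxdef, hsm, f_smull, f_smulr, hr]; field_simp
  by_cases hy : ∃ y, f₄ (N x) y = 0 ∧ f₄ (N y) y ≠ 0
  · obtain ⟨y₀, hxy₀, hy₀⟩ := hy
    obtain ⟨s, hs⟩ := FiniteField.isSquare_of_char_two (ringChar.eq F 2) (f₄ (N y₀) y₀)
    have hs0 : s ≠ 0 := fun e => hy₀ (by rw [hs, e, mul_zero])
    set y := s⁻¹ • y₀ with hydef
    have hyy : f₄ (N y) y = 1 := by rw [hydef, hsm, f_smull, f_smulr, hs]; field_simp
    have hxy : f₄ (N x) y = 0 := by rw [hydef, f_smulr, hxy₀, mul_zero]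
    have hind : Indep (N x) (N y) := by
      refine ⟨fun e => ?_, fun c e => ?_⟩
      · rw [e, f_zerol] at hxx; exact zero_ne_one hxx
      · rw [e, f_smull, hxy, mul_zero] at hyy; exact zero_ne_one hyy
    refine ⟨N x, N y, hind, hNN x y, fun z => ?_⟩
    obtain ⟨α, β, hab⟩ := mem_of_orth_pair hind (hNN x y) (hNN z x) (hNN z y)
    have ea := congrArg (fun v => f₄ v x) hab
    have eb := congrArg (fun v => f₄ v y) hab
    simp only [f_addl, f_smull, hxx, hxy, hyy, mul_one, mul_zero, add_zero, zero_add,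
      ← hsym x y] at ea eb
    rw [hgN z, hab, ← ea, ← eb, hsym z x, hsym z y, f_comm h2 (N x) z, f_comm h2 (N y) z, add_assoc]
  · exfalso
    push Not at hy
    set pr : Vec → Vec := fun z => z + f₄ (N x) z • x with hpr
    have hpr0 : ∀ z, f₄ (N x) (pr z) = 0 := fun z => by
      simp only [hpr, f_addr, f_smulr, hxx, mul_one, aa h2]
    by_cases hrest : ∀ z w, f₄ (N (pr z)) (pr w) = 0
    · apply hnt (N x)
      refine gl_ext fun z => ?_
      have hz : N (pr z) = 0 := eq_zero_of_orth fun w => by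
        have hw : w = pr w + f₄ (N x) w • x := by
          simp only [hpr]; rw [add_assoc, vv h2, add_zero]
        rw [hw, f_addr, f_smulr, hrest, hsym _ x, hpr0, mul_zero, add_zero]
      rw [sv_mulVec, one_mul, hgN z, add_right_inj, f_comm h2 z (N x)]
      simp only [hpr, hadd, hsm] at hz
      exact vec_eq_of_add h2 hz
    · push Not at hrest
      obtain ⟨z, w, hzw⟩ := hrest
      have hzz := hy _ (hpr0 z)
      have hind : Indep (N x) (N (pr z)) := by
        refine ⟨fun e => ?_, fun c e => ?_⟩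
        · rw [e, f_zerol] at hxx; exact zero_ne_one hxx
        · rw [e, f_smull, hpr0, mul_zero] at hzw; exact hzw rfl
      obtain ⟨α, β, hab⟩ := mem_of_orth_pair hind (hNN _ _) (hNN (pr w) x) (hNN (pr w) (pr z))
      have := congrArg (fun v => f₄ v (pr z)) hab
      simp only [f_addl, f_smull, hpr0, hzz, mul_zero, add_zero] at this
      rw [hsym] at this
      exact hzw this

end Cfsg.Agent.Lib.Sp4Res55
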