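import Cfsg.Agent.Lib.Sp4Res55.Triple
import Cfsg.Agent.S0111
import Cfsg.Agent.S0215

/-!
If no point carries two transvections, the group is realised over the prime field.
Owner: helper55.
-/
set_option autoImplicit false
set_option linter.unusedSectionVars false

namespace Cfsg.Agent.Lib.Sp4Res55

open Matrix Module Cfsg.Agent.Lib.Subspaces.Transvection Cfsg.Agent.Lib.Subspaces.SympGen

variable {F : Type*} [Field F]

local notation "Vec" => Fin 2 ⊕ Fin 2 → F
local notation "Mat" => Matrix (Fin 2 ⊕ Fin 2) (Fin 2 ⊕ Fin 2) F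
local notation "GL4" => Matrix.GeneralLinearGroup (Fin 2 ⊕ Fin 2) F
local notation "f₄" => Cfsg.sympForm 2 F

/-- The field with two elements inside `F`. -/
noncomputable def twoField (F : Type*) [Field F] (h2 : (2 : F) = 0) : Subfield F where
  carrier := {x | x * x = x}
  mul_mem' := fun {a b} ha hb => by
    show a * b * (a * b) = a * b
    have ha' : a * a = a := ha
    have hb' : b * b = b := hb
    linear_combination (b * b) * ha' + a * hb'
  one_mem' := one_mul 1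
  add_mem' := fun {a b} ha hb => by
    show (a + b) * (a + b) = a + b
    have ha' : a * a = a := ha
    have hb' : b * b = b := hb
    linear_combination ha' + hb' + a * b * h2
  zero_mem' := zero_mul 0
  neg_mem' := fun {a} ha => by
    show -a * -a = -a
    have ha' : a * a = a := ha
    linear_combination ha' + a * h2
  inv_mem' := fun a ha => by
    show a⁻¹ * a⁻¹ = a⁻¹
    have ha' : a * a = a := ha
    rw [← mul_inv, ha']

theorem twoField_ne_top [Fintype F] (h2 : (2 : F) = 0) (h4 : 4 ≤ Fintype.card F) :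
    twoField F h2 ≠ ⊤ := by
  classical
  intro h
  have hsub : (Finset.univ : Finset F) ⊆ {0, 1} := fun x _ => by
    have hx : x * x = x := show x ∈ twoField F h2 from h ▸ Subfield.mem_top x
    rw [Finset.mem_insert, Finset.mem_singleton]
    rcases eq_or_ne x 0 with h0 | h0
    · exact Or.inl h0
    · exact Or.inr (mul_right_cancel₀ h0 (by rw [one_mul]; exact hx))
  have := Finset.card_le_card hsub
  rw [Finset.card_univ] at this
  have := (Finset.card_le_two (a := (0 : F)) (b := 1))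
  omega

variable {P : Subgroup (Matrix.GeneralLinearGroup (Fin 2 ⊕ Fin 2) F)}

/-- A functional onto the integers modulo two taking the value one at one. -/
theorem exists_bit (h2 : (2 : F) = 0) : ∃ L : F →+ ZMod 2, L 1 = 1 := by
  have : CharP F 2 := (CharP.charP_iff_prime_eq_zero Nat.prime_two).2 h2
  let _ : Algebra (ZMod 2) F := ZMod.algebra F 2
  obtain ⟨φ, hφ⟩ : ∃ φ : Module.Dual (ZMod 2) F, φ 1 ≠ 0 := by
    by_contra! h
    exact one_ne_zero ((Module.forall_dual_apply_eq_zero_iff (ZMod 2) (1 : F)).1 h)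
  exact ⟨φ.toAddMonoidHom, (show ∀ z : ZMod 2, z ≠ 0 → z = 1 by decide) _ hφ⟩

namespace Setting

variable (S : Setting P)
include S
variable [Fintype F]

theorem orth_of_mem_sylow (T : Sylow 2 P) {c c' : Vec} (hc : Cen P c) (hc' : Cen P c')
    (h : (⟨sv c 1, hc.2⟩ : P) ∈ T) (h' : (⟨sv c' 1, hc'.2⟩ : P) ∈ T) : f₄ c c' = 0 := by
  by_contra hne
  obtain ⟨a, ha⟩ := S.conj_pow_of_nonorth hc.1 hc'.1 hne
  set x : P := ⟨sv c 1, hc.2⟩ * ⟨sv c' 1, hc'.2⟩ with hxdef
  have hxT : x ∈ T := mul_mem h h'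
  obtain ⟨n, hn⟩ := T.isPGroup' ⟨x, hxT⟩
  have hpow : (sv c 1 * sv c' 1) ^ (2 ^ n) = 1 :=
    congrArg (fun z : (T : Subgroup P) => z.1.1) hn
  have hflip : ∀ k : ℕ, sv c 1 * (sv c 1 * sv c' 1) ^ k * sv c 1 = ((sv c 1 * sv c' 1) ^ k)⁻¹ := by
    intro k
    induction k with
    | zero => rw [pow_zero, mul_one, sv_sq S.two, inv_one]
    | succ k ih =>
      calc sv c 1 * (sv c 1 * sv c' 1) ^ (k + 1) * sv c 1
          = (sv c 1 * (sv c 1 * sv c' 1) ^ k * sv c 1) * (sv c 1 * (sv c 1 * sv c' 1) * sv c 1) := by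
            rw [pow_succ]
            simp only [mul_assoc]
            rw [← mul_assoc (sv c 1) (sv c 1), sv_sq S.two, one_mul]
        _ = ((sv c 1 * sv c' 1) ^ k)⁻¹ * (sv c 1 * sv c' 1)⁻¹ := by
            rw [ih, _root_.mul_inv_rev (sv c 1), sv_inv S.two, sv_inv S.two]
            simp only [← mul_assoc, sv_sq S.two, one_mul]
        _ = _ := by rw [← _root_.mul_inv_rev, ← pow_succ']
  set y := sv c 1 * sv c' 1 with hy
  have h1 : y ^ (2 * a + 1) = 1 := by
    have e : y ^ a * y ^ a * sv c 1 = sv c' 1 := by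
      rw [← hflip a] at ha
      rw [← ha]
      simp only [← mul_assoc]
      rw [mul_assoc (y ^ a) (sv c 1) (sv c 1), sv_sq S.two, mul_one]
    have e2 : y ^ a * y ^ a = sv c' 1 * sv c 1 := by
      rw [← e, mul_assoc, sv_sq S.two, mul_one]
    rw [pow_succ, two_mul, pow_add, e2, hy, mul_assoc, ← mul_assoc (sv c 1), sv_sq S.two, one_mul,
      sv_sq S.two]
  have hy1 : y = 1 := by
    have hcop : Nat.Coprime (2 ^ n) (2 * a + 1) := (Nat.Coprime.pow_left n (by simp))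
    have hd := Nat.dvd_gcd (orderOf_dvd_of_pow_eq_one hpow) (orderOf_dvd_of_pow_eq_one h1)
    rw [hcop.gcd_eq_one, Nat.dvd_one] at hd
    exact orderOf_eq_one_iff.1 hd
  have heq : sv c 1 = sv c' 1 := by
    calc sv c 1 = y * sv c' 1 := by rw [hy, mul_assoc, sv_sq S.two, mul_one]
      _ = _ := by rw [hy1, one_mul]
  obtain ⟨r, -, hr, -⟩ := sv_eq_sv hc.1 one_ne_zero heq
  exact hne (by rw [hr, f_smulr, f_self, mul_zero])

/-- A Sylow subgroup with two transvections. -/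
theorem exists_pair (h1 : One P) {c₀ : Vec} (h₀ : Cen P c₀) :
    ∃ (T : Sylow 2 P) (c₁ c₂ : Vec) (hc₁ : Cen P c₁) (hc₂ : Cen P c₂),
      (⟨sv c₁ 1, hc₁.2⟩ : P) ∈ T ∧ (⟨sv c₂ 1, hc₂.2⟩ : P) ∈ T ∧ Indep c₁ c₂ ∧ f₄ c₁ c₂ = 0 := by
  have := S.simple
  set t : P := ⟨sv c₀ 1, h₀.2⟩ with ht
  have htt : t * t = 1 := Subtype.ext (sv_sq S.two c₀ 1)
  have hord : orderOf t = 2 := orderOf_eq_prime (by rw [pow_two, htt])
    fun e => sv_ne_one h₀.1 one_ne_zero (congrArg Subtype.val e)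
  have hpg : IsPGroup 2 (Subgroup.zpowers t) :=
    IsPGroup.of_card (n := 1) (by rw [Nat.card_zpowers, hord, pow_one])
  obtain ⟨T, hT⟩ := hpg.exists_le_sylow
  have htT : t ∈ T := hT (Subgroup.mem_zpowers t)
  by_cases hiso : ∀ g : P, g * t * g⁻¹ ∈ T → g * t * g⁻¹ = t
  · exfalso
    obtain ⟨N, hN, hodd, hcomm⟩ := Cfsg.Agent.S0215.result T t hord htT hiso
    rcases hN.eq_bot_or_eq_top with rfl | rfl
    · apply S.nonab
      have hc : t ∈ Subgroup.center P := Subgroup.mem_center_iff.2 fun g => by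
        have h := hcomm g
        rw [Subgroup.mem_bot, mul_inv_eq_one, mul_inv_eq_iff_eq_mul] at h
        exact h.symm
      have hZn : (Subgroup.center P).Normal := inferInstance
      rcases hZn.eq_bot_or_eq_top with hz | hz
      · rw [hz, Subgroup.mem_bot] at hc
        rw [hc, orderOf_one] at hord
        exact absurd hord (by norm_num)
      · exact ⟨⟨fun a b => (Subgroup.mem_center_iff.1 (hz ▸ Subgroup.mem_top b) a)⟩⟩
    · rw [Subgroup.card_top] at hodd
      have := Nat.odd_iff.1 hodd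
      have h2 := orderOf_dvd_natCard t
      rw [hord] at h2
      omega
  · push Not at hiso
    obtain ⟨g, hgT, hgne⟩ := hiso
    have hval : g * t * g⁻¹ = ⟨sv ((g.1 : Mat) *ᵥ c₀) 1, (S.toCen h₀ g.2).2⟩ :=
      Subtype.ext (conj_sv (S.le g.2) c₀ 1)
    rw [hval] at hgT hgne
    refine ⟨T, c₀, _, h₀, S.toCen h₀ g.2, htT, hgT, ⟨h₀.1, fun c e => ?_⟩,
      S.orth_of_mem_sylow T h₀ (S.toCen h₀ g.2) htT hgT⟩
    have hc := h1 c₀ c h₀ (e ▸ S.toCen h₀ g.2)
    exact hgne (Subtype.ext ((congrArg (fun z => sv z (1 : F)) e).trans (by rw [hc, one_smul])))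

/-- With one transvection per point, the group is realisable over the field with two elements. -/
theorem realisable_of_one (h1 : One P) {c₀ : Vec} (h₀ : Cen P c₀) :
    Cfsg.Geo.RealisableOver (twoField F S.two) (Cfsg.Geo.matrixSet P) := by
  have := S.simple
  obtain ⟨T, c₁, c₂, hc₁, hc₂, h1T, h2T, hi, h12⟩ := S.exists_pair h1 h₀
  by_cases htri : ∃ c, ∃ hc : Cen P c, (⟨sv c 1, hc.2⟩ : P) ∈ T ∧
      ∃ x y : F, c = x • c₁ + y • c₂ ∧ x + y ≠ 1
  · obtain ⟨c, hc, -, x, y, rfl, haff⟩ := htri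
    have hx : x ≠ 0 := fun e => by
      subst e
      rw [zero_smul, zero_add] at hc
      exact haff (by rw [h1 c₂ y hc₂ hc, zero_add])
    have hy : y ≠ 0 := fun e => by
      subst e
      rw [zero_smul, add_zero] at hc
      exact haff (by rw [h1 c₁ x hc₁ hc, add_zero])
    obtain ⟨rfl, rfl⟩ := S.coeff_eq_one h1 hc₁ hc₂ hi h12 hc hx hy haff
    rw [one_smul, one_smul] at hc
    have hb := S.cen_connected hc₁ (Q := fun w => ∀ v, Cen P v → f₄ v w ∈ twoField F S.two)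
      (fun v hv => by
        rcases S.binary_of_triangle h1 hc₁ hc₂ hi h12 hc hv with h | h <;> rw [h]
        · exact zero_mem _
        · exact one_mem _)
      (fun v w hv hQ hw hvw u hu => by
        obtain ⟨g, hg, hgv⟩ := S.conj_of_nonorth hv hw hvw
        rw [← hgv, ← f_map_inv (S.le hg)]
        exact hQ _ (S.toCen hu (P.inv_mem hg)))
    exact S.realisable_of_pairs hc₁ _ {v | Cen P v}
      (fun v hv => ⟨v, hv, 1, (one_smul F v).symm, by rw [one_mul]; exact one_mem _⟩)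
      (S.span_cen hc₁) (fun u hu u' hu' => hb u' hu' u hu)
  exfalso
  push Not at htri
  obtain ⟨η, hη₁, hη₂⟩ : ∃ η, f₄ c₁ η = 1 ∧ f₄ c₂ η = 1 := by
    obtain ⟨φ, hφ⟩ := Cfsg.Agent.Lib.Subspaces.Transvection.exists_functional
      (W := Submodule.span F {c₁ + c₂}) (v := c₁) (fun hmem => by
        obtain ⟨a, ha⟩ := Submodule.mem_span_singleton.1 hmem
        have h := hi.eq_zero (a := a + 1) (b := a) (by
          rw [add_smul, one_smul, add_right_comm, ← smul_add, ha, vv S.two])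
        rw [h.2, zero_add] at h
        exact one_ne_zero h.1)
    obtain ⟨η, hη⟩ := Cfsg.Agent.Lib.Subspaces.FormVec.formVec_surjective
      (Cfsg.Agent.Lib.Subspaces.FormVec.isLinearLeft_of_bilinear hf.bilinear)
      (fun x v w => f_addr x v w) hf.nondegenerate φ
    have he : ∀ x, f₄ x η = φ ⬝ᵥ x := fun x => by
      rw [← hη, Cfsg.Agent.Lib.Subspaces.FormVec.formVec_dot
        (Cfsg.Agent.Lib.Subspaces.FormVec.isLinearLeft_of_bilinear hf.bilinear)]
    refine ⟨η, by rw [he]; exact hφ.2, ?_⟩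
    have h := hφ.1 _ (Submodule.mem_span_singleton_self _)
    rw [dotProduct_add, hφ.2] at h
    rw [he]
    exact (eq_of_add S.two h).symm
  have hη : ∀ c, ∀ hc : Cen P c, (⟨sv c 1, hc.2⟩ : P) ∈ T → f₄ c η = 1 := by
    intro c hc hcT
    obtain ⟨x, y, e⟩ := mem_of_orth_pair hi h12 (S.orth_of_mem_sylow T hc hc₁ hcT h1T)
      (S.orth_of_mem_sylow T hc hc₂ hcT h2T)
    rw [e, f_addl, f_smull, f_smull, hη₁, hη₂, mul_one, mul_one]
    exact htri c hc hcT x y e
  have hperm : ∀ g : P, g ∈ T → ∀ c, ∀ hc : Cen P c, (⟨sv c 1, hc.2⟩ : P) ∈ T →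
      f₄ ((g.1 : Mat) *ᵥ c) η = 1 := by
    intro g hg c hc hcT
    refine hη _ (S.toCen hc g.2) ?_
    have : g * ⟨sv c 1, hc.2⟩ * g⁻¹ = (⟨_, (S.toCen hc g.2).2⟩ : P) :=
      Subtype.ext (conj_sv (S.le g.2) c 1)
    rw [← this]
    exact mul_mem (mul_mem hg hcT) (inv_mem hg)
  have hz : ∀ g : P, g ∈ T → ∀ c, ∀ hc : Cen P c, (⟨sv c 1, hc.2⟩ : P) ∈ T →
      f₄ ((g.1 : Mat) *ᵥ η + η) c = 0 := by
    intro g hg c hc hcT
    have hp := hperm g⁻¹ (inv_mem hg) c hc hcT
    rw [Subgroup.coe_inv, f_map_inv (S.le g.2)] at hp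
    rw [f_addl, f_comm S.two _ c, hp, f_comm S.two η c, hη c hc hcT, aa S.two]
  have hspan : ∀ g : P, g ∈ T → ∃ a b : F, (g.1 : Mat) *ᵥ η = η + (a • c₁ + b • c₂) := by
    intro g hg
    obtain ⟨a, b, e⟩ := mem_of_orth_pair hi h12 (hz g hg c₁ hc₁ h1T) (hz g hg c₂ hc₂ h2T)
    exact ⟨a, b, by rw [← e, add_comm _ η, ← add_assoc, vv S.two, zero_add]⟩
  have hW : ∀ g : P, g ∈ T → ∀ a b : F,
      f₄ ((g.1 : Mat) *ᵥ (a • c₁ + b • c₂)) η = a + b := by
    intro g hg a b
    rw [mulVec_add, mulVec_smul, mulVec_smul, f_addl, f_smull, f_smull, hperm g hg c₁ hc₁ h1T,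
      hperm g hg c₂ hc₂ h2T, mul_one, mul_one]
  have hψ : ∀ g h : P, g ∈ T → h ∈ T → f₄ (((g * h : P).1 : Mat) *ᵥ η) η =
      f₄ ((g.1 : Mat) *ᵥ η) η + f₄ ((h.1 : Mat) *ᵥ η) η := by
    intro g h hg hh
    obtain ⟨a, b, e⟩ := hspan h hh
    rw [Subgroup.coe_mul, gl_mul_mulVec, e, mulVec_add, f_addl, hW g hg, f_addl, f_self, zero_add,
      f_addl, f_smull, f_smull, hη₁, hη₂, mul_one, mul_one]
  obtain ⟨L, hL⟩ := exists_bit S.two
  let θ : (T : Subgroup P) →* Multiplicative (ZMod 2) := MonoidHom.mk'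
    (fun g => Multiplicative.ofAdd (L (f₄ ((g.1.1 : Mat) *ᵥ η) η)))
    (fun g h => by
      rw [Subgroup.coe_mul, hψ g.1 h.1 g.2 h.2, map_add]
      rfl)
  have hval : ∀ c, ∀ hc : Cen P c, ∀ hcT : (⟨sv c 1, hc.2⟩ : P) ∈ T,
      θ ⟨⟨sv c 1, hc.2⟩, hcT⟩ = Multiplicative.ofAdd 1 := by
    intro c hc hcT
    show Multiplicative.ofAdd (L (f₄ ((sv c 1 : Mat) *ᵥ η) η)) = _
    rw [sv_mulVec, f_addl, f_self, zero_add, one_mul, f_smull, f_comm S.two η c, hη c hc hcT,
      one_mul, hL]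
  have hsurj : Function.Surjective θ := fun z => by
    have hcases : ∀ z : Multiplicative (ZMod 2), z = 1 ∨ z = Multiplicative.ofAdd 1 := by decide
    rcases hcases z with rfl | rfl
    · exact ⟨1, map_one θ⟩
    · exact ⟨⟨_, h1T⟩, hval c₁ hc₁ h1T⟩
  set Q := θ.ker.map (T : Subgroup P).subtype with hQ
  have hQi : Q.relIndex (T : Subgroup P) = 2 := by
    have h1' : Q.subgroupOf (T : Subgroup P) = θ.ker :=
      Subgroup.comap_map_eq_self_of_injective Subtype.val_injective _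
    rw [Subgroup.relIndex, h1', Subgroup.index_ker, MonoidHom.range_eq_top.2 hsurj, Subgroup.card_top,
      Nat.card_eq_fintype_card]
    rfl
  have hnot : ∀ c, ∀ hc : Cen P c, (⟨sv c 1, hc.2⟩ : P) ∉ Q := by
    rintro c hc ⟨⟨u, huT⟩, hu, hue⟩
    have hue' : u = ⟨sv c 1, hc.2⟩ := hue
    subst hue'
    have hu' : θ ⟨⟨sv c 1, hc.2⟩, huT⟩ = 1 := hu
    rw [hval c hc huT] at hu'
    exact absurd hu' (by decide)
  have hord : orderOf (⟨sv c₁ 1, hc₁.2⟩ : P) = 2 :=
    orderOf_eq_prime (by rw [pow_two]; exact Subtype.ext (sv_sq S.two c₁ 1))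
      fun e => sv_ne_one hc₁.1 one_ne_zero (congrArg Subtype.val e)
  rcases Cfsg.Agent.S0111.result T Q
    (fun x hx => by obtain ⟨u, -, rfl⟩ := hx; exact u.2) hQi _ hord h1T (hnot c₁ hc₁) with
    ⟨M, hM, hMi, hMu⟩ | ⟨g, hg⟩
  · rcases hM.eq_bot_or_eq_top with rfl | rfl
    · rw [Subgroup.index_bot] at hMi
      apply S.nonab
      have : Fact (Nat.Prime 2) := ⟨Nat.prime_two⟩
      have hc := isCyclic_of_prime_card hMi
      let _ := IsCyclic.commGroup (α := P)
      exact ⟨⟨mul_comm⟩⟩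
    · exact hMu (Subgroup.mem_top _)
  · have : g * ⟨sv c₁ 1, hc₁.2⟩ * g⁻¹ = (⟨_, (S.toCen hc₁ g.2).2⟩ : P) :=
      Subtype.ext (conj_sv (S.le g.2) c₁ 1)
    rw [this] at hg
    exact hnot _ (S.toCen hc₁ g.2) hg

end Setting

end Cfsg.Agent.Lib.Sp4Res55
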