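import Cfsg.Agent.Lib.Sp4Res55.Basic

/-!
Centres of the transvections in a simple irreducible subgroup of the four-dimensional symplectic
group in characteristic two: conjugacy along non-orthogonal pairs, and the radical centre.
Owner: helper55.
-/
set_option autoImplicit false
set_option linter.unusedSectionVars false

namespace Cfsg.Agent.Lib.Sp4Res55

open Matrix Module Cfsg.Agent.Lib.Subspaces.Transvection Cfsg.Agent.Lib.Subspaces.SympGen

variable {F : Type*} [Field F]

local notation "Vec" => Fin 2 ⊕ Fin 2 → F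
local notation "Mat" => Matrix (Fin 2 ⊕ Fin 2) (Fin 2 ⊕ Fin 2) F
local notation "GL4" => Matrix.GeneralLinearGroup (Fin 2 ⊕ Fin 2) F
local notation "f₄" => Cfsg.sympForm 2 F

/-- A finite simple non-abelian irreducible subgroup of the symplectic group, characteristic two. -/
structure Setting (P : Subgroup (Matrix.GeneralLinearGroup (Fin 2 ⊕ Fin 2) F)) : Prop where
  two : (2 : F) = 0
  le : P ≤ Cfsg.spGL 2 F
  irr : ∀ W : Submodule F (Fin 2 ⊕ Fin 2 → F),
    (∀ g ∈ P, ∀ w ∈ W, (g : Matrix (Fin 2 ⊕ Fin 2) (Fin 2 ⊕ Fin 2) F) *ᵥ w ∈ W) → W = ⊥ ∨ W = ⊤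
  simple : IsSimpleGroup P
  nonab : ¬ IsMulCommutative P

/-- A normalised centre of a transvection of `P`. -/
def Cen (P : Subgroup (Matrix.GeneralLinearGroup (Fin 2 ⊕ Fin 2) F)) (v : Fin 2 ⊕ Fin 2 → F) :
    Prop :=
  v ≠ 0 ∧ sv v 1 ∈ P

/-- No point carries two transvections of `P`. -/
def One (P : Subgroup (Matrix.GeneralLinearGroup (Fin 2 ⊕ Fin 2) F)) : Prop :=
  ∀ (v : Fin 2 ⊕ Fin 2 → F) (c : F), Cen P v → Cen P (c • v) → c = 1

/-- Two involutions no involution commutes with are conjugate by a power of their product. -/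
theorem conj_of_involutions {G : Type*} [Group G] [Finite G] {t u : G} (ht : t * t = 1)
    (hu : u * u = 1)
    (h : ∀ n : ℕ, (t * u) ^ n * (t * u) ^ n = 1 → Commute ((t * u) ^ n) t → Commute ((t * u) ^ n) u →
      (t * u) ^ n = 1) :
    ∃ a : ℕ, (t * u) ^ a * t * ((t * u) ^ a)⁻¹ = u := by
  set x := t * u with hx
  have hti : t⁻¹ = t := inv_eq_of_mul_eq_one_right ht
  have hui : u⁻¹ = u := inv_eq_of_mul_eq_one_right hu
  have hinv : x⁻¹ = u * t := by rw [hx, _root_.mul_inv_rev, hti, hui]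
  have hflip : ∀ n : ℕ, t * x ^ n * t = (x ^ n)⁻¹ := fun n => by
    induction n with
    | zero => rw [pow_zero, mul_one, ht, inv_one]
    | succ n ih =>
      calc t * x ^ (n + 1) * t = (t * x ^ n * t) * (t * x * t) := by
            rw [pow_succ]
            simp only [mul_assoc]
            rw [← mul_assoc t t, ht, one_mul]
        _ = (x ^ n)⁻¹ * x⁻¹ := by
            rw [ih, hinv, hx]
            simp only [← mul_assoc, ht, one_mul]
        _ = (x ^ (n + 1))⁻¹ := by rw [← _root_.mul_inv_rev, ← pow_succ']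
  have hodd : Odd (orderOf x) := by
    rw [← Nat.not_even_iff_odd]
    rintro ⟨j, hj⟩
    have hpos := orderOf_pos x
    have hi2 : x ^ j * x ^ j = 1 := by rw [← pow_add, ← hj, pow_orderOf_eq_one]
    have hii : (x ^ j)⁻¹ = x ^ j := inv_eq_of_mul_eq_one_right hi2
    have hct : Commute (x ^ j) t := by
      have h1 := hflip j
      rw [hii] at h1
      show x ^ j * t = t * x ^ j
      conv_lhs => rw [← h1]
      rw [mul_assoc, ht, mul_one]
    have hcu : Commute (x ^ j) u := by
      have h1 : Commute (x ^ j) x := (Commute.refl x).pow_left j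
      have h2 := hct.mul_right h1
      rwa [hx, ← mul_assoc, ht, one_mul, ← hx] at h2
    have := h j hi2 hct hcu
    rw [← orderOf_dvd_iff_pow_eq_one] at this
    exact absurd (Nat.le_of_dvd (by omega) this) (by omega)
  obtain ⟨j, hj⟩ := hodd
  refine ⟨j, ?_⟩
  have h1 : (x ^ j)⁻¹ = t * x ^ j * t := (hflip j).symm
  calc x ^ j * t * (x ^ j)⁻¹ = x ^ j * x ^ j * t := by
        rw [h1]; simp only [← mul_assoc]; rw [mul_assoc (x ^ j) t t, ht, mul_one]
    _ = x⁻¹ * t := by
        congr 1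
        rw [eq_inv_iff_mul_eq_one, ← pow_add, ← pow_succ, ← two_mul, ← hj, pow_orderOf_eq_one]
    _ = u := by rw [hinv, mul_assoc, ht, mul_one]

/-- The element `x ↦ x + f(x,w) d + f(x,d) w + β f(x,d) d`. -/
noncomputable def kk (d w : Fin 2 ⊕ Fin 2 → F) (β : F) :
    Matrix.GeneralLinearGroup (Fin 2 ⊕ Fin 2) F :=
  sv (w + d) 1 * sv w 1 * sv d (β + 1)

variable {P : Subgroup (Matrix.GeneralLinearGroup (Fin 2 ⊕ Fin 2) F)}

theorem Cen.ne {v : Vec} (h : Cen P v) : v ≠ 0 := h.1

theorem Cen.mem {v : Vec} (h : Cen P v) : sv v 1 ∈ P := h.2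

namespace Setting

variable (S : Setting P)
include S

theorem kk_mulVec {d w : Vec} (hwd : f₄ w d = 0) (β : F) (x : Vec) :
    (kk d w β : Mat) *ᵥ x = x + f₄ x w • d + f₄ x d • w + (β * f₄ x d) • d := by
  have hdw : f₄ d w = 0 := swap_eq_zero hf hwd
  simp only [kk, gl_mul_mulVec, sv_mulVec, f_addl, f_addr, f_smull, f_self, hwd, hdw, mul_zero,
    add_zero, zero_add, one_mul]
  match_scalars
  · ring
  · linear_combination f₄ x d * S.two
  · linear_combination f₄ x w * S.two

theorem toCen {v : Vec} (h : Cen P v) {g : GL4} (hg : g ∈ P) : Cen P ((g : Mat) *ᵥ v) := by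
  refine ⟨fun e => h.1 (gl_mulVec_injective g (by simpa using e)), ?_⟩
  rw [← conj_sv (S.le hg)]
  exact P.mul_mem (P.mul_mem hg h.2) (P.inv_mem hg)

theorem eq_one_of_mul_self {c : F} (h : c * c = 1) : c = 1 := by
  have : (c + 1) * (c + 1) = 0 := by linear_combination h + (c + 1) * S.two
  exact eq_of_add S.two (mul_self_eq_zero.1 this)

/-- An element of the symplectic group commuting with a transvection fixes its centre. -/
theorem fix_of_commute {v : Vec} (hv : v ≠ 0) {g : GL4} (hg : g ∈ Cfsg.spGL 2 F)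
    (h : Commute g (sv v 1)) : (g : Mat) *ᵥ v = v := by
  have h1 : sv v 1 = sv ((g : Mat) *ᵥ v) 1 := by
    rw [← conj_sv hg, h.eq, mul_inv_cancel_right]
  obtain ⟨c, -, hc, hcc⟩ := sv_eq_sv hv one_ne_zero h1
  rw [hc, S.eq_one_of_mul_self (c := c) (by rw [one_mul] at hcc; exact hcc.symm), one_smul]

variable [Fintype F]

/-- Transvections with non-orthogonal centres are conjugate by a power of their product. -/
theorem conj_pow_of_nonorth {v w : Vec} (hv : v ≠ 0) (hw : w ≠ 0) (h : f₄ v w ≠ 0) :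
    ∃ a : ℕ, (sv v 1 * sv w 1) ^ a * sv v 1 * ((sv v 1 * sv w 1) ^ a)⁻¹ = sv w 1 := by
  set x : GL4 := sv v 1 * sv w 1 with hx
  have hxz : ∀ z, f₄ z v = 0 → f₄ z w = 0 → ∀ n : ℕ, ((x ^ n : GL4) : Mat) *ᵥ z = z := by
    intro z hzv hzw n
    induction n with
    | zero => rw [pow_zero, Units.val_one, one_mulVec]
    | succ n ih =>
      rw [pow_succ, gl_mul_mulVec, hx, gl_mul_mulVec, sv_mulVec w 1 z, hzw, mul_zero, zero_smul,
        add_zero, sv_mulVec v 1 z, hzv, mul_zero, zero_smul, add_zero]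
      exact ih
  obtain ⟨a, ha⟩ := conj_of_involutions (t := sv v 1) (u := sv w 1)
    (sv_sq S.two v 1) (sv_sq S.two w 1) fun n _ hit hiu => by
      rw [← hx] at hit hiu ⊢
      have hxP : x ^ n ∈ Cfsg.spGL 2 F :=
        Subgroup.pow_mem _ (Subgroup.mul_mem _ (sv_mem v 1) (sv_mem w 1)) n
      have hiv := S.fix_of_commute hv hxP hit
      have hiw := S.fix_of_commute hw hxP hiu
      have hwv : f₄ w v ≠ 0 := fun e => h (swap_eq_zero hf e)
      refine gl_ext fun y => ?_
      rw [Units.val_one, one_mulVec]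
      set α := f₄ y w * (f₄ v w)⁻¹
      set β := f₄ y v * (f₄ w v)⁻¹
      have hz := hxz (y + α • v + β • w)
        (by simp only [f_addl, f_smull, f_self, mul_zero, add_zero, β]
            rw [mul_assoc, inv_mul_cancel₀ hwv, mul_one, aa S.two])
        (by simp only [f_addl, f_smull, f_self, mul_zero, add_zero, α]
            rw [mul_assoc, inv_mul_cancel₀ h, mul_one, aa S.two]) n
      rw [mulVec_add, mulVec_add, mulVec_smul, mulVec_smul, hiv, hiw] at hz
      exact add_right_cancel (add_right_cancel hz)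
  exact ⟨a, ha⟩

/-- Non-orthogonal centres are conjugate. -/
theorem conj_of_nonorth {v w : Vec} (hv : Cen P v) (hw : Cen P w) (h : f₄ v w ≠ 0) :
    ∃ g ∈ P, (g : Mat) *ᵥ v = w := by
  obtain ⟨a, ha⟩ := S.conj_pow_of_nonorth hv.1 hw.1 h
  have haP : (sv v 1 * sv w 1) ^ a ∈ P := P.pow_mem (P.mul_mem hv.2 hw.2) a
  refine ⟨_, haP, ?_⟩
  rw [conj_sv (S.le haP)] at ha
  obtain ⟨c, -, hc, hcc⟩ := sv_eq_sv (S.toCen hv haP).1 one_ne_zero ha
  rw [S.eq_one_of_mul_self (c := c) (by rw [one_mul] at hcc; exact hcc.symm), one_smul] at hc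
  exact hc.symm

end Setting

end Cfsg.Agent.Lib.Sp4Res55
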