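import Cfsg.Agent.Lib.SzTori.Count

/-!
In a Suzuki group over a field with `q` elements every element of order not dividing four is
conjugate to its `q`-th power.
Owner: helper55.
-/
set_option autoImplicit false
set_option linter.unusedSectionVars false

namespace Cfsg.Agent.Lib.Sp4Res55.SzFrob

open Matrix Cfsg.Agent.Lib.LieTwisted.Suzuki Cfsg.Agent.Lib.SzElements.Basic Cfsg.Agent.Lib.SzTori

variable {F : Type*} [Field F] [Fintype F] {m : ℕ}

variable (h : IsSzField F m) (hm : 1 ≤ m)
include h hm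

/-- An element of a fixed-point-free torus has no eigenvalue one. -/
theorem det_ne_zero_of_inE {g : Cfsg.Sz F m} (hg : InE g) :
    ((1 : Matrix (Fin 4) (Fin 4) F) - mat g).det ≠ 0 := by
  intro h0
  obtain ⟨r, hr, hd, j, hj⟩ := exists_prime_power h hm hg
  obtain ⟨v, hv, hv0⟩ := Matrix.exists_mulVec_eq_zero_iff.2 h0
  rw [sub_mulVec, one_mulVec, sub_eq_zero] at hv0
  have hfix : ∀ i : ℕ, mat (g ^ i) *ᵥ v = v := fun i => by
    induction i with
    | zero => rw [pow_zero, mat_one, one_mulVec]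
    | succ i ih => rw [pow_succ, mat_mul, ← mulVec_mulVec, ← hv0, ih]
  obtain ⟨-, hK, -⟩ := singer h hm hr hj hd
  set u := g ^ j
  have hmem : rho h hm u - 1 ∈
      Subalgebra.centralizer F ({rho h hm u} : Set (Module.End F (Fin 4 → F))) := by
    rw [Subalgebra.mem_centralizer_iff]
    rintro _ rfl
    simp [mul_sub, sub_mul]
  have hne : (⟨_, hmem⟩ : Subalgebra.centralizer F ({rho h hm u} : Set (Module.End F (Fin 4 → F)))) ≠ 0 := by
    intro e
    have e' : rho h hm u = 1 := sub_eq_zero.1 (congrArg Subtype.val e)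
    have : u = 1 := rho_injective h hm (e'.trans (map_one _).symm)
    exact hr.one_lt.ne' (by rw [← hj, this, orderOf_one])
  obtain ⟨y, hy⟩ := hK.mul_inv_cancel hne
  replace hy := (hK.mul_comm y _).trans hy
  have hy' : (y : Module.End F (Fin 4 → F)) * (rho h hm u - 1) = 1 := congrArg Subtype.val hy
  have hz : (rho h hm u - 1) v = 0 := by
    rw [LinearMap.sub_apply, Module.End.one_apply]
    show Matrix.toLinAlgEquiv' (mat u) v - v = 0
    rw [Matrix.toLinAlgEquiv'_apply, hfix, sub_self]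
  have := congrArg (fun f : Module.End F (Fin 4 → F) => f v) hy'
  simp only [Module.End.mul_apply, hz, map_zero, Module.End.one_apply] at this
  exact hv this.symm

/-- The Frobenius power is realised by the normaliser of a torus. -/
theorem exists_conj_pow {g : Cfsg.Sz F m} (hg : InE g) :
    ∃ x : Cfsg.Sz F m, x * g * x⁻¹ = g ^ Fintype.card F := by
  classical
  obtain ⟨g₁, g₂, -, -, -, -, -, hN⟩ := two_classes h hm
  haveI := torus_cyclic h hm hg
  obtain ⟨c₀, hc₀⟩ := IsCyclic.exists_ofOrder_eq_natCard (α := cen g)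
  set c : Cfsg.Sz F m := (c₀ : Cfsg.Sz F m) with hcdef
  have hco : orderOf c = Nat.card (cen g) := by rw [hcdef, Subgroup.orderOf_coe, hc₀]
  have hk5 : 5 ≤ Nat.card (cen g) := five_le h hm hg
  have hc1 : c ≠ 1 := fun e => by rw [e, orderOf_one] at hco; omega
  have hcE : InE c := torus_inE h hm hg c₀.2 hc1
  have hcC : cen c = cen g := torus_eq h hm hg c₀.2 hc1
  set q := Fintype.card F with hq
  have hdiv : Nat.card (cen g) ∣ q ^ 2 + 1 := torus_card_dvd h hm hg
  -- eigenvalues
  let L := AlgebraicClosure F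
  let φ : F →+* L := algebraMap F L
  have hpow : ∀ (z : Cfsg.Sz F m) (n : ℕ), (mat (z ^ n)).map φ = ((mat z).map φ) ^ n := fun z n => by
    induction n with
    | zero => rw [pow_zero, pow_zero, mat_one, Matrix.map_one φ (map_zero φ) (map_one φ)]
    | succ n ih => rw [pow_succ, pow_succ, mat_mul, Matrix.map_mul, ih]
  set A := (mat c).map φ with hA
  set R := A.charpoly.roots with hR
  have hroot : ∀ μ ∈ R, orderOf μ = Nat.card (cen g) := by
    intro μ hμ
    rw [hR, Polynomial.mem_roots A.charpoly_monic.ne_zero] at hμ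
    have hsp := Matrix.mem_spectrum_iff_isRoot_charpoly.2 hμ
    have hk : μ ^ Nat.card (cen g) = 1 := by
      have h1 := spectrum.pow_mem_pow A (Nat.card (cen g)) hsp
      rw [hA, ← hpow, ← hco, pow_orderOf_eq_one, mat_one, Matrix.map_one φ (map_zero φ) (map_one φ),
        spectrum.one_eq] at h1
      rw [← hco]
      exact h1
    refine Nat.dvd_antisymm (orderOf_dvd_of_pow_eq_one hk) ?_
    rw [← hco, orderOf_dvd_iff_pow_eq_one]
    by_contra hne
    have hE := torus_inE h hm hg (pow_mem c₀.2 (orderOf μ)) hne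
    apply det_ne_zero_of_inE h hm hE
    have h1 := Matrix.mem_spectrum_iff_isRoot_charpoly.1 (spectrum.pow_mem_pow A (orderOf μ) hsp)
    rw [pow_orderOf_eq_one, hA, ← hpow, Matrix.charpoly_map, ← map_one φ, Polynomial.IsRoot.def,
      Polynomial.eval_map_apply] at h1
    have h2 : (mat (c ^ orderOf μ)).charpoly.eval 1 = 0 := φ.injective (by rw [h1, map_zero])
    rw [Matrix.eval_charpoly, map_one] at h2
    exact h2
  let ψ : L → L := fun a => a ^ q
  have hψR : ∀ μ ∈ R, μ ^ q ∈ R := by
    intro μ hμ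
    rw [hR, Polynomial.mem_roots A.charpoly_monic.ne_zero, hA, Matrix.charpoly_map] at hμ ⊢
    rw [Polynomial.IsRoot.def, Polynomial.eval_map, ← Polynomial.aeval_def] at hμ ⊢
    rw [← Polynomial.expand_aeval, FiniteField.expand_card, map_pow, hμ,
      zero_pow Fintype.card_ne_zero]
  have hdeg : R.card = 4 := by
    rw [hR, IsAlgClosed.card_roots_eq_natDegree, Matrix.charpoly_natDegree_eq_dim]; simp
  obtain ⟨μ, hμ⟩ := Multiset.card_pos_iff_exists_mem.1 (by rw [hdeg]; norm_num : 0 < R.card)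
  have hμo := hroot μ hμ
  have hfin : IsOfFinOrder μ := orderOf_pos_iff.1 (by omega)
  have hμ0 : μ ≠ 0 := fun e => by
    have := pow_orderOf_eq_one μ
    have hne0 : orderOf μ ≠ 0 := by omega
    rw [e] at hne0
    rw [e, zero_pow hne0] at this
    exact zero_ne_one this
  have hinv : μ ^ (q ^ 2) * μ = 1 := by
    rw [← pow_succ]; exact orderOf_dvd_iff_pow_eq_one.1 (hμo ▸ hdiv)
  have n2 : μ ^ (q ^ 2) ≠ μ := fun e => by
    rw [e] at hinv
    have := orderOf_dvd_of_pow_eq_one (show μ ^ 2 = 1 by rw [pow_two]; exact hinv)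
    have := Nat.le_of_dvd (by norm_num) this
    omega
  have n1 : μ ^ q ≠ μ := fun e => n2 (by rw [pow_two, pow_mul, e, e])
  have e4 : μ ^ (q ^ 4) = μ := by
    rw [show q ^ 4 = q ^ 2 * q ^ 2 by ring, pow_mul, eq_inv_of_mul_eq_one_left hinv, inv_pow,
      eq_inv_of_mul_eq_one_left hinv, inv_inv]
  have n3 : μ ^ (q ^ 3) ≠ μ := fun e => n1 (by
    conv_rhs => rw [← e4]
    rw [pow_succ q 3, pow_mul, e])
  have hinj : ∀ a b : L, a ^ q = b ^ q → a = b := by
    intro a b hab
    obtain ⟨p, hp⟩ := CharP.exists F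
    obtain ⟨n, hpp, hn⟩ := FiniteField.card F p
    haveI := Fact.mk hpp
    haveI : CharP L p := charP_of_injective_ringHom φ.injective p
    rw [hq, hn] at hab
    exact iterateFrobenius_inj L p (n : ℕ) (by rw [iterateFrobenius_def, iterateFrobenius_def]; exact hab)
  let T : Finset L := {μ, μ ^ q, μ ^ (q ^ 2), μ ^ (q ^ 3)}
  have m1 : μ ^ q ≠ μ ^ (q ^ 2) := fun e => n1 (hinj _ _ (by rw [← pow_mul, ← pow_two]; exact e.symm))
  have m2 : μ ^ q ≠ μ ^ (q ^ 3) := fun e => n2 (hinj _ _ (by rw [← pow_mul, ← pow_succ]; exact e.symm))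
  have m3 : μ ^ (q ^ 2) ≠ μ ^ (q ^ 3) := fun e => m1 (hinj _ _ (by
    rw [← pow_mul, ← pow_mul, ← pow_two, ← pow_succ]; exact e))
  have hT : T.card = 4 := by
    rw [Finset.card_insert_of_notMem (by simp [n1.symm, n2.symm, n3.symm]),
      Finset.card_insert_of_notMem (by simp [m1, m2]), Finset.card_pair m3]
  have hTR : R.toFinset = T := by
    symm
    refine Finset.eq_of_subset_of_card_le (fun a ha => ?_) ?_
    · have r1 := hψR μ hμ
      have r2 := hψR _ r1
      have r3 := hψR _ r2
      rw [← pow_mul, ← pow_two] at r2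
      rw [← pow_mul, ← pow_mul, ← mul_assoc, show q * q * q = q ^ 3 by ring] at r3
      simp only [T, Finset.mem_insert, Finset.mem_singleton] at ha
      rw [Multiset.mem_toFinset]
      rcases ha with rfl | rfl | rfl | rfl <;> assumption
    · rw [hT]; exact (Multiset.toFinset_card_le R).trans hdeg.le
  -- conjugates of `c`
  let U : Finset (Cfsg.Sz F m) := {c, c ^ q, c ^ (q ^ 2), c ^ (q ^ 3)}
  set N := Subgroup.normalizer (cen g : Set (Cfsg.Sz F m)) with hNdef
  have hU : ∀ n ∈ N, n * c * n⁻¹ ∈ U := by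
    intro n hn
    obtain ⟨s, hs⟩ : ∃ s : ℕ, c ^ s = n * c * n⁻¹ := by
      have hmem : n * c * n⁻¹ ∈ cen g := (Subgroup.mem_normalizer_iff.1 hn c).1 c₀.2
      have htop : Subgroup.zpowers c = cen g := Subgroup.eq_of_le_of_card_ge
        (Subgroup.zpowers_le.2 c₀.2) (by rw [Nat.card_zpowers, hco])
      rw [← htop] at hmem
      exact Submonoid.mem_powers_iff _ _ |>.1 ((mem_powers_iff_mem_zpowers).2 hmem)
    have hμs : μ ^ s ∈ T := by
      rw [← hTR, Multiset.mem_toFinset, hR, Polynomial.mem_roots A.charpoly_monic.ne_zero]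
      have h1 := Matrix.mem_spectrum_iff_isRoot_charpoly.1 (spectrum.pow_mem_pow A s
        (Matrix.mem_spectrum_iff_isRoot_charpoly.2
          ((Polynomial.mem_roots A.charpoly_monic.ne_zero).1 (hR ▸ hμ))))
      rw [hA, ← hpow, hs, Matrix.charpoly_map, mat_mul, mat_mul, Matrix.charpoly_mul_comm, ← mul_assoc,
        ← mat_mul, inv_mul_cancel, mat_one, one_mul, ← Matrix.charpoly_map] at h1
      exact h1
    have hback : ∀ i : ℕ, μ ^ s = μ ^ i → n * c * n⁻¹ = c ^ i := fun i e => by
      rw [← hs, pow_eq_pow_iff_modEq, hco, ← hμo]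
      exact hfin.pow_eq_pow_iff_modEq.1 e
    simp only [T, Finset.mem_insert, Finset.mem_singleton] at hμs
    simp only [U, Finset.mem_insert, Finset.mem_singleton]
    rcases hμs with e | e | e | e
    · exact Or.inl ((hback 1 (by rwa [pow_one])).trans (pow_one c))
    · exact Or.inr (Or.inl (hback q e))
    · exact Or.inr (Or.inr (Or.inl (hback _ e)))
    · exact Or.inr (Or.inr (Or.inr (hback _ e)))
  let conjMap : N ⧸ (cen g).subgroupOf N → {x // x ∈ U} :=
    Quotient.lift (fun n : N => ⟨(n : Cfsg.Sz F m) * c * (n : Cfsg.Sz F m)⁻¹, hU n n.2⟩) fun a b hab => by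
      have hm' : ((a⁻¹ * b : N) : Cfsg.Sz F m) ∈ cen g :=
        (@QuotientGroup.leftRel_apply _ _ ((cen g).subgroupOf N) a b).1 hab
      rw [← hcC, mem_centralizer_iff'] at hm'
      apply Subtype.ext
      show (a : Cfsg.Sz F m) * c * (a : Cfsg.Sz F m)⁻¹ = (b : Cfsg.Sz F m) * c * (b : Cfsg.Sz F m)⁻¹
      rw [Subgroup.coe_mul, Subgroup.coe_inv] at hm'
      have h5 := congrArg (fun z => (a : Cfsg.Sz F m) * z * (b : Cfsg.Sz F m)⁻¹) hm'
      simpa [mul_assoc] using h5
  have hinjM : Function.Injective conjMap := by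
    intro x y
    induction x using QuotientGroup.induction_on with
    | H a => induction y using QuotientGroup.induction_on with
      | H b =>
        intro e
        have e' : (a : Cfsg.Sz F m) * c * (a : Cfsg.Sz F m)⁻¹ = (b : Cfsg.Sz F m) * c * (b : Cfsg.Sz F m)⁻¹ :=
          congrArg Subtype.val e
        refine Quotient.sound (QuotientGroup.leftRel_apply.2 ?_)
        show ((a⁻¹ * b : N) : Cfsg.Sz F m) ∈ cen g
        rw [← hcC, mem_centralizer_iff', Subgroup.coe_mul, Subgroup.coe_inv]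
        have h5 := congrArg (fun z => (a : Cfsg.Sz F m)⁻¹ * z * (b : Cfsg.Sz F m)) e'
        simpa [mul_assoc] using h5
  haveI := Fintype.ofFinite (N ⧸ (cen g).subgroupOf N)
  have hcardN : Fintype.card (N ⧸ (cen g).subgroupOf N) = 4 := by
    rw [← Nat.card_eq_fintype_card]
    show ((cen g).subgroupOf N).index = 4
    have h1 := ((cen g).subgroupOf N).card_mul_index
    rw [Nat.card_congr (Subgroup.subgroupOfEquivOfLe (Subgroup.le_normalizer : cen g ≤ N)).toEquiv,
      hN g hg] at h1
    exact Nat.eq_of_mul_eq_mul_left (by omega : 0 < Nat.card (cen g)) (by rw [h1, mul_comm])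
  have hUc : U.card ≤ 4 := Finset.card_le_four
  have hsurj : Function.Surjective conjMap := (Fintype.bijective_iff_injective_and_card _).2
    ⟨hinjM, le_antisymm (Fintype.card_le_of_injective _ hinjM) (by rw [hcardN, Fintype.card_coe]; exact hUc)⟩
    |>.2
  obtain ⟨z, hz⟩ := hsurj ⟨c ^ q, by simp [U]⟩
  induction z using QuotientGroup.induction_on with
  | H n =>
    refine ⟨(n : Cfsg.Sz F m), ?_⟩
    have hzc : (n : Cfsg.Sz F m) * c * (n : Cfsg.Sz F m)⁻¹ = c ^ q := congrArg Subtype.val hz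
    have hgmem : g ∈ Subgroup.zpowers c := by
      rw [Subgroup.eq_of_le_of_card_ge (Subgroup.zpowers_le.2 c₀.2) (by rw [Nat.card_zpowers, hco])]
      exact mem_centralizer_iff'.2 rfl
    obtain ⟨i, hi⟩ := Submonoid.mem_powers_iff _ _ |>.1 ((mem_powers_iff_mem_zpowers).2 hgmem)
    rw [← hi, ← conj_pow, hzc, ← pow_mul, ← pow_mul, mul_comm]

/-- Every element of order not dividing four is conjugate to its `q`-th power. -/
theorem conj_pow_card {g : Cfsg.Sz F m} (hg : g ^ 4 ≠ 1) :
    ∃ x : Cfsg.Sz F m, x * g * x⁻¹ = g ^ Fintype.card F := by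
  by_cases hf : HasFix g
  · obtain ⟨x, hx | ⟨e, he, hx⟩⟩ := fix_cases h hm hf
    · refine absurd ?_ hg
      have := congrArg (fun w => x * w * x⁻¹) (pow_four_of_mem h hm hx)
      rw [← conj_pow] at this
      simpa [mul_assoc] using this
    · refine ⟨1, ?_⟩
      have hgd : g = x * dS h e * x⁻¹ := by rw [← hx]; group
      have h2 : 1 ≤ Fintype.card F := Fintype.card_pos
      rw [one_mul, inv_one, mul_one, hgd, conj_pow,
        show Fintype.card F = (Fintype.card F - 1) + 1 by omega, pow_succ, dS_pow_card h hm, one_mul]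
  · exact exists_conj_pow h hm (inE_of_not_fix h hm hf)

end Cfsg.Agent.Lib.Sp4Res55.SzFrob
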