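import Cfsg.Agent.Lib.Sp4Res55.Traces
import Cfsg.Agent.Lib.Sp4Res55.SzFrob
import Cfsg.Agent.Lib.Sz8Cover.Transfer
import Cfsg.Agent.Lib.Mitchell96.TraceForms
import Cfsg.Agent.Lib.Elusive.ExtFieldSymp

/-!
A residual Suzuki subgroup of `Sp₄(q)` is the Suzuki group over the field with `q` elements.
Owner: helper55.
-/
set_option autoImplicit false
set_option linter.unusedSectionVars false

namespace Cfsg.Agent.Lib.Sp4Res55

open Matrix Cfsg.Agent.Lib.Subspaces.Transvection Cfsg.Agent.Lib.LieTwisted.Suzuki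

variable {F : Type*} [Field F] [Fintype F]

local notation "Vec" => Fin 2 ⊕ Fin 2 → F
local notation "Mat" => Matrix (Fin 2 ⊕ Fin 2) (Fin 2 ⊕ Fin 2) F
local notation "GL4" => Matrix.GeneralLinearGroup (Fin 2 ⊕ Fin 2) F

variable {P : Subgroup (Matrix.GeneralLinearGroup (Fin 2 ⊕ Fin 2) F)}

/-- The case of the Suzuki groups. -/
theorem suzuki_case (h2 : (2 : F) = 0) (hle : P ≤ Cfsg.spGL 2 F)
    (habs : Cfsg.Geo.ActsAbsolutelyIrreducibly (Cfsg.Geo.matrixSet P))
    (hnos : ∀ E : Subfield F, E ≠ ⊤ → ¬ Cfsg.Geo.RealisableOver E (Cfsg.Geo.matrixSet P))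
    (hiso : Cfsg.Lie.IsoSuzuki P) :
    ∃ m : ℕ, 1 ≤ m ∧ Fintype.card F = 2 ^ (2 * m + 1) ∧ Nonempty (P ≃* Cfsg.Lie.Sz F (2 ^ (m + 1))) := by
  classical
  obtain ⟨K, iK, iK', m, hm, hKc, ⟨e⟩⟩ := hiso
  have h : IsSzField K m := ⟨hKc⟩
  let ε : Cfsg.Sz K m ≃* P := (e.trans (szEquiv h hm).symm).symm
  set r := 2 * m + 1 with hr
  -- traces are fixed
  have htr : ∀ g ∈ P, (g : Mat).trace ^ (2 ^ r) = (g : Mat).trace := by
    intro g hg
    by_cases h4g : g ^ 4 = 1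
    · rw [trace_two_element h2 (e := 2) (by simpa using h4g)]
      exact zero_pow (by positivity)
    set z := ε.symm ⟨g, hg⟩ with hz
    have hz4 : z ^ 4 ≠ 1 := fun e4 => h4g (by
      have h1 : ε (z ^ 4) = 1 := by rw [e4, map_one]
      rw [map_pow, hz, MulEquiv.apply_symm_apply] at h1
      exact congrArg Subtype.val h1)
    obtain ⟨x, hx⟩ := SzFrob.conj_pow_card h hm hz4
    rw [hKc] at hx
    have hx' := congrArg (fun w => ((ε w : P) : GL4)) hx
    simp only [map_mul, map_inv, map_pow, hz, MulEquiv.apply_symm_apply, Subgroup.coe_mul,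
      Subgroup.coe_inv, SubmonoidClass.coe_pow] at hx'
    rw [← trace_pow_two_pow h2 g r, ← hx', Units.val_mul, Units.val_mul, Matrix.trace_mul_cycle,
      ← Units.val_mul, inv_mul_cancel, Units.val_one, one_mul]
  have htop : fixField (F := F) h2 r = ⊤ := by
    by_contra hne
    exact hnos _ hne (Cfsg.Agent.Lib.Mitchell96.realisable_of_trace habs _ fun g hg =>
      (mem_fixField h2).2 (htr g hg))
  have : CharP F 2 := (CharP.charP_iff_prime_eq_zero Nat.prime_two).2 h2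
  obtain ⟨k, -, hk⟩ := FiniteField.card F 2
  -- the degree divides `r`
  have hdiv : (k : ℕ) ∣ r := by
    obtain ⟨u, hu⟩ := IsCyclic.exists_ofOrder_eq_natCard (α := Fˣ)
    have hur : u ^ (2 ^ r - 1) = 1 := by
      have h1 : (u : F) ^ (2 ^ r) = u := (mem_fixField h2).1 (htop ▸ Subfield.mem_top _)
      refine Units.ext ?_
      rw [Units.val_pow_eq_pow_val, Units.val_one]
      apply mul_right_cancel₀ (Units.ne_zero u)
      rw [← pow_succ, Nat.sub_add_cancel Nat.one_le_two_pow, h1, one_mul]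
    have hd := orderOf_dvd_of_pow_eq_one hur
    rw [hu, Nat.card_eq_fintype_card, Fintype.card_units, hk] at hd
    have hg := Nat.pow_sub_one_gcd_pow_sub_one 2 (k : ℕ) r
    rw [Nat.gcd_eq_left hd] at hg
    have e1 : 2 ^ (k : ℕ) = 2 ^ Nat.gcd (k : ℕ) r := by
      have a1 := Nat.one_le_two_pow (n := (k : ℕ))
      have a2 := Nat.one_le_two_pow (n := Nat.gcd (k : ℕ) r)
      omega
    rw [Nat.pow_right_injective le_rfl e1]
    exact Nat.gcd_dvd_right _ _
  -- the order of the symplectic group bounds `r`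
  have hbound : r ≤ 2 * (k : ℕ) := by
    have hcard : Nat.card P ∣ Nat.card (Cfsg.spGL 2 F) := Subgroup.card_dvd_of_le hle
    rw [Nat.card_congr ε.toEquiv.symm, h.card_group hm,
      Cfsg.Agent.Lib.Elusive.ExtFieldSymp.card_spGL, hKc, hk] at hcard
    have hdv : (2 ^ r) ^ 2 ∣ (2 ^ (k : ℕ)) ^ (2 ^ 2) *
        ∏ i ∈ Finset.range 2, ((2 ^ (k : ℕ)) ^ (2 * (i + 1)) - 1) :=
      ((dvd_mul_right _ _).trans (dvd_mul_right _ _)).trans hcard
    have hodd : ∀ n : ℕ, 0 < n → Nat.Coprime ((2 ^ r) ^ 2) ((2 ^ (k : ℕ)) ^ n - 1) := fun n hn => by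
      rw [← pow_mul, ← pow_mul]
      refine Nat.Coprime.pow_left _ (Nat.prime_two.coprime_iff_not_dvd.2 ?_)
      have h2n : 2 ∣ 2 ^ ((k : ℕ) * n) := dvd_pow_self 2 (Nat.mul_pos k.pos hn).ne'
      have := Nat.one_le_two_pow (n := (k : ℕ) * n)
      omega
    rw [Finset.prod_range_succ, Finset.prod_range_one] at hdv
    have hdv' : (2 ^ r) ^ 2 ∣ (2 ^ (k : ℕ)) ^ (2 ^ 2) :=
      ((hodd _ (by norm_num)).mul_right (hodd _ (by norm_num))).dvd_of_dvd_mul_right hdv
    rw [← pow_mul, ← pow_mul, Nat.pow_dvd_pow_iff_le_right (by norm_num)] at hdv'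
    omega
  have hkr : (k : ℕ) = r := by
    obtain ⟨c, hc⟩ := hdiv
    have hc2 : c ≤ 2 := Nat.le_of_mul_le_mul_left (by rw [← hc]; omega) k.pos
    interval_cases c <;> omega
  refine ⟨m, hm, by rw [hk, hkr], ?_⟩
  have hF : IsSzField F m := ⟨by rw [hk, hkr]⟩
  exact ⟨(ε.symm.trans (Cfsg.Agent.Lib.Sz8Cover.szCongr h hF hm
    (FiniteField.ringEquivOfCardEq (by rw [hKc, hk, hkr])))).trans (szEquiv hF hm)⟩

end Cfsg.Agent.Lib.Sp4Res55
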