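import Cfsg.Agent.Lib.Sp4Res55.AltSix
import Cfsg.Agent.Lib.Sp4Res55.SuzukiCase
import Cfsg.Agent.Lib.Thompson3Prime33.Main
import Cfsg.Agent.Lib.CITSuzuki.Lists
import Cfsg.Agent.S0348

/-!
A simple absolutely irreducible subgroup of `Sp₄(q)`, `q` even, which is realisable over no proper
subfield and fixes no quadratic form is the whole group or a Suzuki group over the field.
Owner: helper55.
-/
set_option autoImplicit false
set_option linter.unusedSectionVars false

namespace Cfsg.Agent.Lib.Sp4Res55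

open Matrix Cfsg.Agent.Lib.Subspaces.Transvection Cfsg.Agent.Lib.Subspaces.SympGen

variable {F : Type*} [Field F] [Fintype F]

local notation "Vec" => Fin 2 ⊕ Fin 2 → F
local notation "Mat" => Matrix (Fin 2 ⊕ Fin 2) (Fin 2 ⊕ Fin 2) F
local notation "GL4" => Matrix.GeneralLinearGroup (Fin 2 ⊕ Fin 2) F
local notation "f₄" => Cfsg.sympForm 2 F

variable {P : Subgroup (Matrix.GeneralLinearGroup (Fin 2 ⊕ Fin 2) F)}

/-- An absolutely irreducible group of four by four matrices has at least sixteen elements. -/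
theorem sixteen_le (habs : Cfsg.Geo.ActsAbsolutelyIrreducibly (Cfsg.Geo.matrixSet P)) :
    16 ≤ Nat.card P := by
  classical
  have hspan := Cfsg.Agent.Lib.Mitchell96.span_eq_top habs
  have : Fintype P := Fintype.ofFinite P
  have : Fintype (Cfsg.Geo.matrixSet P) := Fintype.ofFinite _
  have h1 := finrank_span_le_card (R := F) (Cfsg.Geo.matrixSet P)
  rw [hspan, finrank_top, Module.finrank_matrix] at h1
  simp only [Fintype.card_sum, Fintype.card_fin, Module.finrank_self, mul_one, Set.toFinset_card] at h1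
  have h2 : Fintype.card (Cfsg.Geo.matrixSet P) ≤ Fintype.card P :=
    Fintype.card_le_of_surjective (fun g : P => (⟨((g : GL4) : Mat), g, g.2, rfl⟩ : Cfsg.Geo.matrixSet P))
      (by rintro ⟨_, g, hg, rfl⟩; exact ⟨⟨g, hg⟩, rfl⟩)
  rw [Nat.card_eq_fintype_card]
  omega

/-- The Suzuki orders are prime to three. -/
theorem not_three_dvd {G : Type*} [Group G] (h : Cfsg.IsSuzuki G) : ¬ 3 ∣ Nat.card G := by
  obtain ⟨-, m, -, hc⟩ := h
  intro h3
  rw [hc, ← ZMod.natCast_eq_zero_iff] at h3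
  have h2 : 1 ≤ 2 ^ (2 * m + 1) := Nat.one_le_two_pow
  push_cast [Nat.cast_sub h2] at h3
  have e : (2 : ZMod 3) ^ (2 * m + 1) = 2 := by
    rw [pow_succ, pow_mul, show (2 : ZMod 3) ^ 2 = 1 by decide, one_pow, one_mul]
  rw [e] at h3
  exact absurd h3 (by decide)

/-- No involution of `P` is a transvection or has alternating form: all are of the third class. -/
theorem Setting.c2_of_classes (S : Setting P)
    (hT : ∀ (v : Vec) (a : F), v ≠ 0 → a ≠ 0 → sv v a ∉ P)
    (hA : ∀ g ∈ P, g ≠ 1 → g * g = 1 → ∃ x : Vec, f₄ ((g : Mat) *ᵥ x) x ≠ 0)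
    {g : GL4} (hg : g ∈ P) (hne : g ≠ 1) (hsq : g * g = 1) : ∃ p q, C2 g p q := by
  refine exists_c2 S.two (S.le hg) hsq (fun v e => ?_) (hA g hg hne hsq)
  by_cases hv : v = 0
  · subst hv
    refine hne (e.trans (gl_ext fun x => ?_))
    rw [sv_mulVec, smul_zero, add_zero, Units.val_one, one_mulVec]
  · exact hT v 1 hv one_ne_zero (e ▸ hg)

/-- The classification. -/
theorem Setting.classify (S : Setting P) (h4 : 4 ≤ Fintype.card F)
    (habs : Cfsg.Geo.ActsAbsolutelyIrreducibly (Cfsg.Geo.matrixSet P))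
    (hnos : ∀ E : Subfield F, E ≠ ⊤ → ¬ Cfsg.Geo.RealisableOver E (Cfsg.Geo.matrixSet P))
    (hQ : ¬ ∃ Q : (Fin 2 ⊕ Fin 2 → F) → F, Cfsg.Geo.IsNondegenerateQuadraticForm Q ∧
      Cfsg.Geo.FixesQuadForm (Cfsg.Geo.matrixSet P) Q) :
    P = Cfsg.spGL 2 F ∨ ∃ m : ℕ, 1 ≤ m ∧ Fintype.card F = 2 ^ (2 * m + 1) ∧
      Nonempty (P ≃* Cfsg.Lie.Sz F (2 ^ (m + 1))) := by
  classical
  have h2 := S.two
  by_cases hT : ∃ (v : Vec) (a : F), v ≠ 0 ∧ a ≠ 0 ∧ sv v a ∈ P
  · obtain ⟨v, a, hv, ha, hva⟩ := hT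
    rcases S.transvection h4 hv ha hva with h | ⟨E, hE, hr⟩
    · exact Or.inl h
    · exact absurd hr (hnos E hE)
  push Not at hT
  by_cases hA : ∃ g ∈ P, g ≠ 1 ∧ g * g = 1 ∧ ∀ x : Vec, f₄ ((g : Mat) *ᵥ x) x = 0
  · obtain ⟨g, hg, hne, hsq, halt⟩ := hA
    rcases S.alternating h4 habs hg hne hsq halt with h | ⟨E, hE, hr⟩
    · exact Or.inl h
    · exact absurd hr (hnos E hE)
  push Not at hA
  have hc2 : ∀ {g : GL4}, g ∈ P → g ≠ 1 → g * g = 1 → ∃ p q, C2 g p q := fun {g} hg hne hsq =>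
    S.c2_of_classes hT hA hg hne hsq
  haveI := S.simple
  have hG : ∃ a b : P, a * b ≠ b * a := by
    by_contra! h
    exact S.nonab ⟨⟨h⟩⟩
  have hCIT : ∀ t : P, orderOf t = 2 → IsPGroup 2 (Subgroup.centralizer ({t} : Set P)) := by
    intro t ht k
    have hsq : t * t = 1 := by
      have := pow_orderOf_eq_one t
      rwa [ht, pow_two] at this
    have hne : t ≠ 1 := fun e => by rw [e, orderOf_one] at ht; exact absurd ht (by norm_num)
    obtain ⟨p, q, hpq⟩ := hc2 t.2 (fun e => hne (Subtype.ext e)) (congrArg Subtype.val hsq)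
    refine ⟨2, Subtype.ext (Subtype.ext ?_)⟩
    have hc : Commute ((k : P) : GL4) (t : GL4) :=
      congrArg Subtype.val (Subgroup.mem_centralizer_singleton_iff.1 k.2)
    have := hpq.pow_four h2 (S.le (k : P).2) hc
    simpa using this
  have even_case : ∀ (K : Type) [Field K] [Fintype K], (2 : K) = 0 →
      (P ≃* Matrix.ProjectiveSpecialLinearGroup (Fin 2) K) → False := by
    intro K _ _ hK e
    obtain ⟨u, tau, w, R⟩ := exists_rel (F := F) hK e
    refine hQ (R.absurd_rel S habs fun c hc => hc2 (R.u_mem c) (R.u_ne c hc) ?_)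
    rw [R.u_add, aa (F := K) hK, R.u_zero S]
  have two_of_card : ∀ (K : Type) [Field K] [Fintype K] (n : ℕ), Fintype.card K = 2 ^ n → (2 : K) = 0 := by
    intro K _ _ n hn
    have hn0 : n ≠ 0 := by
      rintro rfl
      rw [pow_zero] at hn
      have := Fintype.one_lt_card (α := K)
      omega
    have h0 : ((Fintype.card K : ℕ) : K) = 0 := FiniteField.cast_card_eq_zero K
    rw [hn, Nat.cast_pow] at h0
    exact_mod_cast eq_zero_of_pow_eq_zero h0
  rcases Cfsg.Agent.S0348.result hG hCIT with ⟨K, iK, iK', hc, ⟨e⟩⟩ | ⟨K, iK, iK', hc, ⟨e⟩⟩ | hSz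
  · exfalso
    rcases hc with h9 | ⟨n, hn⟩ | ⟨hp, k, hk⟩
    · obtain ⟨e9⟩ := Cfsg.Agent.Lib.Linear.SmallIso.nonempty_psl_two_nine h9
      exact S.no_alt_six h4 habs hnos (e.trans e9)
    · exact even_case K (two_of_card K n hn) e
    · set p := Fintype.card K with hpdef
      by_cases h7 : 7 ≤ p
      · exact no_l2_prime h2 S.le hp h7 e
      have hp2 := hp.two_le
      obtain h | h | h : p = 2 ∨ p = 3 ∨ p = 5 := by
        interval_cases p <;> revert hp <;> norm_num
      · exact even_case K (two_of_card K 1 (by rw [pow_one, ← hpdef, h])) e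
      · have hcard := Cfsg.Agent.Lib.Linear.gcd_mul_card_PSL_two (F := K)
        rw [← hpdef, h, ← Nat.card_congr e.toEquiv] at hcard
        norm_num at hcard
        rw [← Nat.card_eq_fintype_card] at hcard
        have := sixteen_le habs
        omega
      · obtain ⟨K4, i4, i4', hK4, ⟨e4⟩⟩ :=
          Cfsg.Agent.Lib.CITSuzuki.Lists.psl_two_five_to_four (by rw [← hpdef, h]) e
        exact even_case K4 (two_of_card K4 2 (by rw [hK4]; norm_num)) e4
  · exfalso
    exact no_l3 h2 S.le (two_of_card K 2 (by rw [hc]; norm_num)) e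
  · exact Or.inr (suzuki_case h2 S.le habs hnos
      (Cfsg.Agent.Lib.Thompson3Prime33.threePrimeSimple P S.simple hG (not_three_dvd hSz)))

end Cfsg.Agent.Lib.Sp4Res55
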