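import Cfsg.Agent.Lib.DicksonId.Classify

/-!
Subgroups of `SL(2, 2^k)` with two upper and one lower transvection.
Owner: helper55.
-/
set_option autoImplicit false
set_option linter.unusedSectionVars false

namespace Cfsg.Agent.Lib.Sp4Res55

open Matrix
open Cfsg.Agent.Lib.DicksonFull (pslExt slExt)
open Cfsg.Agent.Lib.DicksonId (conjG pre mem_pre mem_pre_conjG center_cases)

variable {F : Type*} [Field F]

local notation "SL2" => Matrix.SpecialLinearGroup (Fin 2) F
local notation "M2" => Matrix (Fin 2) (Fin 2) F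
local notation "PSL2" => Matrix.ProjectiveSpecialLinearGroup (Fin 2) F

/-- An upper unitriangular matrix. -/
def upM (a : F) : Matrix.SpecialLinearGroup (Fin 2) F :=
  ⟨!![1, a; 0, 1], by simp [Matrix.det_fin_two_of]⟩

/-- A lower unitriangular matrix. -/
def loM (a : F) : Matrix.SpecialLinearGroup (Fin 2) F :=
  ⟨!![1, 0; a, 1], by simp [Matrix.det_fin_two_of]⟩

theorem upM_mul (a b : F) : upM a * upM b = upM (a + b) := by
  apply Subtype.ext
  rw [Matrix.SpecialLinearGroup.coe_mul]
  simp [upM, add_comm]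

theorem upM_inj {a b : F} (h : upM a = upM b) : a = b := by
  simpa [upM] using congrArg (fun M : SL2 => (M : M2) 0 1) h

theorem upM_zero : upM (0 : F) = 1 := by
  apply Subtype.ext
  simp [upM, Matrix.one_fin_two]

theorem loM_inj {a b : F} (h : loM a = loM b) : a = b := by
  simpa [loM] using congrArg (fun M : SL2 => (M : M2) 1 0) h

theorem trace_sq (h2 : (2 : F) = 0) (M : SL2) :
    Matrix.trace ((M * M : SL2) : M2) = Matrix.trace (M : M2) * Matrix.trace (M : M2) := by
  have hd : (M : M2) 0 0 * (M : M2) 1 1 - (M : M2) 0 1 * (M : M2) 1 0 = 1 := by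
    rw [← Matrix.det_fin_two]; exact M.2
  rw [Matrix.SpecialLinearGroup.coe_mul, Matrix.trace_fin_two, Matrix.trace_fin_two, Matrix.mul_apply,
    Matrix.mul_apply, Fin.sum_univ_two, Fin.sum_univ_two]
  linear_combination ((M : M2) 0 1 * (M : M2) 1 0 - (M : M2) 0 0 * (M : M2) 1 1) * h2

variable [Fintype F]

/-- In characteristic two, transvections of one point and another generate a subfield group: the upper
parameters form a subfield and so do the lower ones. -/
theorem plane_field (h2 : (2 : F) = 0) (G : Subgroup (Matrix.SpecialLinearGroup (Fin 2) F)) {a b : F}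
    (h1 : upM 1 ∈ G) (ha : upM a ∈ G) (ha0 : a ≠ 0) (ha1 : a ≠ 1) (hb : loM b ∈ G) (hb0 : b ≠ 0) :
    ∃ E : Subfield F, (∀ x, upM x ∈ G ↔ x ∈ E) ∧ (∀ x, loM x ∈ G ↔ x ∈ E) := by
  classical
  have hchar : CharP F 2 := (CharP.charP_iff_prime_eq_zero Nat.prime_two).2 h2
  have hp : Fact (Nat.Prime 2) := ⟨Nat.prime_two⟩
  have hneg : (Dickson.negI : SL2) = 1 := by
    apply Subtype.ext
    rw [Dickson.coe_negI, Matrix.SpecialLinearGroup.coe_one]
    ext i j
    simp only [Matrix.neg_apply]
    linear_combination -((1 : M2) i j) * h2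
  have hmk : Function.Injective (QuotientGroup.mk' (Subgroup.center SL2)) := by
    rw [← MonoidHom.ker_eq_bot_iff, QuotientGroup.ker_mk', Subgroup.eq_bot_iff_forall]
    intro z hz
    rcases center_cases hz with h | h
    · exact h
    · exact h.trans hneg
  set G' := G.map (QuotientGroup.mk' (Subgroup.center SL2)) with hG'
  have hpre : pre G' = G := Subgroup.comap_map_eq_self_of_injective hmk G
  have hcardG : Nat.card G' = Nat.card G :=
    (Nat.card_congr (G.equivMapOfInjective _ hmk).toEquiv).symm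
  -- a four-group of upper matrices
  have h22 : ∀ x : F, x + x = 0 := fun x => by linear_combination x * h2
  have h22' : ∀ x y : F, x + (x + y) = y := fun x y => by rw [← add_assoc, h22, zero_add]
  let V : Subgroup SL2 :=
    { carrier := {g | g = upM 0 ∨ g = upM 1 ∨ g = upM a ∨ g = upM (1 + a)}
      mul_mem' := by
        rintro x y (rfl | rfl | rfl | rfl) (rfl | rfl | rfl | rfl) <;>
          simp [upM_mul, h22, h22', add_comm, add_left_comm]
      one_mem' := Or.inl upM_zero.symm
      inv_mem' := by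
        rintro x (rfl | rfl | rfl | rfl) <;>
          (rw [inv_eq_of_mul_eq_one_right (by rw [upM_mul, h22, upM_zero])]; simp) }
  have hV4 : Nat.card V = 4 := by
    have hne : (1 : F) + a ≠ 0 := fun e => ha1 (by linear_combination e - h2)
    have hs : (V : Set SL2) = ({upM 0, upM 1, upM a, upM (1 + a)} : Finset SL2) := by
      ext g; simp [V]
    rw [← SetLike.coe_sort_coe, hs, Nat.card_coe_set_eq, Set.ncard_coe_finset]
    have i1 : upM (0 : F) ≠ upM 1 := fun e => zero_ne_one (upM_inj e)
    have i2 : upM (0 : F) ≠ upM a := fun e => ha0 (upM_inj e).symm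
    have i3 : upM (0 : F) ≠ upM (1 + a) := fun e => hne (upM_inj e).symm
    have i4 : upM (1 : F) ≠ upM a := fun e => ha1 (upM_inj e).symm
    have i5 : upM (1 : F) ≠ upM (1 + a) := fun e => ha0 (by linear_combination -(upM_inj e))
    have i6 : upM a ≠ upM (1 + a) := fun e => one_ne_zero (α := F) (by linear_combination -(upM_inj e))
    simp [i1, i2, i3, i4, i5, i6]
  have hVG : V ≤ G := by
    rintro g (rfl | rfl | rfl | rfl)
    · rw [upM_zero]; exact G.one_mem
    · exact h1
    · exact ha
    · rw [← upM_mul]; exact G.mul_mem h1 ha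
  have h4G : 4 ∣ Nat.card G' := by
    rw [hcardG, ← hV4]; exact Subgroup.card_dvd_of_le hVG
  have h2G : 2 ∣ Nat.card G' := (show 2 ∣ 4 by norm_num).trans h4G
  have hnot2 : ∀ n : ℕ, ((upM 1 * loM b : SL2)) ^ (2 ^ n) ≠ 1 := by
    have htr : ∀ n : ℕ, Matrix.trace (((upM 1 * loM b : SL2) ^ (2 ^ n) : SL2) : M2) = b ^ (2 ^ n) := by
      intro n
      induction n with
      | zero =>
        rw [pow_zero, pow_one, pow_one, Matrix.SpecialLinearGroup.coe_mul, Matrix.trace_fin_two]
        simp [upM, loM, Matrix.mul_apply, Fin.sum_univ_two]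
        linear_combination h2
      | succ n ih => rw [pow_succ, pow_mul, sq, trace_sq h2, ih, pow_mul, sq]
    intro n e
    have := htr n
    rw [e, Matrix.SpecialLinearGroup.coe_one, Matrix.trace_one, Fintype.card_fin] at this
    exact pow_ne_zero _ hb0 (by rw [← this]; exact_mod_cast h2)
  rcases Cfsg.Agent.Lib.DicksonId.classify (p := 2) G' with
    ⟨-, h⟩ | ⟨j, hj, -, ⟨d⟩⟩ | ⟨S, hS⟩ | ⟨h, -⟩ | ⟨h, -⟩ | ⟨h, -⟩ | ⟨k, hk, -, -, g, φ, hφ⟩
  · exact absurd h2G h
  · rw [Nat.card_congr d.toEquiv, DihedralGroup.nat_card] at h4G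
    exact absurd (Nat.dvd_of_mul_dvd_mul_left Nat.two_pos (show 2 * 2 ∣ 2 * j from h4G)) hj
  · exfalso
    have hinS : ∀ x : PSL2, x ∈ G' → x * x = 1 → x ∈ (S : Subgroup PSL2) := by
      intro x hx hxx
      have hpg : IsPGroup 2 (Subgroup.zpowers x) := by
        have hd : orderOf x ∣ 2 ^ 1 := orderOf_dvd_of_pow_eq_one (by rw [pow_one, pow_two, hxx])
        obtain ⟨i, -, hi⟩ := (Nat.dvd_prime_pow Nat.prime_two).1 hd
        exact IsPGroup.of_card (n := i) (by rw [Nat.card_zpowers, hi])
      have hle : Subgroup.zpowers x ≤ Subgroup.normalizer ((S : Subgroup PSL2) : Set PSL2) := by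
        rw [Subgroup.zpowers_le]; exact hS hx
      have hj := IsPGroup.to_sup_of_normal_right' hpg S.isPGroup' hle
      have := S.is_maximal' hj le_sup_right
      exact this ▸ (le_sup_left (b := (S : Subgroup PSL2)) (Subgroup.mem_zpowers x))
    have hm : ((upM 1 * loM b : SL2) : PSL2) ∈ (S : Subgroup PSL2) := by
      rw [QuotientGroup.mk_mul]
      refine mul_mem (hinS _ ⟨_, h1, rfl⟩ ?_) (hinS _ ⟨_, hb, rfl⟩ ?_)
      · rw [← QuotientGroup.mk_mul, upM_mul, h22, upM_zero, QuotientGroup.mk_one]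
      · rw [← QuotientGroup.mk_mul, show loM b * loM b = 1 from ?_, QuotientGroup.mk_one]
        apply Subtype.ext
        rw [Matrix.SpecialLinearGroup.coe_mul]
        simp [loM, h22, Matrix.one_fin_two]
    obtain ⟨n, hn⟩ := S.isPGroup' ⟨_, hm⟩
    exact hnot2 n (hmk (by simpa using congrArg Subtype.val hn))
  · exact absurd h2G h
  · exact absurd h2G h
  · exact absurd h2G (h.resolve_right (by norm_num))
  replace hφ : conjG g G' = (pslExt φ).range := hφ.resolve_right fun h => h.1 rfl
  refine ⟨φ.fieldRange, ?_⟩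
  have hfwd : ∀ M ∈ G, ∀ i j, ((g : M2) * (M : M2) * ((g⁻¹ : GL (Fin 2) F) : M2)) i j ∈ φ.fieldRange := by
    intro M hM i j
    have h : (AutPSL.conjSL g M) ∈ pre (conjG g G') := mem_pre_conjG.2 ⟨M, hpre.symm ▸ hM, rfl⟩
    rw [hφ, mem_pre] at h
    obtain ⟨z, hz⟩ := h
    obtain ⟨w, rfl⟩ := QuotientGroup.mk_surjective z
    rw [DicksonFull.pslExt_mk] at hz
    have := hmk hz
    rw [← AutPSL.coe_conjSL, ← this, DicksonFull.slExt_apply]
    exact ⟨_, rfl⟩
  have hbwd : ∀ M : SL2, (∀ i j, ((g : M2) * (M : M2) * ((g⁻¹ : GL (Fin 2) F) : M2)) i j ∈ φ.fieldRange) →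
      M ∈ G := by
    intro M hM
    choose w hw using fun i j => hM i j
    have hdet : (Matrix.of w).det = 1 := by
      apply φ.injective
      rw [RingHom.map_det, map_one]
      have : φ.mapMatrix (Matrix.of w) = ((AutPSL.conjSL g M : SL2) : M2) := by
        ext i j
        rw [AutPSL.coe_conjSL]
        exact hw i j
      rw [this]
      exact (AutPSL.conjSL g M).2
    have h : AutPSL.conjSL g M ∈ pre (conjG g G') := by
      rw [hφ, mem_pre]
      let W : Matrix.SpecialLinearGroup (Fin 2) (GaloisField 2 k) := ⟨Matrix.of w, hdet⟩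
      refine ⟨(W : Matrix.ProjectiveSpecialLinearGroup (Fin 2) (GaloisField 2 k)), (DicksonFull.pslExt_mk φ W).trans ?_⟩
      congr 1
      apply Subtype.ext
      ext i j
      rw [DicksonFull.slExt_apply, AutPSL.coe_conjSL]
      exact hw i j
    obtain ⟨x, hx, hxe⟩ := mem_pre_conjG.1 h
    rw [hpre] at hx
    exact (AutPSL.conjSL g).injective hxe ▸ hx
  -- the two unipotent directions
  have key : ∀ (N : M2) (U : F → SL2), (∀ x, (U x : M2) = 1 + x • N) → N ≠ 0 →
      ∀ b₀, b₀ ≠ 0 → U b₀ ∈ G → ∀ x, U (x * b₀) ∈ G ↔ x ∈ φ.fieldRange := by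
    intro N U hU hN b₀ hb₀ hb₀G
    set N' := (g : M2) * N * ((g⁻¹ : GL (Fin 2) F) : M2) with hN'
    have hconj : ∀ x, (g : M2) * (U x : M2) * ((g⁻¹ : GL (Fin 2) F) : M2) = 1 + x • N' := fun x => by
      rw [hU, Matrix.mul_add, Matrix.add_mul, Matrix.mul_one, Units.mul_inv, Matrix.mul_smul,
        Matrix.smul_mul, hN']
    have h1' : ∀ i j, (1 : M2) i j ∈ φ.fieldRange := fun i j => by
      rw [Matrix.one_apply]; split_ifs
      · exact one_mem _
      · exact zero_mem _
    have hiff : ∀ x, U x ∈ G ↔ ∀ i j, x * N' i j ∈ φ.fieldRange := fun x => by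
      constructor
      · intro hx i j
        have h := hfwd _ hx i j
        rw [hconj, Matrix.add_apply, Matrix.smul_apply, smul_eq_mul] at h
        simpa using sub_mem h (h1' i j)
      · intro hx
        refine hbwd _ fun i j => ?_
        rw [hconj, Matrix.add_apply, Matrix.smul_apply, smul_eq_mul]
        exact add_mem (h1' i j) (hx i j)
    obtain ⟨i, j, hij⟩ : ∃ i j, N' i j ≠ 0 := by
      by_contra! h
      apply hN
      have h0 : N' = 0 := by ext i j; simpa using h i j
      calc N = ((g⁻¹ : GL (Fin 2) F) : M2) * N' * (g : M2) := by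
            rw [hN']; simp only [← Matrix.mul_assoc, Units.inv_mul, Matrix.one_mul]
            rw [Matrix.mul_assoc, Units.inv_mul, Matrix.mul_one]
        _ = 0 := by rw [h0, Matrix.mul_zero, Matrix.zero_mul]
    have hb₀' := (hiff b₀).1 hb₀G
    intro x
    refine ⟨fun hx => ?_, fun hx => (hiff _).2 fun i j => by rw [mul_assoc]; exact mul_mem hx (hb₀' i j)⟩
    have h := div_mem ((hiff _).1 hx i j) (hb₀' i j)
    rwa [mul_assoc, mul_div_assoc, div_self (mul_ne_zero hb₀ hij), mul_one] at h
  have hup := key !![0, 1; 0, 0] upM (fun x => by ext i j; fin_cases i <;> fin_cases j <;> simp [upM])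
    (fun e => one_ne_zero (α := F) (by simpa using congrFun (congrFun e 0) 1)) 1 one_ne_zero h1
  have hlo := key !![0, 0; 1, 0] loM (fun x => by ext i j; fin_cases i <;> fin_cases j <;> simp [loM])
    (fun e => one_ne_zero (α := F) (by simpa using congrFun (congrFun e 1) 0)) b hb0 hb
  have hbE : b ∈ φ.fieldRange := by
    have h := hfwd _ (G.mul_mem h1 hb)
    have : b = Matrix.trace ((g : M2) * ((upM 1 * loM b : SL2) : M2) * ((g⁻¹ : GL (Fin 2) F) : M2)) := by
      rw [Matrix.trace_mul_cycle, Units.inv_mul, Matrix.one_mul, Matrix.SpecialLinearGroup.coe_mul,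
        Matrix.trace_fin_two]
      simp [upM, loM, Matrix.mul_apply, Fin.sum_univ_two]
      linear_combination -h2
    rw [this, Matrix.trace_fin_two]
    exact add_mem (h 0 0) (h 1 1)
  refine ⟨fun x => by simpa using hup x, fun x => ?_⟩
  constructor
  · intro hx
    have := (hlo (x / b)).1 (by rwa [div_mul_cancel₀ _ hb0])
    simpa [div_mul_cancel₀ _ hb0] using mul_mem this hbE
  · intro hx
    have := (hlo (x / b)).2 (div_mem hx hbE)
    rwa [div_mul_cancel₀ _ hb0] at this

end Cfsg.Agent.Lib.Sp4Res55
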