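import Cfsg.Agent.Lib.Sp4Res55.CaseOne
import Cfsg.Agent.Lib.Sp4Res55.PlaneField

/-!
A simple irreducible subgroup of the four-dimensional symplectic group in characteristic two with a
transvection is the whole group or is realisable over a proper subfield.
Owner: helper55.
-/
set_option autoImplicit false
set_option linter.unusedSectionVars false

namespace Cfsg.Agent.Lib.Sp4Res55

open Matrix Module Cfsg.Agent.Lib.Subspaces.Transvection Cfsg.Agent.Lib.Subspaces.SympGen

variable {F : Type*} [Field F]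

local notation "Vec" => Fin 2 ⊕ Fin 2 → F
local notation "Mat" => Matrix (Fin 2 ⊕ Fin 2) (Fin 2 ⊕ Fin 2) F
local notation "GL4" => Matrix.GeneralLinearGroup (Fin 2 ⊕ Fin 2) F
local notation "f₄" => Cfsg.sympForm 2 F

variable {P : Subgroup (Matrix.GeneralLinearGroup (Fin 2 ⊕ Fin 2) F)}

/-- The action of a two by two matrix on the plane of `u`, `w`, trivial on its perpendicular. -/
def planeAct (u w : Fin 2 ⊕ Fin 2 → F) (m : Matrix (Fin 2) (Fin 2) F) :
    Matrix (Fin 2 ⊕ Fin 2) (Fin 2 ⊕ Fin 2) F :=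
  1 + vecMulVec u ((m 0 0 + 1) • Cfsg.Agent.Lib.Subspaces.FormVec.formVec (Cfsg.sympForm 2 F) w +
        m 0 1 • Cfsg.Agent.Lib.Subspaces.FormVec.formVec (Cfsg.sympForm 2 F) u) +
    vecMulVec w (m 1 0 • Cfsg.Agent.Lib.Subspaces.FormVec.formVec (Cfsg.sympForm 2 F) w +
        (m 1 1 + 1) • Cfsg.Agent.Lib.Subspaces.FormVec.formVec (Cfsg.sympForm 2 F) u)

theorem planeAct_mulVec (u w : Vec) (m : Matrix (Fin 2) (Fin 2) F) (x : Vec) :
    planeAct u w m *ᵥ x = x + ((m 0 0 + 1) * f₄ x w + m 0 1 * f₄ x u) • u +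
      (m 1 0 * f₄ x w + (m 1 1 + 1) * f₄ x u) • w := by
  rw [planeAct, add_mulVec, add_mulVec, one_mulVec, vecMulVec_mulVec, vecMulVec_mulVec,
    op_smul_eq_smul, op_smul_eq_smul]
  simp [add_dotProduct, smul_dotProduct, Cfsg.Agent.Lib.Subspaces.FormVec.formVec_dot
    (Cfsg.Agent.Lib.Subspaces.FormVec.isLinearLeft_of_bilinear (hf (F := F)).bilinear)]

/-- The representation of `SL 2` on a hyperbolic plane. -/
def planeRep (h2 : (2 : F) = 0) (u w : Fin 2 ⊕ Fin 2 → F) (huw : Cfsg.sympForm 2 F u w = 1) :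
    Matrix.SpecialLinearGroup (Fin 2) F →* Matrix.GeneralLinearGroup (Fin 2 ⊕ Fin 2) F :=
  MonoidHom.toHomUnits
    { toFun := fun m => planeAct u w (m : Matrix (Fin 2) (Fin 2) F)
      map_one' := by
        refine Matrix.mulVec_injective (funext fun x => ?_)
        rw [planeAct_mulVec, Matrix.SpecialLinearGroup.coe_one, one_mulVec]
        simp [aa h2]
      map_mul' := fun m n => by
        have hwu : f₄ w u = 1 := (f_comm h2 w u).trans huw
        refine Matrix.mulVec_injective (funext fun x => ?_)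
        rw [← Matrix.mulVec_mulVec]
        simp only [planeAct_mulVec, Matrix.SpecialLinearGroup.coe_mul, f_addl, f_smull, f_self, huw,
          hwu, Matrix.mul_apply, Fin.sum_univ_two, mul_zero, mul_one, add_zero]
        match_scalars
        · ring
        · linear_combination (-((m : Matrix (Fin 2) (Fin 2) F) 0 0 * f₄ x w + (n : Matrix (Fin 2) (Fin 2) F) 0 0 * f₄ x w + (m : Matrix (Fin 2) (Fin 2) F) 0 1 * f₄ x u + f₄ x w +
            (n : Matrix (Fin 2) (Fin 2) F) 0 1 * f₄ x u)) * h2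
        · linear_combination (-((m : Matrix (Fin 2) (Fin 2) F) 1 0 * f₄ x w + (m : Matrix (Fin 2) (Fin 2) F) 1 1 * f₄ x u + (n : Matrix (Fin 2) (Fin 2) F) 1 0 * f₄ x w +
            (n : Matrix (Fin 2) (Fin 2) F) 1 1 * f₄ x u + f₄ x u)) * h2 }

namespace Setting

variable (S : Setting P)
include S
variable [Fintype F]

theorem planeRep_up {u w : Vec} (huw : f₄ u w = 1) (a : F) :
    planeRep S.two u w huw (upM a) = sv u a := by
  refine gl_ext fun x => ?_
  show planeAct u w _ *ᵥ x = _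
  rw [planeAct_mulVec, sv_mulVec]
  simp [upM, aa S.two]

theorem planeRep_lo {u w : Vec} (huw : f₄ u w = 1) (a : F) :
    planeRep S.two u w huw (loM a) = sv w a := by
  refine gl_ext fun x => ?_
  show planeAct u w _ *ᵥ x = _
  rw [planeAct_mulVec, sv_mulVec]
  simp [loM, aa S.two]

theorem eq_one_of_sq {c : F} (h : c * c = 1) : c = 1 := S.eq_one_of_mul_self h

theorem mem_of_sq_mem (E : Subfield F) {x : F} (hx : x * x ∈ E) : x ∈ E := by
  have : CharP F 2 := (CharP.charP_iff_prime_eq_zero Nat.prime_two).2 S.two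
  have : CharP E 2 := (CharP.charP_iff_prime_eq_zero Nat.prime_two).2 (Subtype.ext S.two)
  obtain ⟨s, hs⟩ := FiniteField.isSquare_of_char_two (ringChar.eq E 2) (⟨x * x, hx⟩ : E)
  have hs' : x * x = s * s := congrArg Subtype.val hs
  have : (x + s) * (x + s) = 0 := by linear_combination hs' + (x * s + s * s) * S.two
  rw [eq_of_add S.two (mul_self_eq_zero.1 this)]
  exact s.2

/-- The field of a centre with a second transvection, and of each centre not orthogonal to it. -/
theorem plane_step {u v : Vec} {a : F} (hu : Cen P u) (ha : sv u a ∈ P) (ha0 : a ≠ 0) (ha1 : a ≠ 1)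
    (hv : Cen P v) (huv : f₄ u v ≠ 0) :
    ∃ E : Subfield F, (∀ x, sv u x ∈ P ↔ x ∈ E) ∧ (∀ x, sv v x ∈ P ↔ x ∈ E) ∧ f₄ u v ∈ E := by
  set m := f₄ u v with hm
  have huw : f₄ u (m⁻¹ • v) = 1 := by rw [f_smulr, ← hm, inv_mul_cancel₀ huv]
  have hvw : ∀ x : F, sv v x = sv (m⁻¹ • v) (m * m * x) := fun x => by
    rw [sv_smul]; congr 1; field_simp
  set G := P.comap (planeRep S.two u (m⁻¹ • v) huw) with hG
  obtain ⟨E, hup, hlo⟩ := plane_field S.two G (a := a) (b := m * m)
    (by rw [hG, Subgroup.mem_comap, S.planeRep_up]; exact hu.2)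
    (by rw [hG, Subgroup.mem_comap, S.planeRep_up]; exact ha) ha0 ha1
    (by rw [hG, Subgroup.mem_comap, S.planeRep_lo, ← mul_one (m * m), ← hvw]; exact hv.2)
    (mul_ne_zero huv huv)
  have hmm : m * m ∈ E := (hlo _).1 (by
    rw [hG, Subgroup.mem_comap, S.planeRep_lo, ← mul_one (m * m), ← hvw]; exact hv.2)
  refine ⟨E, fun x => ?_, fun x => ?_, S.mem_of_sq_mem E hmm⟩
  · rw [← hup, hG, Subgroup.mem_comap, S.planeRep_up]
  · rw [hvw, ← S.planeRep_lo huw, ← Subgroup.mem_comap, ← hG, hlo]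
    constructor
    · intro h
      simpa [mul_div_cancel_left₀ _ (mul_ne_zero huv huv)] using div_mem h hmm
    · exact fun h => mul_mem hmm h

/-- With all fields full, every transvection lies in the group. -/
theorem eq_spGL_of_full (h4 : 4 ≤ Fintype.card F) {c₀ : Vec} (h₀ : Cen P c₀)
    (hfull : ∀ v, Cen P v → ∀ a, sv v a ∈ P) : P = Cfsg.spGL 2 F := by
  classical
  let C : Vec → Prop := fun x => x ≠ 0 ∧ ∀ a, sv x a ∈ P
  have hCcen : ∀ {x}, C x → Cen P x := fun h => ⟨h.1, h.2 1⟩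
  have hcenC : ∀ {x}, Cen P x → C x := fun h => ⟨h.1, hfull _ h⟩
  have hline : ∀ {x y : Vec}, C x → C y → f₄ x y ≠ 0 → ∀ α : F, C (x + α • y) := by
    intro x y hx hy hxy α
    have h := S.toCen (hCcen hx) (hy.2 (α * (f₄ x y)⁻¹))
    rw [sv_mulVec, mul_assoc, inv_mul_cancel₀ hxy, mul_one] at h
    exact hcenC h
  have hpivot : ∀ {x y : Vec}, C x → C y → ∃ z, C z ∧ f₄ z x ≠ 0 ∧ f₄ z y ≠ 0 := by
    intro x y hx hy
    obtain ⟨w, hw, hwx⟩ := S.exists_cen_nonorth h₀ hx.1
    refine S.cen_connected (hCcen hx) (Q := fun y => ∃ z, C z ∧ f₄ z x ≠ 0 ∧ f₄ z y ≠ 0)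
      ⟨w, hcenC hw, hwx, hwx⟩ (fun v u hv hQ hu hvu => ?_) y (hCcen hy)
    obtain ⟨z, hz, hzx, hzv⟩ := hQ
    by_cases hzu : f₄ z u = 0
    · by_cases hvx : f₄ v x = 0
      · refine ⟨z + (1 : F) • v, hline hz (hcenC hv) hzv 1, ?_, ?_⟩
        · rwa [f_addl, f_smull, hvx, mul_zero, add_zero]
        · rw [f_addl, f_smull, hzu, zero_add, one_mul]; exact hvu
      · exact ⟨v, hcenC hv, hvx, hvu⟩
    · exact ⟨z, hz, hzx, hzu⟩
  -- sums
  have hdiff : ∀ {u v z : Vec}, C u → C v → C z → f₄ u v = 0 → f₄ u z ≠ 0 → f₄ v z ≠ 0 →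
      f₄ u z ≠ f₄ v z → C (u + v) := by
    intro u v z hu hv hz huv huz hvz hne
    have h1 := hline hu hz huz 1
    have h2 := hline hv hz hvz 1
    rw [one_smul] at h1 h2
    have h12 : f₄ (u + z) (v + z) ≠ 0 := by
      rw [f_addl, f_addr, f_addr, huv, zero_add, f_self, add_zero, f_comm S.two z v]
      exact fun e => hne (eq_of_add S.two e)
    have h3 := hline h1 h2 h12 1
    rwa [one_smul, add_add_add_comm, vv S.two, add_zero] at h3
  have hsum : ∀ {u v : Vec}, C u → C v → u + v ≠ 0 → C (u + v) := by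
    intro u v hu hv hne
    by_cases huv : f₄ u v = 0
    · obtain ⟨z, hz, hzu, hzv⟩ := hpivot hu hv
      have huz : f₄ u z ≠ 0 := fun e => hzu (swap_eq_zero hf e)
      have hvz : f₄ v z ≠ 0 := fun e => hzv (swap_eq_zero hf e)
      by_cases he : f₄ u z = f₄ v z
      · obtain ⟨b, hb, hbuv⟩ := S.exists_cen_nonorth h₀ hne
        rw [f_addr] at hbuv
        have hCb := hcenC hb
        have main : ∀ {u v : Vec}, C u → C v → f₄ u v = 0 → f₄ u z ≠ 0 → f₄ v z ≠ 0 →
            f₄ u z = f₄ v z → f₄ b u = 0 → f₄ b v ≠ 0 → C (u + v) := by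
          intro u v hu hv huv huz hvz he hbu hbv
          have hub : f₄ u b = 0 := swap_eq_zero hf hbu
          have hvb : f₄ v b ≠ 0 := fun e => hbv (swap_eq_zero hf e)
          obtain ⟨z', hz', hzb, e1, e2⟩ : ∃ z', C z' ∧ f₄ z' b ≠ 0 ∧ f₄ u z' = f₄ u z ∧
              f₄ v z' = f₄ v z := by
            by_cases hzb : f₄ z b = 0
            · refine ⟨z + (1 : F) • v, hline hz hv (fun e => hvz (swap_eq_zero hf e)) 1, ?_, ?_, ?_⟩
              · rw [f_addl, f_smull, hzb, zero_add, one_mul]; exact hvb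
              · rw [f_addr, f_smulr, huv, mul_zero, add_zero]
              · rw [f_addr, f_smulr, f_self, mul_zero, add_zero]
            · exact ⟨z, hz, hzb, rfl, rfl⟩
          obtain ⟨α, hα0, hα1⟩ : ∃ α : F, α ≠ 0 ∧ α ≠ f₄ v z / f₄ v b := by
            obtain ⟨α, hα⟩ : ∃ α, α ∈ (Finset.univ \ {0, f₄ v z / f₄ v b} : Finset F) := by
              apply Finset.card_pos.1
              have h1 := Finset.le_card_sdiff ({0, f₄ v z / f₄ v b} : Finset F) Finset.univ
              have h2 : ({0, f₄ v z / f₄ v b} : Finset F).card ≤ 2 := Finset.card_le_two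
              rw [Finset.card_univ] at h1
              omega
            simp at hα
            exact ⟨α, hα.1, hα.2⟩
          have hz'' := hline hz' hCb hzb α
          refine hdiff hu hv hz'' huv ?_ ?_ ?_
          · rw [f_addr, f_smulr, hub, mul_zero, add_zero, e1]; exact huz
          · rw [f_addr, f_smulr, e2]
            intro e
            exact hα1 (by rw [eq_div_iff hvb]; exact (eq_of_add S.two e).symm)
          · rw [f_addr, f_smulr, hub, mul_zero, add_zero, f_addr, f_smulr, e1, e2, he]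
            intro e
            exact mul_ne_zero hα0 hvb (by linear_combination -e)
        by_cases hbu : f₄ b u = 0
        · exact main hu hv huv huz hvz he hbu (by rw [hbu, zero_add] at hbuv; exact hbuv)
        by_cases hbv : f₄ b v = 0
        · rw [add_comm]
          exact main hv hu (swap_eq_zero hf huv) hvz huz he.symm hbv hbu
        refine hdiff hu hv hCb huv (fun e => hbu (swap_eq_zero hf e))
          (fun e => hbv (swap_eq_zero hf e)) fun e => hbuv ?_
        rw [f_comm S.two b u, f_comm S.two b v, e, aa S.two]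
      · exact hdiff hu hv hz huv huz hvz he
    · simpa using hline hu hv huv 1
  have hall : ∀ x : Vec, x = 0 ∨ C x := by
    intro x
    have hx : x ∈ Submodule.span F {v | Cen P v} := S.span_cen h₀ ▸ Submodule.mem_top
    induction hx using Submodule.span_induction with
    | mem v hv => exact Or.inr (hcenC hv)
    | zero => exact Or.inl rfl
    | add a b _ _ ha hb =>
      rcases ha with rfl | ha
      · rwa [zero_add]
      rcases hb with rfl | hb
      · rw [add_zero]; exact Or.inr ha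
      exact (em (a + b = 0)).imp_right (hsum ha hb)
    | smul c a _ ha =>
      rcases ha with rfl | ha
      · exact Or.inl (smul_zero c)
      by_cases hc : c = 0
      · exact Or.inl (by rw [hc, zero_smul])
      · exact Or.inr ⟨smul_ne_zero hc ha.1, fun b => by rw [sv_smul]; exact ha.2 _⟩
  refine le_antisymm S.le (spGL_le fun v a => ?_)
  show sv v a ∈ P
  rcases hall v with rfl | h
  · rw [show sv (0 : Vec) a = 1 from gl_ext fun x => by
      rw [sv_mulVec, f_zeror, mul_zero, zero_smul, add_zero, Units.val_one, one_mulVec]]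
    exact P.one_mem
  · exact h.2 a

/-- The transvection theorem. -/
theorem transvection (h4 : 4 ≤ Fintype.card F) {v : Vec} {a : F} (hv : v ≠ 0) (ha : a ≠ 0)
    (h : sv v a ∈ P) :
    P = Cfsg.spGL 2 F ∨ ∃ E : Subfield F, E ≠ ⊤ ∧ Cfsg.Geo.RealisableOver E (Cfsg.Geo.matrixSet P) := by
  obtain ⟨s, -, h₀⟩ := S.cen_of_sv hv ha h
  by_cases h1 : One P
  · exact Or.inr ⟨_, twoField_ne_top S.two h4, S.realisable_of_one h1 h₀⟩
  simp only [One, not_forall] at h1
  obtain ⟨u, c, hu, hcu, hc1⟩ := h1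
  have hcc : sv u (c * c) ∈ P := by
    have := hcu.2
    rwa [sv_smul, mul_one] at this
  have hc0 : c * c ≠ 0 := fun e => hcu.1 (by rw [mul_self_eq_zero.1 e, zero_smul])
  have hc1' : c * c ≠ 1 := fun e => hc1 (S.eq_one_of_sq e)
  obtain ⟨w, hw, hwu⟩ := S.exists_cen_nonorth hu hu.1
  obtain ⟨E, hEu, -, -⟩ := S.plane_step hu hcc hc0 hc1' hw fun e => hwu (swap_eq_zero hf e)
  have hcE : c * c ∈ E := (hEu _).1 hcc
  have step : ∀ {v w : Vec}, Cen P v → (∀ x, sv v x ∈ P ↔ x ∈ E) → Cen P w → f₄ v w ≠ 0 →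
      (∀ x, sv w x ∈ P ↔ x ∈ E) ∧ f₄ v w ∈ E := by
    intro v w hv hE hw hvw
    obtain ⟨E', h1', h2', h3'⟩ := S.plane_step hv ((hE _).2 hcE) hc0 hc1' hw hvw
    have hEE : E' = E := SetLike.ext fun x => (h1' x).symm.trans (hE x)
    subst hEE
    exact ⟨h2', h3'⟩
  have hall := S.cen_connected hu (Q := fun v => ∀ x, sv v x ∈ P ↔ x ∈ E) hEu
    fun v w hv hE hw hvw => (step hv hE hw hvw).1
  by_cases hE : E = ⊤
  · left
    exact S.eq_spGL_of_full h4 hu fun v hv a => (hall v hv a).2 (hE ▸ Subfield.mem_top a)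
  · right
    refine ⟨E, hE, S.realisable_of_pairs hu E {v | Cen P v}
      (fun v hv => ⟨v, hv, 1, (one_smul F v).symm, by rw [one_mul]; exact one_mem _⟩)
      (S.span_cen hu) fun u₁ hu₁ u₂ hu₂ => ?_⟩
    by_cases h0 : f₄ u₁ u₂ = 0
    · rw [h0]; exact zero_mem _
    · exact (step hu₁ (hall u₁ hu₁) hu₂ h0).2

end Setting

end Cfsg.Agent.Lib.Sp4Res55
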