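import Cfsg.Agent.Lib.Sp4Res55.StarFour
import Cfsg.Agent.Lib.Sp4Res55.TransvMain
import Cfsg.Agent.Lib.Mitchell96.TraceForms

/-!
The endomorphism `g ↦ g*` of `Sp₄` in the coordinates of `Cfsg.sympForm`, and the consequence for
subgroups containing an involution whose associated form is alternating.
Owner: helper55.
-/
set_option autoImplicit false
set_option linter.unusedSectionVars false

namespace Cfsg.Agent.Lib.Sp4Res55

open Matrix Module Cfsg.Agent.Lib.Subspaces.Transvection Cfsg.Agent.Lib.Subspaces.SympGen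
  Cfsg.Agent.Lib.LieTwisted.Suzuki

variable {F : Type*} [Field F] [Fintype F]

local notation "Vec" => Fin 2 ⊕ Fin 2 → F
local notation "Mat" => Matrix (Fin 2 ⊕ Fin 2) (Fin 2 ⊕ Fin 2) F
local notation "M₄" => Matrix (Fin 4) (Fin 4) F
local notation "GL4" => Matrix.GeneralLinearGroup (Fin 2 ⊕ Fin 2) F
local notation "f₄" => Cfsg.sympForm 2 F

/-- The coordinates in which the form is anti-diagonal. -/
def idx4 : Fin 2 ⊕ Fin 2 ≃ Fin 4 where
  toFun := Sum.elim ![0, 1] ![3, 2]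
  invFun := ![Sum.inl 0, Sum.inl 1, Sum.inr 1, Sum.inr 0]
  left_inv := by rintro (i | i) <;> fin_cases i <;> rfl
  right_inv i := by fin_cases i <;> rfl

/-- Matrices in the anti-diagonal coordinates. -/
def toF4 (g : Matrix (Fin 2 ⊕ Fin 2) (Fin 2 ⊕ Fin 2) F) : Matrix (Fin 4) (Fin 4) F :=
  g.submatrix idx4.symm idx4.symm

/-- Matrices in the original coordinates. -/
def ofF4 (g : Matrix (Fin 4) (Fin 4) F) : Matrix (Fin 2 ⊕ Fin 2) (Fin 2 ⊕ Fin 2) F :=
  g.submatrix idx4 idx4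

theorem toF4_ofF4 (g : M₄) : toF4 (ofF4 g) = g := by
  ext i j; simp [toF4, ofF4]

theorem ofF4_toF4 (g : Mat) : ofF4 (toF4 g) = g := by
  ext i j; simp [toF4, ofF4]

theorem toF4_mul (g k : Mat) : toF4 (g * k) = toF4 g * toF4 k :=
  (Matrix.submatrix_mul_equiv g k idx4.symm idx4.symm idx4.symm).symm

theorem toF4_one : toF4 (1 : Mat) = 1 := Matrix.submatrix_one_equiv idx4.symm

theorem ofF4_mul (g k : M₄) : ofF4 (g * k) = ofF4 g * ofF4 k :=
  (Matrix.submatrix_mul_equiv g k idx4 idx4 idx4).symm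

theorem toF4_mulVec (g : Mat) (x : Vec) : toF4 g *ᵥ (x ∘ idx4.symm) = (g *ᵥ x) ∘ idx4.symm := by
  rw [toF4, Matrix.submatrix_mulVec_equiv]
  simp [Function.comp_assoc]

theorem f_alt (h2 : (2 : F) = 0) (x y : Vec) :
    f₄ x y = Cfsg.Lie.altForm4 (x ∘ idx4.symm) (y ∘ idx4.symm) := by
  simp [Cfsg.sympForm, Cfsg.Lie.altForm4, idx4, Matrix.J, Matrix.mulVec, dotProduct,
    Fintype.sum_sum_type, Fin.sum_univ_two, Matrix.one_apply]
  have : CharP F 2 := (CharP.charP_iff_prime_eq_zero Nat.prime_two).2 h2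
  grind

theorem iso4_of_mem (h2 : (2 : F) = 0) {g : GL4} (hg : g ∈ Cfsg.spGL 2 F) :
    Iso4 (toF4 (g : Mat)) := by
  have h : ∀ u v : Fin 4 → F,
      Cfsg.Lie.altForm4 (toF4 (g : Mat) *ᵥ u) (toF4 (g : Mat) *ᵥ v) = Cfsg.Lie.altForm4 u v := by
    intro u v
    have hu : u = (u ∘ idx4) ∘ idx4.symm := by simp [Function.comp_assoc]
    have hv : v = (v ∘ idx4) ∘ idx4.symm := by simp [Function.comp_assoc]
    rw [hu, hv, toF4_mulVec, toF4_mulVec, ← f_alt h2, ← f_alt h2, f_map hg]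
  ext i j
  have hij := h (Pi.single i 1) (Pi.single j 1)
  simp only [Cfsg.Lie.altForm4, Matrix.mulVec_single_one, Matrix.col_apply, Pi.single_apply] at hij
  simp only [Matrix.mul_apply, Fin.sum_univ_four, Matrix.transpose_apply]
  fin_cases i <;> fin_cases j <;> simp [wMat] at hij ⊢ <;> linear_combination hij

theorem mem_of_iso4 (h2 : (2 : F) = 0) {g : GL4} (hg : Iso4 (toF4 (g : Mat))) :
    g ∈ Cfsg.spGL 2 F := by
  refine mem_spGL_iff.mpr fun u v => ?_
  rw [f_alt h2, f_alt h2, ← toF4_mulVec, ← toF4_mulVec, altForm4_eq, altForm4_eq,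
    Matrix.mulVec_mulVec, Matrix.dotProduct_mulVec, Matrix.dotProduct_mulVec,
    ← Matrix.mulVec_transpose, ← Matrix.mulVec_transpose]
  rw [Matrix.mulVec_mulVec, Matrix.transpose_mul, mul_assoc]
  have h := congrArg Matrix.transpose hg
  simp only [Matrix.transpose_mul, Matrix.transpose_transpose] at h
  rw [h]

/-- The image `g*` in the original coordinates. -/
def starM (g : Matrix (Fin 2 ⊕ Fin 2) (Fin 2 ⊕ Fin 2) F) :
    Matrix (Fin 2 ⊕ Fin 2) (Fin 2 ⊕ Fin 2) F :=
  ofF4 (Cfsg.Lie.star4 (toF4 g))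

theorem starM_one : starM (1 : Mat) = 1 := by
  rw [starM, toF4_one, star4_one]
  exact Matrix.submatrix_one_equiv idx4

/-- `g ↦ g*` on the symplectic group, with values in the general linear group. -/
def starHom (h2 : (2 : F) = 0) :
    Cfsg.spGL 2 F →* Matrix.GeneralLinearGroup (Fin 2 ⊕ Fin 2) F :=
  MonoidHom.toHomUnits
    { toFun := fun g => starM ((g : Matrix.GeneralLinearGroup (Fin 2 ⊕ Fin 2) F) :
        Matrix (Fin 2 ⊕ Fin 2) (Fin 2 ⊕ Fin 2) F)
      map_one' := by simp [starM_one]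
      map_mul' := fun g k => by
        simp only [starM, Subgroup.coe_mul, Units.val_mul, toF4_mul]
        rw [star4_mul h2 (iso4_of_mem h2 g.2) (iso4_of_mem h2 k.2), ofF4_mul] }

theorem coe_starHom (h2 : (2 : F) = 0) (g : Cfsg.spGL 2 F) :
    (starHom h2 g : Mat) = starM ((g : GL4) : Mat) := rfl

theorem toF4_starHom (h2 : (2 : F) = 0) (g : Cfsg.spGL 2 F) :
    toF4 (starHom h2 g : Mat) = Cfsg.Lie.star4 (toF4 ((g : GL4) : Mat)) := by
  rw [coe_starHom, starM, toF4_ofF4]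

theorem toF4_sv (v : Vec) (a : F) : toF4 (sv v a : Mat) =
    tv4 (v (Sum.inl 0)) (v (Sum.inl 1)) (v (Sum.inr 1)) (v (Sum.inr 0)) a ∨ (2 : F) ≠ 0 := by
  by_cases h2 : (2 : F) = 0
  · refine Or.inl (Matrix.ext fun i j => ?_)
    have : CharP F 2 := (CharP.charP_iff_prime_eq_zero Nat.prime_two).2 h2
    have h := congrFun (sv_mulVec v a (Pi.single (idx4.symm j) 1)) (idx4.symm i)
    rw [Matrix.mulVec_single_one] at h
    simp only [toF4, Matrix.submatrix_apply]
    rw [show (sv v a : Mat) (idx4.symm i) (idx4.symm j) = _ from h]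
    fin_cases i <;> fin_cases j <;>
      simp [idx4, tv4, Cfsg.sympForm, Matrix.J, Matrix.mulVec, dotProduct, Fintype.sum_sum_type,
        Fin.sum_univ_two, Matrix.one_apply, Pi.single_apply] <;> grind
  · exact Or.inr h2

/-- The image is symplectic, and its image is the entrywise square. -/
theorem starHom_spec (h2 : (2 : F) = 0) (g : Cfsg.spGL 2 F) :
    Iso4 (Cfsg.Lie.star4 (toF4 ((g : GL4) : Mat))) ∧
      Cfsg.Lie.star4 (Cfsg.Lie.star4 (toF4 ((g : GL4) : Mat))) =
        (toF4 ((g : GL4) : Mat)).map (fun x => x * x) := by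
  have : CharP F 2 := (CharP.charP_iff_prime_eq_zero Nat.prime_two).2 h2
  have hfin : Finite GL4 := inferInstance
  let M : Submonoid GL4 :=
    { carrier := {g | Iso4 (toF4 (g : Mat)) ∧ Iso4 (Cfsg.Lie.star4 (toF4 (g : Mat))) ∧
        Cfsg.Lie.star4 (Cfsg.Lie.star4 (toF4 (g : Mat))) = (toF4 (g : Mat)).map (fun x => x * x)}
      one_mem' := by
        refine ⟨?_, ?_, ?_⟩ <;> simp [toF4_one, star4_one, Iso4, Matrix.map_one]
      mul_mem' := fun {a b} ha hb => by
        obtain ⟨a1, a2, a3⟩ := ha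
        obtain ⟨b1, b2, b3⟩ := hb
        simp only [Set.mem_setOf_eq, Units.val_mul, toF4_mul, star4_mul h2 a1 b1]
        refine ⟨a1.mul b1, a2.mul b2, ?_⟩
        rw [star4_mul h2 a2 b2, a3, b3]
        ext i j
        simp only [Matrix.mul_apply, Matrix.map_apply, Fin.sum_univ_four]
        grind }
  have hM : ∀ x ∈ M, x⁻¹ ∈ M := fun x hx => by
    have ho : x⁻¹ = x ^ (orderOf x - 1) := inv_eq_of_mul_eq_one_right <| by
      rw [← pow_succ', Nat.sub_add_cancel (orderOf_pos x), pow_orderOf_eq_one]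
    rw [ho]
    exact M.pow_mem hx _
  let K : Subgroup GL4 := { M with inv_mem' := fun {x} => hM x }
  have hle : Cfsg.spGL 2 F ≤ K := spGL_le fun v a => by
    have he := (toF4_sv v a).resolve_right (fun h => h h2)
    show sv v a ∈ M
    refine ⟨iso4_of_mem h2 (sv_mem v a), ?_, ?_⟩
    · rw [he]; exact iso4_star4_tv4 h2 _ _ _ _ _
    · rw [he]; exact star4_star4_tv4 h2 _ _ _ _ _
  exact ⟨(hle g.2).2.1, (hle g.2).2.2⟩

theorem starHom_mem (h2 : (2 : F) = 0) (g : Cfsg.spGL 2 F) : starHom h2 g ∈ Cfsg.spGL 2 F :=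
  mem_of_iso4 h2 (by rw [toF4_starHom]; exact (starHom_spec h2 g).1)

theorem starHom_injective (h2 : (2 : F) = 0) : Function.Injective (starHom (F := F) h2) := by
  have : CharP F 2 := (CharP.charP_iff_prime_eq_zero Nat.prime_two).2 h2
  intro a b hab
  have h := congrArg (fun g : GL4 => Cfsg.Lie.star4 (toF4 (g : Mat))) hab
  simp only [toF4_starHom, (starHom_spec h2 a).2, (starHom_spec h2 b).2] at h
  refine Subtype.ext (Units.ext ?_)
  rw [← ofF4_toF4 ((a : GL4) : Mat), ← ofF4_toF4 ((b : GL4) : Mat)]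
  refine congrArg ofF4 (Matrix.ext fun i j => ?_)
  have h' := congrFun (congrFun h i) j
  simp only [Matrix.map_apply] at h'
  exact CharTwo.sq_injective (show _ ^ 2 = _ ^ 2 by rw [pow_two, pow_two]; exact h')

theorem starHom_surj (h2 : (2 : F) = 0) {k : GL4} (hk : k ∈ Cfsg.spGL 2 F) :
    ∃ g : Cfsg.spGL 2 F, starHom h2 g = k := by
  have hb : Function.Bijective
      (fun g : Cfsg.spGL 2 F => (⟨starHom h2 g, starHom_mem h2 g⟩ : Cfsg.spGL 2 F)) :=
    Finite.injective_iff_bijective.1 fun a b h =>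
      starHom_injective h2 (congrArg (Subtype.val) h)
  obtain ⟨g, hg⟩ := hb.2 ⟨k, hk⟩
  exact ⟨g, congrArg Subtype.val hg⟩

/-- A sign-free frame gives an element of the symplectic group. -/
theorem exists_frame (h2 : (2 : F) = 0) (b : Fin 4 → Fin 2 ⊕ Fin 2 → F)
    (h03 : f₄ (b 0) (b 3) = 1) (h12 : f₄ (b 1) (b 2) = 1) (h01 : f₄ (b 0) (b 1) = 0)
    (h02 : f₄ (b 0) (b 2) = 0) (h13 : f₄ (b 1) (b 3) = 0) (h23 : f₄ (b 2) (b 3) = 0) :
    ∃ k : GL4, k ∈ Cfsg.spGL 2 F ∧ ∀ x : Vec, (k : Mat) *ᵥ x =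
      x (Sum.inl 0) • b 0 + x (Sum.inl 1) • b 1 + x (Sum.inr 1) • b 2 + x (Sum.inr 0) • b 3 := by
  have h30 := (f_comm h2 (b 3) (b 0)).trans h03
  have h21 := (f_comm h2 (b 2) (b 1)).trans h12
  have h10 := (f_comm h2 (b 1) (b 0)).trans h01
  have h20 := (f_comm h2 (b 2) (b 0)).trans h02
  have h31 := (f_comm h2 (b 3) (b 1)).trans h13
  have h32 := (f_comm h2 (b 3) (b 2)).trans h23
  let K : Mat := Matrix.of fun i j => b (idx4 j) i
  have hK : ∀ x : Vec, K *ᵥ x =
      x (Sum.inl 0) • b 0 + x (Sum.inl 1) • b 1 + x (Sum.inr 1) • b 2 + x (Sum.inr 0) • b 3 := by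
    intro x
    funext i
    simp [K, idx4, Matrix.mulVec, dotProduct, Fintype.sum_sum_type, Fin.sum_univ_two]
    ring
  have hiso : ∀ x y : Vec, f₄ (K *ᵥ x) (K *ᵥ y) = f₄ x y := by
    intro x y
    rw [f_alt h2 x y, hK, hK]
    simp only [f_addl, f_addr, f_smull, f_smulr, f_self, h03, h12, h01, h02, h13, h23, h30, h21,
      h10, h20, h31, h32, Cfsg.Lie.altForm4, Function.comp_apply]
    simp [idx4]
    ring
  have hu : IsUnit K := by
    rw [← Matrix.mulVec_injective_iff_isUnit]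
    intro x y hxy
    have h0 : ∀ z, f₄ (x - y) z = 0 := fun z => by
      rw [← hiso, mulVec_sub, show K *ᵥ x = K *ᵥ y from hxy, sub_self, f_zerol]
    exact sub_eq_zero.1 (eq_zero_of_orth h0)
  exact ⟨hu.unit, mem_spGL_iff.mpr hiso, hK⟩

/-- The symplectic group is transitive on non-zero vectors. -/
theorem exists_map_vec (h2 : (2 : F) = 0) {u z : Vec} (hu : u ≠ 0) (hz : z ≠ 0) :
    ∃ k ∈ Cfsg.spGL 2 F, (k : Mat) *ᵥ u = z := by
  have step : ∀ {u z : Vec}, f₄ u z ≠ 0 → ∃ k ∈ Cfsg.spGL 2 F, (k : Mat) *ᵥ u = z := by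
    intro u z h
    refine ⟨sv (u + z) (f₄ u z)⁻¹, sv_mem _ _, ?_⟩
    rw [sv_mulVec, f_addr, f_self, zero_add, inv_mul_cancel₀ h, one_smul, ← add_assoc, vv h2,
      zero_add]
  obtain ⟨y, h1, h3⟩ : ∃ y, f₄ u y ≠ 0 ∧ f₄ y z ≠ 0 := by
    obtain ⟨y₁, e₁⟩ := f_nd hu
    obtain ⟨y₂, e₂⟩ := f_nd hz
    by_cases c₁ : f₄ y₁ z = 0
    · by_cases c₂ : f₄ u y₂ = 0
      · refine ⟨y₁ + y₂, by rwa [f_addr, c₂, add_zero], ?_⟩
        rw [f_addl, c₁, zero_add, f_comm h2]; exact e₂
      · exact ⟨y₂, c₂, by rwa [f_comm h2]⟩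
    · exact ⟨y₁, e₁, c₁⟩
  obtain ⟨k₁, hk₁, e₁⟩ := step h1
  obtain ⟨k₂, hk₂, e₂⟩ := step h3
  exact ⟨k₂ * k₁, mul_mem hk₂ hk₁, by rw [gl_mul_mulVec, e₁, e₂]⟩

/-- An isometric involution with alternating associated form has a transvection as image. -/
theorem star_alt_sv (h2 : (2 : F) = 0) {g : GL4} (hg : g ∈ Cfsg.spGL 2 F) (hne : g ≠ 1)
    (hsq : g * g = 1) (halt : ∀ x : Vec, f₄ ((g : Mat) *ᵥ x) x = 0) :
    ∃ (v : Vec) (a : F), v ≠ 0 ∧ a ≠ 0 ∧ starHom h2 ⟨g, hg⟩ = sv v a := by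
  set N : Vec → Vec := fun x => (g : Mat) *ᵥ x + x with hN
  have hgg : ∀ x : Vec, (g : Mat) *ᵥ ((g : Mat) *ᵥ x) = x := fun x => by
    rw [← gl_mul_mulVec, hsq, Units.val_one, one_mulVec]
  have hgN : ∀ x : Vec, (g : Mat) *ᵥ N x = N x := fun x => by
    simp only [hN, mulVec_add, hgg, add_comm]
  have hNN : ∀ x y : Vec, f₄ (N x) (N y) = 0 := fun x y => by
    have e1 : f₄ ((g : Mat) *ᵥ x) y = f₄ x ((g : Mat) *ᵥ y) := by
      conv_lhs => rw [← f_map hg, hgg]
    simp only [hN, f_addl, f_addr, f_map hg, e1]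
    linear_combination (f₄ x y + f₄ x ((g : Mat) *ᵥ y)) * h2
  have hNx : ∀ x : Vec, f₄ (N x) x = 0 := fun x => by
    simp only [hN, f_addl, halt, f_self, add_zero]
  have hsym : ∀ x y : Vec, f₄ (N x) y = f₄ (N y) x := fun x y => by
    have e1 : f₄ ((g : Mat) *ᵥ x) y = f₄ x ((g : Mat) *ᵥ y) := by
      conv_lhs => rw [← f_map hg, hgg]
    simp only [hN, f_addl, e1]
    rw [f_comm h2 x ((g : Mat) *ᵥ y), f_comm h2 x y]
  obtain ⟨x, hx⟩ : ∃ x, N x ≠ 0 := by
    by_contra! h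
    refine hne (gl_ext fun x => ?_)
    rw [Units.val_one, one_mulVec]
    exact vec_eq_of_add h2 (h x)
  obtain ⟨y₀, hy₀⟩ := f_nd hx
  set y := (f₄ (N x) y₀)⁻¹ • y₀ with hy
  have hxy : f₄ (N x) y = 1 := by rw [hy, f_smulr, inv_mul_cancel₀ hy₀]
  have hNadd : ∀ a b : Vec, N (a + b) = N a + N b := fun a b => by
    simp only [hN, mulVec_add]; abel
  set x' := x + f₄ x y • N x with hx'
  have hNx' : N x' = N x := by
    have e : N (f₄ x y • N x) = 0 := by
      simp only [hN, mulVec_smul]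
      rw [show (g : Mat) *ᵥ ((g : Mat) *ᵥ x + x) = (g : Mat) *ᵥ x + x from hgN x, vv h2]
    rw [hx', hNadd, e, add_zero]
  obtain ⟨k, hk, hkx⟩ := exists_frame h2 ![N x, N y, x', y]
    (show f₄ (N x) y = 1 from hxy)
    (show f₄ (N y) x' = 1 by rw [hx', f_addr, f_smulr, hNN, mul_zero, add_zero, hsym, hxy])
    (hNN x y)
    (show f₄ (N x) x' = 0 by rw [hx', f_addr, f_smulr, hNx, hNN, mul_zero, add_zero])
    (hNx y)
    (show f₄ x' y = 0 by rw [hx', f_addl, f_smull, hxy, mul_one, aa h2])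
  -- the normal form
  obtain ⟨t, ht, htx⟩ := exists_frame h2
    ![Pi.single (Sum.inl 0) 1, Pi.single (Sum.inl 1) 1,
      Pi.single (Sum.inr 1) 1 + Pi.single (Sum.inl 0) 1,
      Pi.single (Sum.inr 0) 1 + Pi.single (Sum.inl 1) 1]
    (by simp [f_alt h2, Cfsg.Lie.altForm4, idx4]) (by simp [f_alt h2, Cfsg.Lie.altForm4, idx4])
    (by simp [f_alt h2, Cfsg.Lie.altForm4, idx4]) (by simp [f_alt h2, Cfsg.Lie.altForm4, idx4])
    (by simp [f_alt h2, Cfsg.Lie.altForm4, idx4])
    (by simp [f_alt h2, Cfsg.Lie.altForm4, idx4, aa h2])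
  have htM : toF4 (t : Mat) = aTwo F := by
    ext i j
    have h := congrFun (htx (Pi.single (idx4.symm j) 1)) (idx4.symm i)
    rw [Matrix.mulVec_single_one] at h
    simp only [toF4, Matrix.submatrix_apply]
    rw [show (t : Mat) (idx4.symm i) (idx4.symm j) = _ from h]
    fin_cases i <;> fin_cases j <;> simp [idx4, aTwo, Pi.single_apply]
  have hgk : g * k = k * t := by
    refine gl_ext fun z => ?_
    have hgN' : ∀ w : Vec, (g : Mat) *ᵥ w = w + N w := fun w => by
      simp only [hN]; rw [add_left_comm, vv h2, add_zero]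
    rw [gl_mul_mulVec, gl_mul_mulVec, hkx, hkx, htx]
    simp only [mulVec_add, mulVec_smul, Matrix.cons_val_zero, Matrix.cons_val_one, Matrix.cons_val,
      hgN x, hgN y, hgN' x', hgN' y, hNx']
    simp
    module
  have hst : starHom h2 (⟨t, ht⟩ : Cfsg.spGL 2 F) = sv (Pi.single (Sum.inl 0) 1) 1 := by
    refine Units.ext ?_
    rw [← ofF4_toF4 (starHom h2 (⟨t, ht⟩ : Cfsg.spGL 2 F) : Mat), toF4_starHom]
    rw [show Cfsg.Lie.star4 (toF4 (((⟨t, ht⟩ : Cfsg.spGL 2 F) : GL4) : Mat)) = tv4 1 0 0 0 1 by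
      rw [show (((⟨t, ht⟩ : Cfsg.spGL 2 F) : GL4)) = t from rfl, htM, star4_aTwo]]
    rw [← ofF4_toF4 (sv (Pi.single (Sum.inl (0 : Fin 2)) (1 : F)) (1 : F) : Mat),
      (toF4_sv _ _).resolve_right (fun h => h h2)]
    simp
  refine ⟨(starHom h2 ⟨k, hk⟩ : Mat) *ᵥ Pi.single (Sum.inl 0) 1, 1, ?_, one_ne_zero, ?_⟩
  · intro h
    have h' := congrArg (((starHom h2 (⟨k, hk⟩ : Cfsg.spGL 2 F))⁻¹ : GL4).val *ᵥ ·) h
    simp only [gl_inv_mulVec, mulVec_zero] at h'
    simpa using congrFun h' (Sum.inl 0)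
  · rw [← conj_sv (starHom_mem h2 ⟨k, hk⟩), ← hst,
      show (⟨g, hg⟩ : Cfsg.spGL 2 F) = ⟨k, hk⟩ * ⟨t, ht⟩ * (⟨k, hk⟩)⁻¹ from
        Subtype.ext (eq_mul_inv_of_mul_eq hgk), map_mul, map_mul, map_inv]

variable {P : Subgroup (Matrix.GeneralLinearGroup (Fin 2 ⊕ Fin 2) F)}

/-- The image of a subgroup of the symplectic group. -/
def starGroup (h2 : (2 : F) = 0) (P : Subgroup (Matrix.GeneralLinearGroup (Fin 2 ⊕ Fin 2) F)) :
    Subgroup (Matrix.GeneralLinearGroup (Fin 2 ⊕ Fin 2) F) :=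
  (P.subgroupOf (Cfsg.spGL 2 F)).map (starHom h2)

namespace Setting

variable (S : Setting P)
include S

theorem mem_starGroup {g : GL4} (hg : g ∈ P) : starHom S.two ⟨g, S.le hg⟩ ∈ starGroup S.two P :=
  Subgroup.mem_map_of_mem _ hg

theorem starGroup_iso : Nonempty (P ≃* starGroup S.two P) :=
  ⟨(Subgroup.subgroupOfEquivOfLe S.le).symm.trans
    (Subgroup.equivMapOfInjective _ _ (starHom_injective S.two))⟩

/-- A group containing a transvection whose image is irreducible unless it fixes a vector. -/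
theorem starGroup_irr {v : Vec} {a : F} (hv : v ≠ 0) (ha : a ≠ 0)
    (hvs : sv v a ∈ starGroup S.two P) :
    ∀ W : Submodule F (Fin 2 ⊕ Fin 2 → F),
      (∀ g ∈ starGroup S.two P, ∀ w ∈ W, (g : Mat) *ᵥ w ∈ W) → W = ⊥ ∨ W = ⊤ := by
  intro W hW
  by_contra! hcon
  obtain ⟨e⟩ := S.starGroup_iso
  have hsimple : IsSimpleGroup (starGroup S.two P) :=
    haveI := S.simple
    e.symm.isSimpleGroup
  -- a common fixed vector
  obtain ⟨z, hz0, hz⟩ : ∃ z : Vec, z ≠ 0 ∧ ∀ g ∈ starGroup S.two P, (g : Mat) *ᵥ z = z := by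
    have key : ∀ U : Submodule F Vec, U ≠ ⊥ → (∀ g ∈ starGroup S.two P, ∀ w ∈ U, (g : Mat) *ᵥ w ∈ U) →
        (∀ w ∈ U, f₄ w v = 0) → ∃ z : Vec, z ≠ 0 ∧ ∀ g ∈ starGroup S.two P, (g : Mat) *ᵥ z = z := by
      intro U hU hinv hv'
      obtain ⟨z, hzU, hz0⟩ := U.ne_bot_iff.1 hU
      let N : Subgroup (starGroup S.two P) :=
        { carrier := {g | ∀ w ∈ U, ((g : GL4) : Mat) *ᵥ w = w}
          mul_mem' := fun {a b} ha hb w hw => by
            rw [Subgroup.coe_mul, gl_mul_mulVec, hb w hw, ha w hw]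
          one_mem' := fun w _ => by simp
          inv_mem' := fun {a} ha w hw => by
            conv_lhs => rw [← ha w hw]
            rw [Subgroup.coe_inv, gl_inv_mulVec] }
      have hNn : N.Normal := ⟨fun n hn g w hw => by
        simp only [Subgroup.coe_mul, Subgroup.coe_inv, gl_mul_mulVec]
        rw [hn _ (hinv _ (inv_mem g.2) w hw), gl_mulVec_inv]⟩
      have hN : N = ⊤ := (hNn.eq_bot_or_eq_top).resolve_left fun hb => by
        have hm : (⟨sv v a, hvs⟩ : starGroup S.two P) ∈ N := fun w hw => by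
          rw [sv_mulVec, hv' w hw, mul_zero, zero_smul, add_zero]
        rw [hb, Subgroup.mem_bot] at hm
        exact sv_ne_one hv ha (congrArg Subtype.val hm)
      refine ⟨z, hz0, fun g hg => ?_⟩
      have hmem : (⟨g, hg⟩ : starGroup S.two P) ∈ N := hN ▸ Subgroup.mem_top _
      exact hmem z hzU
    by_cases hvW : v ∈ W
    · -- the perpendicular
      let L : Vec →ₗ[F] (Fin (finrank F W) → F) :=
        { toFun := fun x i => f₄ x (Module.finBasis F W i : Vec)
          map_add' := fun x y => by funext i; exact f_addl x y _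
          map_smul' := fun c x => by funext i; simp [f_smull] }
      have hlt : finrank F W < finrank F Vec :=
        Submodule.finrank_lt hcon.2
      have hker : LinearMap.ker L ≠ ⊥ := LinearMap.ker_ne_bot_of_finrank_lt (by
        rwa [Module.finrank_fin_fun])
      have hL : ∀ x : Vec, x ∈ LinearMap.ker L ↔ ∀ w ∈ W, f₄ x w = 0 := fun x => by
        refine ⟨fun hx w hw => ?_, fun hx => funext fun i => hx _ (Module.finBasis F W i).2⟩
        have hw' : (⟨w, hw⟩ : W) ∈ Submodule.span F (Set.range (Module.finBasis F W)) := by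
          rw [Basis.span_eq]; trivial
        suffices h : ∀ w' : W, w' ∈ Submodule.span F (Set.range (Module.finBasis F W)) →
          f₄ x (w' : Vec) = 0 from h _ hw'
        intro w' hmem
        induction hmem using Submodule.span_induction with
        | mem y hy => obtain ⟨i, rfl⟩ := hy; exact congrFun hx i
        | zero => exact f_zeror x
        | add y y' _ _ h1 h2 => rw [Submodule.coe_add, f_addr, h1, h2, add_zero]
        | smul c y _ h1 => rw [Submodule.coe_smul, f_smulr, h1, mul_zero]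
      refine key _ hker (fun g hg x hx => (hL _).2 fun w hw => ?_) fun x hx => (hL x).1 hx v hvW
      have hgm : g ∈ Cfsg.spGL 2 F := by
        obtain ⟨p, -, rfl⟩ := Subgroup.mem_map.1 hg
        exact starHom_mem S.two p
      have e1 := f_map_inv (inv_mem hgm) x w
      rw [inv_inv] at e1
      rw [e1]
      exact (hL x).1 hx _ (hW _ (inv_mem hg) w hw)
    · refine key W hcon.1 hW fun w hw => ?_
      by_contra hne
      apply hvW
      have h := W.sub_mem (hW _ hvs w hw) hw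
      rw [sv_mulVec, add_sub_cancel_left] at h
      have := W.smul_mem (a * f₄ w v)⁻¹ h
      rwa [inv_smul_smul₀ (mul_ne_zero ha hne)] at this
  -- transport to the first basis vector, whose fixers have images preserving a plane
  obtain ⟨k', hk', hk'z⟩ := exists_map_vec S.two
    (show (Pi.single (Sum.inl (0 : Fin 2)) (1 : F) : Vec) ≠ 0 by simp) hz0
  obtain ⟨k, rfl⟩ := starHom_surj S.two hk'
  let Wp : Submodule F Vec := Submodule.span F
    {((k : GL4) : Mat) *ᵥ Pi.single (Sum.inl 0) 1, ((k : GL4) : Mat) *ᵥ Pi.single (Sum.inl 1) 1}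
  have hmain : ∀ g ∈ P, ∀ i : Fin 2, (g : Mat) *ᵥ (((k : GL4) : Mat) *ᵥ Pi.single (Sum.inl i) 1) ∈ Wp := by
    intro g hg i
    set p : Cfsg.spGL 2 F := k⁻¹ * ⟨g, S.le hg⟩ * k with hp
    have hfix : (starHom S.two p : Mat) *ᵥ Pi.single (Sum.inl 0) 1 = Pi.single (Sum.inl 0) 1 := by
      rw [hp, map_mul, map_mul, map_inv, gl_mul_mulVec, gl_mul_mulVec, hk'z,
        hz _ (S.mem_starGroup hg), ← hk'z, gl_inv_mulVec]
    have hcol : ∀ j : Fin 4, j ≠ 0 → Cfsg.Lie.star4 (toF4 ((p : GL4) : Mat)) j 0 = 0 := by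
      intro j hj
      have h := congrFun hfix (idx4.symm j)
      rw [Matrix.mulVec_single_one] at h
      rw [← toF4_starHom S.two p]
      show (starHom S.two p : Mat) (idx4.symm j) (idx4.symm 0) = 0
      rw [show idx4.symm 0 = Sum.inl 0 from rfl]
      refine h.trans ?_
      fin_cases j <;> simp_all [idx4, Pi.single_apply]
    have hz4 : ∀ a b : Fin 4, (a = 2 ∨ a = 3) → (b = 0 ∨ b = 1) →
        toF4 ((p : GL4) : Mat) a b = 0 := fun a b ha hb => by
      have h := star4_low (hcol 1 (by decide)) (hcol 2 (by decide)) (hcol 3 (by decide)) a b ha hb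
      rw [(starHom_spec S.two p).2, Matrix.map_apply] at h
      exact mul_self_eq_zero.1 h
    have hdec : ((p : GL4) : Mat) *ᵥ Pi.single (Sum.inl i) 1 =
        ((p : GL4) : Mat) (Sum.inl 0) (Sum.inl i) • Pi.single (Sum.inl 0) 1 +
        ((p : GL4) : Mat) (Sum.inl 1) (Sum.inl i) • Pi.single (Sum.inl 1) 1 := by
      have c3 : ((p : GL4) : Mat) (Sum.inr 0) (Sum.inl i) = 0 := by
        fin_cases i
        · exact hz4 3 0 (Or.inr rfl) (Or.inl rfl)
        · exact hz4 3 1 (Or.inr rfl) (Or.inr rfl)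
      have c2 : ((p : GL4) : Mat) (Sum.inr 1) (Sum.inl i) = 0 := by
        fin_cases i
        · exact hz4 2 0 (Or.inl rfl) (Or.inl rfl)
        · exact hz4 2 1 (Or.inl rfl) (Or.inr rfl)
      rw [Matrix.mulVec_single_one]
      funext r
      rcases r with r | r <;> fin_cases r <;> simp [c2, c3, Pi.single_apply]
    have hgk : g * (k : GL4) = (k : GL4) * (p : GL4) := by
      rw [hp]; simp [mul_assoc]
    rw [← gl_mul_mulVec, hgk, gl_mul_mulVec, hdec, mulVec_add, mulVec_smul, mulVec_smul]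
    exact add_mem (Submodule.smul_mem _ _ (Submodule.subset_span (Or.inl rfl)))
      (Submodule.smul_mem _ _ (Submodule.subset_span (Or.inr rfl)))
  have hWp : ∀ g ∈ P, ∀ w ∈ Wp, (g : Mat) *ᵥ w ∈ Wp := fun g hg w hw => by
    induction hw using Submodule.span_induction with
    | mem x hx =>
      rcases hx with rfl | rfl
      · exact hmain g hg 0
      · exact hmain g hg 1
    | zero => rw [mulVec_zero]; exact zero_mem _
    | add x y _ _ hx hy => rw [mulVec_add]; exact add_mem hx hy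
    | smul c x _ hx => rw [mulVec_smul]; exact Submodule.smul_mem _ c hx
  rcases S.irr Wp hWp with h | h
  · have hm : ((k : GL4) : Mat) *ᵥ Pi.single (Sum.inl 0) 1 ∈ Wp := Submodule.subset_span (Or.inl rfl)
    rw [h, Submodule.mem_bot] at hm
    have := gl_mulVec_injective (k : GL4) (hm.trans (mulVec_zero _).symm)
    simp at this
  · have h4 : finrank F Wp = 4 := by rw [h, finrank_top]; simp
    have hle : finrank F Wp ≤ 2 := by
      classical
      refine (finrank_span_le_card _).trans ?_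
      simp only [Set.toFinset_insert, Set.toFinset_singleton]
      exact (Finset.card_insert_le _ _).trans (by simp)
    omega

/-- An involution with alternating associated form: the whole group, or a proper subfield. -/
theorem alternating (h4 : 4 ≤ Fintype.card F)
    (habs : Cfsg.Geo.ActsAbsolutelyIrreducibly (Cfsg.Geo.matrixSet P)) {g : GL4} (hg : g ∈ P)
    (hne : g ≠ 1) (hsq : g * g = 1) (halt : ∀ x : Vec, f₄ ((g : Mat) *ᵥ x) x = 0) :
    P = Cfsg.spGL 2 F ∨ ∃ E : Subfield F, E ≠ ⊤ ∧ Cfsg.Geo.RealisableOver E (Cfsg.Geo.matrixSet P) := by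
  have : CharP F 2 := (CharP.charP_iff_prime_eq_zero Nat.prime_two).2 S.two
  obtain ⟨v, a, hv, ha, he⟩ := star_alt_sv S.two (S.le hg) hne hsq halt
  have hvs : sv v a ∈ starGroup S.two P := he ▸ S.mem_starGroup hg
  obtain ⟨e⟩ := S.starGroup_iso
  have hle : starGroup S.two P ≤ Cfsg.spGL 2 F := by
    intro x hx
    obtain ⟨p, -, rfl⟩ := Subgroup.mem_map.1 hx
    exact starHom_mem S.two p
  have T : Setting (starGroup S.two P) :=
    { two := S.two
      le := hle
      irr := S.starGroup_irr hv ha hvs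
      simple := haveI := S.simple; e.symm.isSimpleGroup
      nonab := fun h => S.nonab ⟨⟨fun x y => e.injective (by
        rw [map_mul, map_mul]; exact h.is_comm.comm _ _)⟩⟩ }
  rcases T.transvection h4 hv ha hvs with htop | ⟨E, hE, B, hB⟩
  · refine Or.inl (le_antisymm S.le fun x hx => ?_)
    have hm : starHom S.two ⟨x, hx⟩ ∈ starGroup S.two P := by
      rw [htop]; exact starHom_mem S.two _
    obtain ⟨p, hp, hpx⟩ := Subgroup.mem_map.1 hm
    rw [← show ((p : GL4)) = x from congrArg Subtype.val (starHom_injective S.two hpx)]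
    exact hp
  · refine Or.inr ⟨E, hE, Cfsg.Agent.Lib.Mitchell96.realisable_of_trace habs E fun x hx => ?_⟩
    set p : Cfsg.spGL 2 F := ⟨x, S.le hx⟩ with hp
    have h1 : (x : Mat).trace * (x : Mat).trace =
        mtr2 (toF4 (starHom S.two p : Mat)) := by
      rw [toF4_starHom, ← trace_star4 S.two (starHom_spec S.two p).1, (starHom_spec S.two p).2]
      simp only [toF4, Matrix.trace, Matrix.diag, Matrix.map_apply, Matrix.submatrix_apply,
        Fin.sum_univ_four, Fintype.sum_sum_type, Fin.sum_univ_two]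
      simp [idx4, hp]
      grind
    have h2m : mtr2 (toF4 (starHom S.two p : Mat)) =
        mtr2 (toF4 ((B : Mat) * (starHom S.two p : Mat) * ((B⁻¹ : GL4) : Mat))) := by
      rw [toF4_mul _ ((B⁻¹ : GL4) : Mat), mtr2_comm, ← toF4_mul, ← mul_assoc, ← Units.val_mul,
        inv_mul_cancel, Units.val_one, one_mul]
    have hmem : (x : Mat).trace * (x : Mat).trace ∈ E := by
      rw [h1, h2m]
      exact mtr2_mem E fun i j => hB _ ⟨_, S.mem_starGroup hx, rfl⟩ _ _
    obtain ⟨n, hp2, hn⟩ := FiniteField.card F 2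
    have hpow : ((x : Mat).trace * (x : Mat).trace) ^ (2 ^ ((n : ℕ) - 1)) = (x : Mat).trace := by
      rw [← pow_two, ← pow_mul, ← pow_succ', Nat.sub_add_cancel (show 1 ≤ (n : ℕ) from n.pos), ← hn, FiniteField.pow_card]
    rw [← hpow]
    exact pow_mem hmem _

end Setting

end Cfsg.Agent.Lib.Sp4Res55
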