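import Cfsg.Agent.Lib.Sp4Res55.L2Wire
import Cfsg.Agent.Lib.Sp4Res55.Star

/-!
Eigenvalue orbits: an element of odd prime order cannot be conjugate, up to inversion, to five
different powers of itself in a four-dimensional symplectic group.
Owner: helper55.
-/
set_option autoImplicit false
set_option linter.unusedSectionVars false

namespace Cfsg.Agent.Lib.Sp4Res55

open Matrix Cfsg.Agent.Lib.Subspaces.Transvection Cfsg.Agent.Lib.LieTwisted.Suzuki

variable {F : Type*} [Field F] [Fintype F]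

local notation "Vec" => Fin 2 ⊕ Fin 2 → F
local notation "Mat" => Matrix (Fin 2 ⊕ Fin 2) (Fin 2 ⊕ Fin 2) F
local notation "GL4" => Matrix.GeneralLinearGroup (Fin 2 ⊕ Fin 2) F
local notation "f₄" => Cfsg.sympForm 2 F

theorem charpoly_conj (g x : GL4) :
    ((g * x * g⁻¹ : GL4) : Mat).charpoly = (x : Mat).charpoly := by
  rw [Units.val_mul, Units.val_mul, Matrix.charpoly_mul_comm, ← mul_assoc, ← Units.val_mul,
    inv_mul_cancel, Units.val_one, one_mul]

/-- A symplectic matrix and its inverse have the same characteristic polynomial. -/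
theorem charpoly_inv (h2 : (2 : F) = 0) {g : GL4} (hg : g ∈ Cfsg.spGL 2 F) :
    ((g⁻¹ : GL4) : Mat).charpoly = (g : Mat).charpoly := by
  set A := toF4 (g : Mat) with hA
  set A' := toF4 ((g⁻¹ : GL4) : Mat) with hA'
  have hAA : A * A' = 1 := by
    rw [hA, hA', ← toF4_mul, ← Units.val_mul, mul_inv_cancel, Units.val_one, toF4_one]
  have h1 : (wMat F * Aᵀ * wMat F) * A = 1 := by
    have h := iso4_of_mem h2 hg
    unfold Iso4 at h
    rw [← hA] at h
    rw [mul_assoc, mul_assoc, ← mul_assoc Aᵀ, h, wMat_mul_self]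
  have h3 : A' = wMat F * Aᵀ * wMat F := (left_inv_eq_right_inv h1 hAA).symm
  have h4 : A'.charpoly = A.charpoly := by
    rw [h3, Matrix.charpoly_mul_comm, ← mul_assoc, wMat_mul_self, one_mul,
      Matrix.charpoly_transpose]
  have e : ∀ M : Mat, (toF4 M).charpoly = M.charpoly := fun M => Matrix.charpoly_reindex idx4 M
  rw [← e ((g⁻¹ : GL4) : Mat), ← e (g : Mat)]
  exact h4

/-- Five different powers with one characteristic polynomial are too many. -/
theorem no_five (h2 : (2 : F) = 0) {x : GL4} {p : ℕ} (hp : p.Prime) (hp2 : p ≠ 2) (hx : x ^ p = 1)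
    (hne : x ≠ 1) (r : Fin 5 → ℕ) (hr : ∀ i j, r i % p = r j % p → i = j)
    (hch : ∀ i, ((x ^ r i : GL4) : Mat).charpoly = (x : Mat).charpoly) : False := by
  classical
  have : CharP F 2 := (CharP.charP_iff_prime_eq_zero Nat.prime_two).2 h2
  haveI : Fact (Nat.Prime p) := ⟨hp⟩
  let L := AlgebraicClosure F
  let φ : F →+* L := algebraMap F L
  have : CharP L 2 := charP_of_injective_ringHom φ.injective 2
  set A : Matrix (Fin 2 ⊕ Fin 2) (Fin 2 ⊕ Fin 2) L := (x : Mat).map φ with hA
  have hpow : ∀ n : ℕ, ((x ^ n : GL4) : Mat).map φ = A ^ n := fun n => by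
    rw [Units.val_pow_eq_pow_val, hA]
    exact map_pow φ.mapMatrix _ n
  set R := A.charpoly.roots with hR
  have hmem : ∀ μ, μ ∈ R ↔ μ ∈ spectrum L A := fun μ => by
    rw [hR, Polynomial.mem_roots A.charpoly_monic.ne_zero, Matrix.mem_spectrum_iff_isRoot_charpoly]
  obtain ⟨μ, hμ, hμ1⟩ : ∃ μ ∈ R, μ ≠ 1 := by
    by_contra! hall
    have hdeg : R.card = 4 := by
      rw [hR, IsAlgClosed.card_roots_eq_natDegree, Matrix.charpoly_natDegree_eq_dim]
      simp
    have hprod : A.charpoly = (Polynomial.X - Polynomial.C 1) ^ 4 := by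
      rw [(IsAlgClosed.splits A.charpoly).eq_prod_roots_of_monic A.charpoly_monic, ← hR,
        Multiset.eq_replicate.2 ⟨hdeg, hall⟩, Multiset.map_replicate, Multiset.prod_replicate]
    have h0 := Matrix.aeval_self_charpoly A
    rw [hprod, map_pow, map_sub, Polynomial.aeval_X, Polynomial.aeval_C, map_one] at h0
    have h4 : A ^ (2 ^ 2) = 1 := by
      have := sub_pow_char_pow_of_commute (p := 2) (n := 2) (Commute.one_right A)
      rw [show (2 : ℕ) ^ 2 = 4 by norm_num] at this ⊢
      rw [h0, one_pow] at this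
      exact sub_eq_zero.1 this.symm
    have hx4 : x ^ 4 = 1 := by
      refine Units.ext (Matrix.map_injective φ.injective ?_)
      show ((x ^ 4 : GL4) : Mat).map φ = ((1 : GL4) : Mat).map φ
      rw [hpow, Units.val_one, Matrix.map_one φ (map_zero φ) (map_one φ)]
      exact h4
    have hd := Nat.dvd_gcd (orderOf_dvd_of_pow_eq_one hx4) (orderOf_dvd_of_pow_eq_one hx)
    have hg : Nat.gcd 4 p = 1 := by
      have h1 : Nat.Coprime 2 p := (Nat.coprime_primes Nat.prime_two hp).2 (Ne.symm hp2)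
      exact Nat.Coprime.pow_left 2 h1
    rw [hg, Nat.dvd_one] at hd
    exact hne (orderOf_eq_one_iff.1 hd)
  have hsp := (hmem μ).1 hμ
  have hμp : μ ^ p = 1 := by
    have h := spectrum.pow_mem_pow A p hsp
    rw [← hpow p, hx, Units.val_one, Matrix.map_one φ (map_zero φ) (map_one φ), spectrum.one_eq] at h
    exact h
  have hord : orderOf μ = p := orderOf_eq_prime hμp hμ1
  have hin : ∀ i, μ ^ r i ∈ R.toFinset := fun i => by
    rw [Multiset.mem_toFinset, hR, Polynomial.mem_roots A.charpoly_monic.ne_zero]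
    have h := Matrix.mem_spectrum_iff_isRoot_charpoly.1 (spectrum.pow_mem_pow A (r i) hsp)
    rw [← hpow, Matrix.charpoly_map, hch i, ← Matrix.charpoly_map] at h
    exact h
  have hcard : (Finset.univ.image fun i => μ ^ r i).card = 5 := by
    rw [Finset.card_image_of_injective _ fun i j e => hr i j (by
      have := (isOfFinOrder_iff_pow_eq_one.2 ⟨p, hp.pos, hμp⟩).pow_inj_mod.1 e
      rwa [hord] at this), Finset.card_univ, Fintype.card_fin]
  have hle := (Finset.card_le_card (show (Finset.univ.image fun i => μ ^ r i) ⊆ R.toFinset from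
    fun z hz => by obtain ⟨i, -, rfl⟩ := Finset.mem_image.1 hz; exact hin i)).trans
      ((Multiset.toFinset_card_le R).trans (Polynomial.card_roots' _))
  rw [hcard, Matrix.charpoly_natDegree_eq_dim] at hle
  simp at hle

/-- Squares and inverses among the powers: impossible from seven on. -/
theorem no_squares (h2 : (2 : F) = 0) {x : GL4} (hxs : x ∈ Cfsg.spGL 2 F) {p : ℕ} (hp : p.Prime)
    (h7 : 7 ≤ p) (hx : x ^ p = 1) (hne : x ≠ 1)
    (hsq : ∀ d : ℕ, ¬ p ∣ d → ((x ^ (d * d) : GL4) : Mat).charpoly = (x : Mat).charpoly) : False := by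
  have hmod : ∀ n m : ℕ, n % p = m % p → x ^ n = x ^ m := fun n m h => by
    rw [pow_eq_pow_mod n hx, pow_eq_pow_mod m hx, h]
  by_cases h : p = 7
  · subst h
    have e1 := hsq 2 (by norm_num)
    have e2 := hsq 3 (by norm_num)
    rw [hmod (3 * 3) 2 rfl] at e2
    have hinv : ∀ n m : ℕ, (n + m) % 7 = 0 →
        ((x ^ n : GL4) : Mat).charpoly = (x : Mat).charpoly →
        ((x ^ m : GL4) : Mat).charpoly = (x : Mat).charpoly := fun n m hnm he => by
      have : x ^ m = (x ^ n)⁻¹ := (inv_eq_of_mul_eq_one_right (by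
        rw [← pow_add, hmod (n + m) 0 hnm, pow_zero])).symm
      rw [this, charpoly_inv h2 (pow_mem hxs n), he]
    refine no_five h2 hp (by norm_num) hx hne ![1, 2, 4, 3, 5] (by decide) ?_
    intro i
    fin_cases i
    · simp
    · exact e2
    · exact e1
    · exact hinv 4 3 rfl e1
    · exact hinv 2 5 rfl e2
  · have h11 : 11 ≤ p := by
      by_contra hlt
      interval_cases p <;> revert hp h <;> norm_num
    refine no_five h2 hp (by omega) hx hne (fun i => ((i : ℕ) + 1) * ((i : ℕ) + 1)) ?_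
      (fun i => hsq _ fun hd => absurd (Nat.le_of_dvd (Nat.succ_pos _) hd) (by have := i.isLt; omega))
    intro i j hij
    have hm : ((((i : ℕ) + 1 : ℕ) : ZMod p)) * (((i : ℕ) + 1 : ℕ) : ZMod p) =
        (((j : ℕ) + 1 : ℕ) : ZMod p) * (((j : ℕ) + 1 : ℕ) : ZMod p) := by
      rw [← Nat.cast_mul, ← Nat.cast_mul]
      exact (ZMod.natCast_eq_natCast_iff' _ _ _).2 hij
    haveI : Fact (Nat.Prime p) := ⟨hp⟩
    have hlt : ∀ n : ℕ, n < p → ∀ m : ℕ, m < p → ((n : ℕ) : ZMod p) = (m : ℕ) → n = m :=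
      fun n hn m hm e => by
        have := congrArg ZMod.val e
        rwa [ZMod.val_natCast, ZMod.val_natCast, Nat.mod_eq_of_lt hn, Nat.mod_eq_of_lt hm] at this
    have hi := i.isLt
    have hj := j.isLt
    rcases mul_self_eq_mul_self_iff.1 hm with e | e
    · have := hlt _ (by omega) _ (by omega) e
      exact Fin.ext (by omega)
    · exfalso
      have e' : (((i : ℕ) + 1 + ((j : ℕ) + 1) : ℕ) : ZMod p) = ((0 : ℕ) : ZMod p) := by
        rw [Nat.cast_add, e, neg_add_cancel, Nat.cast_zero]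
      have := hlt _ (by omega) _ (by omega) e'
      omega

variable {P : Subgroup (Matrix.GeneralLinearGroup (Fin 2 ⊕ Fin 2) F)}

/-- The case of `L₂(p)`. -/
theorem no_l2_prime (h2 : (2 : F) = 0) (hle : P ≤ Cfsg.spGL 2 F) {K : Type*} [Field K] [Fintype K]
    (hp : (Fintype.card K).Prime) (h7 : 7 ≤ Fintype.card K)
    (e : P ≃* Matrix.ProjectiveSpecialLinearGroup (Fin 2) K) : False := by
  classical
  set p := Fintype.card K with hpdef
  haveI : Fact (Nat.Prime p) := ⟨hp⟩
  have hchar : CharP K p := charP_of_card_eq_prime (by rw [hpdef])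
  let π : Matrix.SpecialLinearGroup (Fin 2) K →* Matrix.GeneralLinearGroup (Fin 2 ⊕ Fin 2) F :=
    P.subtype.comp (e.symm.toMonoidHom.comp (QuotientGroup.mk' _))
  have hupow : ∀ n : ℕ, (upM (1 : K)) ^ n = upM (n : K) := fun n => by
    induction n with
    | zero => rw [pow_zero, Nat.cast_zero, upM_zero]
    | succ n ih => rw [pow_succ, ih, upM_mul, Nat.cast_succ]
  refine no_squares h2 (x := π (upM 1)) (hle (SetLike.coe_mem _)) hp h7 ?_ ?_ fun d hd => ?_
  · rw [← map_pow, hupow, CharP.cast_eq_zero, upM_zero, map_one]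
  · intro h
    apply not_center (one_ne_zero (α := K))
    have h1 : e.symm (QuotientGroup.mk' _ (upM (1 : K))) = 1 := Subtype.ext h
    rw [MulEquiv.map_eq_one_iff, QuotientGroup.mk'_apply, QuotientGroup.eq_one_iff] at h1
    exact h1
  · have hd0 : (d : K) ≠ 0 := fun h0 => hd ((CharP.cast_eq_zero_iff K p d).1 h0)
    have hc : upM (1 : K) ^ (d * d) = diagM (d : K) hd0 * upM 1 * (diagM (d : K) hd0)⁻¹ := by
      rw [eq_mul_inv_iff_mul_eq, hupow]
      apply Subtype.ext
      simp only [Matrix.SpecialLinearGroup.coe_mul]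
      simp [upM, diagM]
    rw [← map_pow, hc, map_mul, map_mul, map_inv, charpoly_conj]

/-- The companion matrix of `X³ + X + 1`, and the matrix of squaring. -/
theorem l3_elements (K : Type*) [Field K] (h2 : (2 : K) = 0) :
    ∃ C y : Matrix.SpecialLinearGroup (Fin 3) K, C ^ 7 = 1 ∧
      C ∉ Subgroup.center (Matrix.SpecialLinearGroup (Fin 3) K) ∧ y * C * y⁻¹ = C * C := by
  have : CharP K 2 := (CharP.charP_iff_prime_eq_zero Nat.prime_two).2 h2
  let C : Matrix.SpecialLinearGroup (Fin 3) K :=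
    ⟨!![0, 0, 1; 1, 0, 1; 0, 1, 0], by simp [Matrix.det_fin_three]⟩
  let y : Matrix.SpecialLinearGroup (Fin 3) K :=
    ⟨!![1, 0, 0; 0, 0, 1; 0, 1, 1], by simp [Matrix.det_fin_three]; grind⟩
  refine ⟨C, y, ?_, ?_, ?_⟩
  · rw [show (7 : ℕ) = 2 + 2 + 2 + 1 from rfl, pow_add, pow_add, pow_add, pow_one, pow_two]
    apply Subtype.ext
    simp only [Matrix.SpecialLinearGroup.coe_mul, Matrix.SpecialLinearGroup.coe_one]
    ext i j
    fin_cases i <;> fin_cases j <;> simp [C, Matrix.mul_apply, Fin.sum_univ_three] <;> grind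
  · intro h
    have e := congrArg (fun g : Matrix.SpecialLinearGroup (Fin 3) K =>
      (g : Matrix (Fin 3) (Fin 3) K) 2 0) (Subgroup.mem_center_iff.1 h y)
    simp only [Matrix.SpecialLinearGroup.coe_mul] at e
    simp [C, y, Matrix.mul_apply, Fin.sum_univ_three] at e
  · rw [mul_inv_eq_iff_eq_mul]
    apply Subtype.ext
    simp only [Matrix.SpecialLinearGroup.coe_mul]
    ext i j
    fin_cases i <;> fin_cases j <;> simp [C, y, Matrix.mul_apply, Fin.sum_univ_three] <;> grind

/-- The case of `L₃(4)`. -/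
theorem no_l3 (h2 : (2 : F) = 0) (hle : P ≤ Cfsg.spGL 2 F) {K : Type*} [Field K] (hK : (2 : K) = 0)
    (e : P ≃* Matrix.ProjectiveSpecialLinearGroup (Fin 3) K) : False := by
  let π : Matrix.SpecialLinearGroup (Fin 3) K →* Matrix.GeneralLinearGroup (Fin 2 ⊕ Fin 2) F :=
    P.subtype.comp (e.symm.toMonoidHom.comp (QuotientGroup.mk' _))
  obtain ⟨C, y, h7, hc, hy⟩ := l3_elements K hK
  have hx7 : π C ^ 7 = 1 := by rw [← map_pow, h7, map_one]
  have hmod : ∀ n m : ℕ, n % 7 = m % 7 → π C ^ n = π C ^ m := fun n m h => by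
    rw [pow_eq_pow_mod n hx7, pow_eq_pow_mod m hx7, h]
  have hstep : ∀ n : ℕ, ((π C ^ (2 * n) : GL4) : Mat).charpoly = ((π C ^ n : GL4) : Mat).charpoly := by
    intro n
    rw [pow_mul, pow_two, ← map_mul, ← hy, map_mul, map_mul, map_inv, conj_pow, charpoly_conj]
  have p1 : ((π C ^ 2 : GL4) : Mat).charpoly = (π C : Mat).charpoly := by
    have := hstep 1; rwa [mul_one, pow_one] at this
  have p2 : ((π C ^ 4 : GL4) : Mat).charpoly = (π C : Mat).charpoly := (hstep 2).trans p1
  refine no_squares h2 (x := π C) (hle (SetLike.coe_mem _)) (by norm_num : Nat.Prime 7) le_rfl hx7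
    (fun h => hc ?_) fun d hd => ?_
  · have h1 : e.symm (QuotientGroup.mk' _ C) = 1 := Subtype.ext h
    rw [MulEquiv.map_eq_one_iff, QuotientGroup.mk'_apply, QuotientGroup.eq_one_iff] at h1
    exact h1
  · have hcases : (d * d) % 7 = 1 ∨ (d * d) % 7 = 4 ∨ (d * d) % 7 = 2 := by
      rw [Nat.mul_mod]
      have : d % 7 ≠ 0 := fun h0 => hd (Nat.dvd_of_mod_eq_zero h0)
      have := Nat.mod_lt d (show 7 > 0 by norm_num)
      interval_cases (d % 7) <;> simp_all
    rcases hcases with h | h | h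
    · rw [hmod (d * d) 1 h, pow_one]
    · rw [hmod (d * d) 4 h, p2]
    · rw [hmod (d * d) 2 h, p1]

end Cfsg.Agent.Lib.Sp4Res55
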