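import Cfsg.Agent.Lib.Sp4Res55.CTwoInv
import Cfsg.Agent.Lib.Sp4Res55.PlaneField

/-!
`L₂(2ⁿ)` with all involutions of the third class is no residual subgroup: either it has a
non-scalar commuting matrix or it fixes a quadratic form.
Owner: helper55.
-/
set_option autoImplicit false
set_option linter.unusedSectionVars false

namespace Cfsg.Agent.Lib.Sp4Res55

open Matrix Module Cfsg.Agent.Lib.Subspaces.Transvection Cfsg.Agent.Lib.Subspaces.SympGen

variable {F : Type*} [Field F] [Fintype F]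

local notation "Vec" => Fin 2 ⊕ Fin 2 → F
local notation "Mat" => Matrix (Fin 2 ⊕ Fin 2) (Fin 2 ⊕ Fin 2) F
local notation "GL4" => Matrix.GeneralLinearGroup (Fin 2 ⊕ Fin 2) F
local notation "f₄" => Cfsg.sympForm 2 F

/-- The relations of `SL₂(K)` in characteristic two that are used. -/
structure L2Rel (P : Subgroup (Matrix.GeneralLinearGroup (Fin 2 ⊕ Fin 2) F)) (K : Type*) [Field K]
    (u tau : K → Matrix.GeneralLinearGroup (Fin 2 ⊕ Fin 2) F)
    (w : Matrix.GeneralLinearGroup (Fin 2 ⊕ Fin 2) F) : Prop where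
  u_mem : ∀ c, u c ∈ P
  tau_mem : ∀ d, d ≠ 0 → tau d ∈ P
  w_mem : w ∈ P
  char : (2 : K) = 0
  u_add : ∀ c c', u c * u c' = u (c + c')
  u_ne : ∀ c, c ≠ 0 → u c ≠ 1
  conj : ∀ d c, d ≠ 0 → tau d * u c = u (d * d * c) * tau d
  tau_comm : ∀ d e, d ≠ 0 → e ≠ 0 → tau d * tau e = tau e * tau d
  w_sq : w * w = 1
  tau_w : ∀ d, d ≠ 0 → tau d * w * tau d = w
  braid : u 1 * w * u 1 = w * u 1 * w
  gen : ∀ M : Submonoid (Matrix.GeneralLinearGroup (Fin 2 ⊕ Fin 2) F),
    (∀ c, u c ∈ M) → w ∈ M → ∀ g ∈ P, g ∈ M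
  sqrt : ∀ c : K, c ≠ 0 → ∃ d, d ≠ 0 ∧ d * d = c

namespace L2Rel

variable {P : Subgroup (Matrix.GeneralLinearGroup (Fin 2 ⊕ Fin 2) F)} {K : Type*} [Field K]
  {u tau : K → Matrix.GeneralLinearGroup (Fin 2 ⊕ Fin 2) F}
  {w : Matrix.GeneralLinearGroup (Fin 2 ⊕ Fin 2) F}

variable (R : L2Rel P K u tau w) (S : Setting P)
include R S

theorem u_zero : u 0 = 1 := by
  have h := R.u_add 0 0
  rw [add_zero] at h
  exact mul_eq_left.1 h

theorem ww (x : Vec) : (w : Mat) *ᵥ ((w : Mat) *ᵥ x) = x := by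
  rw [← gl_mul_mulVec, R.w_sq, Units.val_one, one_mulVec]

theorem f_w (x y : Vec) : f₄ ((w : Mat) *ᵥ x) y = f₄ x ((w : Mat) *ᵥ y) := by
  conv_lhs => rw [← f_map (S.le R.w_mem), R.ww S]

/-- No plane is invariant under the generators. -/
theorem no_plane {x y : Vec} (hx : x ≠ 0)
    (hu : ∀ c, (u c : Mat) *ᵥ x ∈ Submodule.span F {x, y} ∧
      (u c : Mat) *ᵥ y ∈ Submodule.span F {x, y})
    (hwx : (w : Mat) *ᵥ x ∈ Submodule.span F {x, y})
    (hwy : (w : Mat) *ᵥ y ∈ Submodule.span F {x, y}) : False := by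
  let M : Submonoid GL4 :=
    { carrier := {g | ∀ v ∈ Submodule.span F ({x, y} : Set Vec),
        (g : Mat) *ᵥ v ∈ Submodule.span F ({x, y} : Set Vec)}
      one_mem' := fun v hv => by simpa using hv
      mul_mem' := fun {a b} ha hb v hv => by rw [gl_mul_mulVec]; exact ha _ (hb v hv) }
  have hgen : ∀ g : GL4, (g : Mat) *ᵥ x ∈ Submodule.span F ({x, y} : Set Vec) →
      (g : Mat) *ᵥ y ∈ Submodule.span F ({x, y} : Set Vec) → g ∈ M := by
    intro g h1 h2 v hv
    obtain ⟨r, s, rfl⟩ := Submodule.mem_span_pair.1 hv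
    rw [mulVec_add, mulVec_smul, mulVec_smul]
    exact add_mem (Submodule.smul_mem _ _ h1) (Submodule.smul_mem _ _ h2)
  rcases S.irr (Submodule.span F ({x, y} : Set Vec))
    (fun g hg => R.gen M (fun c => hgen _ (hu c).1 (hu c).2) (hgen _ hwx hwy) g hg) with h | h
  · exact hx ((Submodule.mem_bot F).1 (h ▸ Submodule.subset_span (Or.inl rfl)))
  · have h4 : finrank F (Submodule.span F ({x, y} : Set Vec)) = 4 := by rw [h, finrank_top]; simp
    have hle : finrank F (Submodule.span F ({x, y} : Set Vec)) ≤ 2 := by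
      classical
      refine (finrank_span_le_card _).trans ?_
      simp only [Set.toFinset_insert, Set.toFinset_singleton]
      exact (Finset.card_insert_le _ _).trans (by simp)
    omega

/-- No vector is fixed by the generators. -/
theorem no_fixed {x : Vec} (hu : ∀ c, (u c : Mat) *ᵥ x = x) (hw : (w : Mat) *ᵥ x = x) : x = 0 := by
  by_contra hx
  have hm : x ∈ Submodule.span F ({x, x} : Set Vec) := Submodule.subset_span (Or.inl rfl)
  exact R.no_plane S hx (fun c => by rw [hu c]; exact ⟨hm, hm⟩) (by rwa [hw]) (by rwa [hw])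

/-- All fixed planes equal: a matrix commuting with the group is not scalar, or a plane is invariant. -/
theorem same_plane (habs : Cfsg.Geo.ActsAbsolutelyIrreducibly (Cfsg.Geo.matrixSet P))
    (hc2 : ∀ c, c ≠ 0 → ∃ p q, C2 (u c) p q) {p q : Vec} (h1 : C2 (u 1) p q)
    (hfix : ∀ c, (u c : Mat) *ᵥ p = p ∧ (u c : Mat) *ᵥ q = q) : False := by
  classical
  have h2 := S.two
  set W : Submodule F Vec := Submodule.span F ({p, q} : Set Vec) with hWdef
  have memW : ∀ {x}, x ∈ W ↔ (u 1 : Mat) *ᵥ x = x := by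
    intro x
    rw [hWdef, Submodule.mem_span_pair]
    refine ⟨?_, fun hx => ?_⟩
    · rintro ⟨r, s, rfl⟩; exact h1.fix_of_mem h2 r s
    · obtain ⟨r, s, e⟩ := h1.mem_of_fix hx; exact ⟨r, s, e.symm⟩
  have ufix : ∀ c {x}, x ∈ W → (u c : Mat) *ᵥ x = x := by
    intro c x hx
    obtain ⟨r, s, rfl⟩ := Submodule.mem_span_pair.1 hx
    rw [mulVec_add, mulVec_smul, mulVec_smul, (hfix c).1, (hfix c).2]
  set N : K → Mat := fun c => (u c : Mat) + 1 with hN
  have hNv : ∀ c x, N c *ᵥ x = (u c : Mat) *ᵥ x + x := fun c x => by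
    simp only [hN, add_mulVec, one_mulVec]
  have hN0 : ∀ c {x}, x ∈ W → N c *ᵥ x = 0 := fun c {x} hx => by rw [hNv, ufix c hx, vv h2]
  have hNW : ∀ c x, N c *ᵥ x ∈ W := by
    intro c x
    by_cases hc : c = 0
    · subst hc
      rw [hNv, R.u_zero S, Units.val_one, one_mulVec, vv h2]
      exact zero_mem _
    obtain ⟨p', q', h'⟩ := hc2 c hc
    obtain ⟨r, s, hp⟩ := h'.mem_of_fix (hfix c).1
    obtain ⟨r', s', hq⟩ := h'.mem_of_fix (hfix c).2
    have hqp : f₄ q' p' = 0 := swap_eq_zero hf h'.orth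
    have o : ∀ {z}, f₄ z p' = 0 → f₄ z q' = 0 → z ∈ W := fun {z} hz1 hz2 => by
      obtain ⟨a, b, e⟩ := mem_of_orth_pair h1.indep h1.orth
        (show f₄ z p = 0 by rw [hp, f_addr, f_smulr, f_smulr, hz1, hz2]; ring)
        (show f₄ z q = 0 by rw [hq, f_addr, f_smulr, f_smulr, hz1, hz2]; ring)
      exact Submodule.mem_span_pair.2 ⟨a, b, e.symm⟩
    rw [hNv, h'.act]
    have : f₄ x p' • p' + f₄ x q' • q' ∈ W :=
      add_mem (Submodule.smul_mem _ _ (o (f_self _) h'.orth))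
        (Submodule.smul_mem _ _ (o hqp (f_self _)))
    convert this using 1
    calc x + f₄ x p' • p' + f₄ x q' • q' + x = f₄ x p' • p' + f₄ x q' • q' + (x + x) := by abel
      _ = _ := by rw [vv h2, add_zero]
  -- the group moves the plane off itself
  have hdisj : ∀ x ∈ W, (w : Mat) *ᵥ x ∈ W → x = 0 := by
    intro x hx hwx
    have hs : x + (w : Mat) *ᵥ x = 0 := R.no_fixed S (fun c => ufix c (add_mem hx hwx))
      (by rw [mulVec_add, R.ww S, add_comm])
    have e := vec_eq_of_add h2 hs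
    exact R.no_fixed S (fun c => ufix c hx) e.symm
  have hdec : ∀ v : Vec, ∃ a b, a ∈ W ∧ b ∈ W ∧ v = a + (w : Mat) *ᵥ b := by
    let L : Vec →ₗ[F] Vec :=
      { toFun := fun y => y (Sum.inl 0) • p + y (Sum.inl 1) • q +
          (w : Mat) *ᵥ (y (Sum.inr 0) • p + y (Sum.inr 1) • q)
        map_add' := fun y z => by simp only [Pi.add_apply, mulVec_add, mulVec_smul]; module
        map_smul' := fun c y => by
          simp only [Pi.smul_apply, smul_eq_mul, mulVec_add, mulVec_smul, RingHom.id_apply]; module }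
    have hp : p ∈ W := Submodule.subset_span (Or.inl rfl)
    have hq : q ∈ W := Submodule.subset_span (Or.inr rfl)
    have hin : Function.Injective L := by
      refine (injective_iff_map_eq_zero L).2 fun y hy => ?_
      change y (Sum.inl 0) • p + y (Sum.inl 1) • q +
          (w : Mat) *ᵥ (y (Sum.inr 0) • p + y (Sum.inr 1) • q) = 0 at hy
      have ha : y (Sum.inl 0) • p + y (Sum.inl 1) • q ∈ W :=
        add_mem (Submodule.smul_mem _ _ hp) (Submodule.smul_mem _ _ hq)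
      have hb : y (Sum.inr 0) • p + y (Sum.inr 1) • q ∈ W :=
        add_mem (Submodule.smul_mem _ _ hp) (Submodule.smul_mem _ _ hq)
      have e0 : y (Sum.inr 0) • p + y (Sum.inr 1) • q = 0 :=
        hdisj _ hb ((vec_eq_of_add h2 hy) ▸ ha)
      rw [e0, mulVec_zero, add_zero] at hy
      obtain ⟨e1, e2⟩ := h1.indep.eq_zero hy
      obtain ⟨e3, e4⟩ := h1.indep.eq_zero e0
      funext i
      rcases i with i | i <;> fin_cases i <;> assumption
    intro v
    obtain ⟨y, rfl⟩ := (LinearMap.injective_iff_surjective.1 hin) v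
    exact ⟨_, _, add_mem (Submodule.smul_mem _ _ hp) (Submodule.smul_mem _ _ hq),
      add_mem (Submodule.smul_mem _ _ hp) (Submodule.smul_mem _ _ hq), rfl⟩
  -- the first map is the identity
  have hS1 : ∀ x ∈ W, N 1 *ᵥ ((w : Mat) *ᵥ x) = x := by
    intro x hx
    have e := congrArg (fun g : GL4 => (g : Mat) *ᵥ x) R.braid
    simp only [gl_mul_mulVec, ufix 1 hx] at e
    set s := N 1 *ᵥ ((w : Mat) *ᵥ x) with hs
    have hsW : s ∈ W := hNW 1 _
    have e1 : (u 1 : Mat) *ᵥ ((w : Mat) *ᵥ x) = (w : Mat) *ᵥ x + s := by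
      rw [hs, hNv, add_left_comm, vv h2, add_zero]
    rw [e1, mulVec_add, R.ww S] at e
    have hsum : (s + x) + (w : Mat) *ᵥ (s + x) = 0 := by
      rw [mulVec_add, show s + x + ((w : Mat) *ᵥ s + (w : Mat) *ᵥ x) =
        (x + (w : Mat) *ᵥ s) + ((w : Mat) *ᵥ x + s) by abel, ← e, vv h2]
    have h0 := hdisj _ (add_mem hsW hx) ((vec_eq_of_add h2 hsum) ▸ add_mem hsW hx)
    exact vec_eq_of_add h2 h0
  have htauW : ∀ d, d ≠ 0 → ∀ x ∈ W, (tau d : Mat) *ᵥ x ∈ W := by
    intro d hd x hx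
    have e := congrArg (fun g : GL4 => (g : Mat) *ᵥ x) (R.conj d (d * d)⁻¹ hd)
    simp only [gl_mul_mulVec, ufix _ hx, mul_inv_cancel₀ (mul_ne_zero hd hd)] at e
    exact memW.2 e.symm
  have hSd : ∀ d, d ≠ 0 → ∀ x ∈ W,
      N (d * d) *ᵥ ((w : Mat) *ᵥ x) = (tau d : Mat) *ᵥ ((tau d : Mat) *ᵥ x) := by
    intro d hd x hx
    have e : (w : Mat) *ᵥ x = (tau d : Mat) *ᵥ ((w : Mat) *ᵥ ((tau d : Mat) *ᵥ x)) := by
      rw [← gl_mul_mulVec, ← gl_mul_mulVec, R.tau_w d hd]
    have e2 : ∀ y, N (d * d) *ᵥ ((tau d : Mat) *ᵥ y) = (tau d : Mat) *ᵥ (N 1 *ᵥ y) := fun y => by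
      have h := congrArg (fun g : GL4 => (g : Mat) *ᵥ y) (R.conj d 1 hd)
      simp only [gl_mul_mulVec, mul_one] at h
      rw [hNv, hNv, ← h, mulVec_add]
    rw [e, e2, hS1 _ (htauW d hd x hx)]
  have hcomm : ∀ c c' x, x ∈ W → N c' *ᵥ ((w : Mat) *ᵥ (N c *ᵥ ((w : Mat) *ᵥ x))) =
      N c *ᵥ ((w : Mat) *ᵥ (N c' *ᵥ ((w : Mat) *ᵥ x))) := by
    intro c c' x hx
    by_cases hc : c = 0
    · subst hc
      have h0 : ∀ y, N 0 *ᵥ y = 0 := fun y => by
        rw [hNv, R.u_zero S, Units.val_one, one_mulVec, vv h2]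
      rw [h0, h0, mulVec_zero, mulVec_zero]
    by_cases hc' : c' = 0
    · subst hc'
      have h0 : ∀ y, N 0 *ᵥ y = 0 := fun y => by
        rw [hNv, R.u_zero S, Units.val_one, one_mulVec, vv h2]
      rw [h0, h0, mulVec_zero, mulVec_zero]
    obtain ⟨d, hd, rfl⟩ := R.sqrt c hc
    obtain ⟨e, he, rfl⟩ := R.sqrt c' hc'
    rw [hSd d hd x hx, hSd e he x hx, hSd e he _ (htauW d hd _ (htauW d hd x hx)),
      hSd d hd _ (htauW e he _ (htauW e he x hx))]
    simp only [← gl_mul_mulVec, ← mul_assoc]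
    congr 2
    have hc := R.tau_comm d e hd he
    calc tau e * tau e * tau d * tau d = tau e * (tau e * tau d) * tau d := by simp only [mul_assoc]
      _ = tau e * (tau d * tau e) * tau d := by rw [hc]
      _ = tau e * tau d * (tau e * tau d) := by simp only [mul_assoc]
      _ = tau d * tau e * (tau d * tau e) := by rw [hc]
      _ = tau d * (tau e * tau d) * tau e := by simp only [mul_assoc]
      _ = tau d * (tau d * tau e) * tau e := by rw [hc]
      _ = tau d * tau d * tau e * tau e := by simp only [mul_assoc]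
  -- the commuting matrices are scalar
  have hscal : ∀ c, ∃ l : F, N c *ᵥ ((w : Mat) *ᵥ p) = l • p := by
    intro c
    set Φ : Mat := N c * (w : Mat) + (w : Mat) * N c with hΦ
    have hw2 : (w : Mat) * (w : Mat) = 1 := by rw [← Units.val_mul, R.w_sq, Units.val_one]
    have hΦa : ∀ a ∈ W, Φ *ᵥ a = N c *ᵥ ((w : Mat) *ᵥ a) := fun a ha => by
      rw [hΦ, add_mulVec, ← mulVec_mulVec, ← mulVec_mulVec, hN0 c ha, mulVec_zero, add_zero]
    have hΦb : ∀ b ∈ W, Φ *ᵥ ((w : Mat) *ᵥ b) =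
        (w : Mat) *ᵥ (N c *ᵥ ((w : Mat) *ᵥ b)) := fun b hb => by
      rw [hΦ, add_mulVec, ← mulVec_mulVec, ← mulVec_mulVec, R.ww S, hN0 c hb, zero_add]
    let M : Submonoid GL4 :=
      { carrier := {g | Φ * (g : Mat) = (g : Mat) * Φ}
        one_mem' := by simp
        mul_mem' := fun {a b} (ha : Φ * (a : Mat) = (a : Mat) * Φ)
            (hb : Φ * (b : Mat) = (b : Mat) * Φ) => by
          show Φ * ((a * b : GL4) : Mat) = ((a * b : GL4) : Mat) * Φ
          rw [Units.val_mul, ← mul_assoc, ha, mul_assoc, hb, mul_assoc] }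
    have hall := R.gen M (fun c' => by
        show Φ * (u c' : Mat) = (u c' : Mat) * Φ
        refine Matrix.mulVec_injective (funext fun v => ?_)
        obtain ⟨a, b, ha, hb, rfl⟩ := hdec v
        have hu : ∀ y, (u c' : Mat) *ᵥ y = y + N c' *ᵥ y := fun y => by
          rw [hNv, add_left_comm, vv h2, add_zero]
        rw [← mulVec_mulVec, ← mulVec_mulVec, hu, hu, mulVec_add Φ]
        congr 1
        simp only [mulVec_add, hN0 c' ha, mulVec_zero, zero_add, hΦa a ha, hΦb b hb,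
          hN0 c' (hNW c _), hΦa _ (hNW c' _)]
        exact (hcomm c c' b hb).symm)
      (by
        show Φ * (w : Mat) = (w : Mat) * Φ
        simp only [hΦ]
        generalize N c = A
        rw [add_mul, mul_add, mul_assoc, hw2, mul_one, ← mul_assoc, ← mul_assoc, hw2, one_mul,
          add_comm])
    obtain ⟨l, hl⟩ := habs.2 Φ (by rintro s ⟨g, hg, rfl⟩; exact hall g hg)
    refine ⟨l, ?_⟩
    rw [← hΦa p (Submodule.subset_span (Or.inl rfl)), hl, smul_mulVec, one_mulVec]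
  refine R.no_plane S (x := p) (y := (w : Mat) *ᵥ p) h1.indep.1 (fun c => ⟨?_, ?_⟩) ?_ ?_
  · rw [(hfix c).1]; exact Submodule.subset_span (Or.inl rfl)
  · obtain ⟨l, hl⟩ := hscal c
    rw [hNv] at hl
    rw [show (u c : Mat) *ᵥ ((w : Mat) *ᵥ p) = (w : Mat) *ᵥ p + l • p by
      rw [← hl, add_left_comm, vv h2, add_zero]]
    exact add_mem (Submodule.subset_span (Or.inr rfl))
      (Submodule.smul_mem _ _ (Submodule.subset_span (Or.inl rfl)))
  · exact Submodule.subset_span (Or.inr rfl)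
  · rw [R.ww S]; exact Submodule.subset_span (Or.inl rfl)

/-- All points equal: a quadratic form is fixed. -/
theorem same_point (hc2 : ∀ c, c ≠ 0 → ∃ p q, C2 (u c) p q) {p q : Vec} (h1 : C2 (u 1) p q)
    (hall : ∀ c p' q', C2 (u c) p' q' → ∃ l : F, p' + q' = l • (p + q))
    (hmove : ∃ c, ¬ ((u c : Mat) *ᵥ p = p ∧ (u c : Mat) *ᵥ q = q)) :
    ∃ Q : (Fin 2 ⊕ Fin 2 → F) → F, Cfsg.Geo.IsNondegenerateQuadraticForm Q ∧
      Cfsg.Geo.FixesQuadForm (Cfsg.Geo.matrixSet P) Q := by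
  have h2 := S.two
  have : CharP F 2 := (CharP.charP_iff_prime_eq_zero Nat.prime_two).2 h2
  set a := p + q with hadef
  set b := (w : Mat) *ᵥ a with hbdef
  have hwb : (w : Mat) *ᵥ b = a := R.ww S a
  have hua : ∀ c, (u c : Mat) *ᵥ a = a ∧ ∃ z β, f₄ z a = 0 ∧
      ∀ x, (u c : Mat) *ᵥ x = x + f₄ x a • z + f₄ x z • a + (β * f₄ x a) • a := by
    intro c
    by_cases hc : c = 0
    · subst hc
      refine ⟨by rw [R.u_zero S, Units.val_one, one_mulVec], 0, 0, f_zerol _, fun x => ?_⟩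
      rw [R.u_zero S, Units.val_one, one_mulVec, f_zeror]; simp
    obtain ⟨p', q', h'⟩ := hc2 c hc
    obtain ⟨l, hl⟩ := hall c p' q' h'
    have hl0 : l ≠ 0 := fun e => by
      rw [e, zero_smul] at hl
      exact h'.indep.2 1 (by rw [one_smul, ← vec_eq_of_add h2 hl])
    have hq : q' = p' + l • a := by rw [← hl, ← add_assoc, vv h2, zero_add]
    have hpa : f₄ p' a = 0 := by
      have e : f₄ p' (p' + q') = 0 := by rw [f_addr, f_self, h'.orth, add_zero]
      rw [hl, f_smulr] at e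
      exact (mul_eq_zero.1 e).resolve_left hl0
    refine ⟨?_, l • p', l * l, by rw [f_smull, hpa, mul_zero], fun x => ?_⟩
    · have e : (u c : Mat) *ᵥ (p' + q') = p' + q' := by
        rw [mulVec_add, h'.fix_left h2, h'.fix_right h2]
      rw [hl, mulVec_smul] at e
      have := congrArg (l⁻¹ • ·) e
      simpa [smul_smul, inv_mul_cancel₀ hl0] using this
    · rw [h'.act, hq, f_addr, f_smulr, f_smulr]
      calc x + f₄ x p' • p' + (f₄ x p' + l * f₄ x a) • (p' + l • a)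
          = x + f₄ x a • l • p' + (l * f₄ x p') • a + (l * l * f₄ x a) • a +
            (f₄ x p' • p' + f₄ x p' • p') := by module
        _ = _ := by rw [vv h2, add_zero]
  have ha0 : a ≠ 0 := fun e => h1.indep.2 1 (by rw [one_smul, ← vec_eq_of_add h2 e])
  have hγ : f₄ b a = 1 := by
    have hne : f₄ b a ≠ 0 := by
      intro h0
      refine R.no_plane S (x := a) (y := b) ha0 (fun c => ⟨?_, ?_⟩) ?_ ?_
      · rw [(hua c).1]; exact Submodule.subset_span (Or.inl rfl)
      · obtain ⟨z, β, -, hz⟩ := (hua c).2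
        rw [hz, h0, zero_smul, add_zero, mul_zero, zero_smul, add_zero]
        exact add_mem (Submodule.subset_span (Or.inr rfl))
          (Submodule.smul_mem _ _ (Submodule.subset_span (Or.inl rfl)))
      · exact Submodule.subset_span (Or.inr rfl)
      · rw [hwb]; exact Submodule.subset_span (Or.inl rfl)
    have e := congrArg (fun g : GL4 => f₄ ((g : Mat) *ᵥ a) a) R.braid
    simp only [gl_mul_mulVec, (hua 1).1, ← hbdef] at e
    rw [R.f_w S, ← hbdef, h1.act, f_addl, f_addl, f_smull, f_smull, f_addl, f_addl, f_smull,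
      f_smull, f_self, zero_add] at e
    have hpa : f₄ p a = 0 := by rw [hadef, f_addr, f_self, h1.orth, add_zero]
    have hqa : f₄ q a = 0 := by rw [hadef, f_addr, f_self, f_comm h2 q p, h1.orth, add_zero]
    rw [hpa, hqa, mul_zero, mul_zero, add_zero, add_zero] at e
    have hsum : f₄ b p + f₄ b q = f₄ b a := by rw [hadef, f_addr]
    rw [f_comm h2 p b, f_comm h2 q b] at e
    apply mul_left_cancel₀ hne
    linear_combination -e - (f₄ b p + f₄ b q + f₄ b a) * hsum + f₄ b p * f₄ b q * h2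
  have hab : f₄ a b = 1 := by rw [f_comm h2, hγ]
  -- normalised data
  have hdata : ∀ c, ∃ z β, f₄ z a = 0 ∧ f₄ z b = 0 ∧
      ∀ x, (u c : Mat) *ᵥ x = x + f₄ x a • z + f₄ x z • a + (β * f₄ x a) • a := by
    intro c
    obtain ⟨z, β, hza, hz⟩ := (hua c).2
    refine ⟨z + f₄ z b • a, β, by rw [f_addl, f_smull, f_self, hza]; ring, ?_, fun x => ?_⟩
    · rw [f_addl, f_smull, hab, mul_one, aa h2]
    · rw [hz, f_addr x z, f_smulr]
      calc x + f₄ x a • z + f₄ x z • a + (β * f₄ x a) • a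
          = x + f₄ x a • z + f₄ x z • a + (β * f₄ x a) • a +
            ((f₄ x a * f₄ z b) • a + (f₄ x a * f₄ z b) • a) := by rw [vv h2, add_zero]
        _ = _ := by module
  choose z β hza hzb hZ using hdata
  have hub : ∀ c, (u c : Mat) *ᵥ b = b + z c + β c • a := fun c => by
    rw [hZ, hγ, f_comm h2 b (z c), hzb]; simp
  have huniq : ∀ {c : K} {z' : Vec} {β' : F}, f₄ z' b = 0 → (u c : Mat) *ᵥ b = b + z' + β' • a →
      z c = z' ∧ β c = β' := by
    intro c z' β' hz' e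
    rw [hub, add_assoc, add_assoc, add_right_inj] at e
    have hβ : β c = β' := by
      have := congrArg (fun v => f₄ v b) e
      simpa [f_addl, f_smull, hzb, hz', hab] using this
    rw [hβ, add_left_inj] at e
    exact ⟨e, hβ⟩
  have hb1 : β 1 = 1 := by
    have e := h1.form h2 b
    rw [hub, f_addl, f_addl, f_smull, f_self, hzb, hab, ← hadef, hγ] at e
    simpa using e
  have hwz : (w : Mat) *ᵥ z 1 = z 1 := by
    have e := congrArg (fun g : GL4 => (g : Mat) *ᵥ a) R.braid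
    simp only [gl_mul_mulVec, (hua 1).1, ← hbdef, hub, hb1, one_smul] at e
    rw [mulVec_add, mulVec_add, hwb, ← hbdef] at e
    have : z 1 + (w : Mat) *ᵥ z 1 = 0 := by
      calc z 1 + (w : Mat) *ᵥ z 1
          = b + z 1 + a + (a + (w : Mat) *ᵥ z 1 + b) := by
            rw [show b + z 1 + a + (a + (w : Mat) *ᵥ z 1 + b) =
              z 1 + (w : Mat) *ᵥ z 1 + ((a + a) + (b + b)) by abel, vv h2, vv h2, add_zero, add_zero]
        _ = 0 := by rw [e, vv h2]
    exact (vec_eq_of_add h2 this).symm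
  have hz1 : z 1 ≠ 0 := by
    intro e
    refine h1.not_rank_one a fun x => ?_
    rw [hZ 1 x, e, hb1, f_zeror]; simp
  -- the torus
  have htor : ∀ d, d ≠ 0 → ∃ α : F, α ≠ 0 ∧ (tau d : Mat) *ᵥ a = α • a ∧
      β (d * d) = α * α ∧ z (d * d) = α • (tau d : Mat) *ᵥ z 1 ∧
      ∀ y, f₄ y a = 0 → f₄ y b = 0 →
        f₄ ((tau d : Mat) *ᵥ y) a = 0 ∧ f₄ ((tau d : Mat) *ᵥ y) b = 0 := by
    intro d hd
    have hτ := S.le (R.tau_mem d hd)
    obtain ⟨α, hα⟩ := FiniteField.isSquare_of_char_two (ringChar.eq F 2) (β (d * d))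
    have hform : ∀ c x, f₄ ((u c : Mat) *ᵥ x) x = β c * (f₄ x a * f₄ x a) := fun c x => by
      rw [hZ, f_addl, f_addl, f_addl, f_smull, f_smull, f_smull, f_self, f_comm h2 (z c) x,
        f_comm h2 a x]
      linear_combination (f₄ x a * f₄ x (z c)) * h2
    have hc := R.conj d 1 hd
    rw [mul_one] at hc
    have hta : (tau d : Mat) *ᵥ a = α • a := by
      refine (vec_eq_of_add h2 (eq_zero_of_orth fun x => ?_))
      set y := ((tau d)⁻¹ : GL4).val *ᵥ x with hy
      have hxy : (tau d : Mat) *ᵥ y = x := gl_mulVec_inv _ _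
      have e := congrArg (fun g : GL4 => f₄ ((g : Mat) *ᵥ y) x) hc
      simp only [gl_mul_mulVec, hxy] at e
      rw [hform, hα, ← hxy, f_map hτ, hform, hb1, one_mul, hxy] at e
      have e1 : f₄ y a = f₄ x ((tau d : Mat) *ᵥ a) := f_map_inv hτ x a
      rw [f_comm h2, f_addr, f_smulr, ← e1]
      refine mul_self_eq_zero.1 ?_
      linear_combination e + (α * α * (f₄ x a * f₄ x a) + f₄ y a * α * f₄ x a) * h2
    have hα0 : α ≠ 0 := fun e => by
      rw [e, zero_smul] at hta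
      exact ha0 (gl_mulVec_injective (tau d) (hta.trans (mulVec_zero _).symm))
    have htb : α • (tau d : Mat) *ᵥ b = b := by
      have e := congrArg (fun g : GL4 => (g : Mat) *ᵥ a) (R.tau_w d hd)
      simp only [gl_mul_mulVec, hta, mulVec_smul, ← hbdef] at e
      exact e
    have horth : ∀ y, f₄ y a = 0 → f₄ y b = 0 →
        f₄ ((tau d : Mat) *ᵥ y) a = 0 ∧ f₄ ((tau d : Mat) *ᵥ y) b = 0 := by
      intro y hya hyb
      constructor
      · refine (mul_eq_zero.1 (?_ : α * _ = 0)).resolve_left hα0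
        rw [← f_smulr, ← hta, f_map hτ, hya]
      · rw [← htb, f_smulr, f_map hτ, hyb, mul_zero]
    have e := congrArg (fun g : GL4 => α • (g : Mat) *ᵥ b) hc
    simp only [gl_mul_mulVec] at e
    rw [hub, hb1, one_smul, mulVec_add, mulVec_add, hta, smul_add, smul_add,
      smul_smul, ← mulVec_smul (u (d * d) : Mat), htb] at e
    obtain ⟨ez, eβ⟩ := huniq (by rw [f_smull, (horth _ (hza 1) (hzb 1)).2, mul_zero]) e.symm
    exact ⟨α, hα0, hta, eβ, ez, horth⟩
  -- a second direction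
  obtain ⟨c₀, hc₀⟩ : ∃ c, ∀ r : F, z c ≠ r • z 1 := by
    by_contra! hne
    obtain ⟨c, hc⟩ := hmove
    obtain ⟨r, hr⟩ := hne c
    refine hc ⟨?_, ?_⟩
    · have hpa : f₄ p a = 0 := by rw [hadef, f_addr, f_self, h1.orth, add_zero]
      have e := h1.fix_left h2
      rw [hZ, hpa, zero_smul, add_zero, mul_zero, zero_smul, add_zero, add_eq_left, smul_eq_zero] at e
      rw [hZ, hpa, hr, f_smulr, e.resolve_right ha0]; simp
    · have hqa : f₄ q a = 0 := by rw [hadef, f_addr, f_self, f_comm h2 q p, h1.orth, add_zero]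
      have e := h1.fix_right h2
      rw [hZ, hqa, zero_smul, add_zero, mul_zero, zero_smul, add_zero, add_eq_left, smul_eq_zero] at e
      rw [hZ, hqa, hr, f_smulr, e.resolve_right ha0]; simp
  have hc00 : c₀ ≠ 0 := fun e => by
    subst e
    obtain ⟨e1, -⟩ := huniq (c := 0) (z' := 0) (β' := 0) (f_zerol _)
      (by rw [R.u_zero S, Units.val_one, one_mulVec, zero_smul, add_zero, add_zero])
    exact hc₀ 0 (by rw [e1, zero_smul])
  set z₁ := z 1 with hz1def
  set z₀ := z c₀ with hz0def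
  set t := f₄ z₁ z₀ with htdef
  have hind : Indep a z₁ := ⟨ha0, fun r e => hz1 (by
    have h := hzb 1
    rw [← hz1def, e, f_smull, hab, mul_one] at h
    rw [e, h, zero_smul])⟩
  have ht : t ≠ 0 := by
    intro e
    obtain ⟨r, s, hrs⟩ := mem_of_orth_pair hind (by rw [f_comm h2]; exact hza 1) (hza c₀)
      (by rw [f_comm h2]; exact e)
    have h := hzb c₀
    rw [hrs, f_addl, f_smull, f_smull, hab, hzb, mul_one, mul_zero, add_zero] at h
    exact hc₀ s (hrs.trans (by rw [h, zero_smul, zero_add]))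
  have h01 : f₄ z₀ z₁ = t := f_comm h2 z₀ z₁
  have hcoord : ∀ x : Vec, x = f₄ x b • a + f₄ x a • b + (f₄ x z₀ / t) • z₁ + (f₄ x z₁ / t) • z₀ := by
    intro x
    refine vec_eq_of_add h2 ?_
    set y := x + (f₄ x b • a + f₄ x a • b + (f₄ x z₀ / t) • z₁ + (f₄ x z₁ / t) • z₀) with hy
    have haz : ∀ c, f₄ a (z c) = 0 := fun c => by rw [f_comm h2]; exact hza c
    have hbz : ∀ c, f₄ b (z c) = 0 := fun c => by rw [f_comm h2]; exact hzb c
    obtain ⟨r, s, hrs⟩ := mem_of_orth_pair hind (haz 1) (x := y)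
      (by simp only [hy, f_addl, f_smull, f_self, hγ, hz1def, hz0def, hza]; linear_combination f₄ x a * h2)
      (by simp only [hy, f_addl, f_smull, hz1def, hz0def, haz, hbz, f_self]
          rw [← hz1def, ← hz0def, h01, div_mul_cancel₀ _ ht]; linear_combination f₄ x z₁ * h2)
    have e1 : f₄ y b = 0 := by
      simp only [hy, f_addl, f_smull, f_self, hab, hz1def, hz0def, hzb]; linear_combination f₄ x b * h2
    have e2 : f₄ y z₀ = 0 := by
      simp only [hy, f_addl, f_smull, hz1def, hz0def, haz, hbz, f_self]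
      rw [← hz1def, ← hz0def, ← htdef, div_mul_cancel₀ _ ht]; linear_combination f₄ x z₀ * h2
    rw [hrs, f_addl, f_smull, f_smull, hab, hzb, mul_one, mul_zero, add_zero] at e1
    rw [hrs, f_addl, f_smull, f_smull, show f₄ a z₀ = 0 from haz c₀, ← htdef, mul_zero, zero_add]
      at e2
    rw [hrs, e1, (mul_eq_zero.1 e2).resolve_right ht, zero_smul, zero_smul, add_zero]
  -- the torus element of the second direction
  obtain ⟨d₀, hd₀, rfl⟩ := R.sqrt c₀ hc00
  obtain ⟨α₀, hα₀, hta₀, hβ₀, hz₀, horth₀⟩ := htor d₀ hd₀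
  have hM1 : α₀ • (tau d₀ : Mat) *ᵥ z₁ = z₀ := hz₀.symm
  set Δ := β (d₀ * d₀) with hΔ
  obtain ⟨s₀, hM0⟩ : ∃ s₀, α₀ • (tau d₀ : Mat) *ᵥ z₀ = Δ • z₁ + s₀ • z₀ := by
    set v := α₀ • (tau d₀ : Mat) *ᵥ z₀ with hv
    refine ⟨f₄ v z₁ / t, ?_⟩
    have e := hcoord v
    obtain ⟨o1, o2⟩ := horth₀ z₀ (hza _) (hzb _)
    have e3 : f₄ v z₀ = Δ * t := by
      conv_lhs => rw [← hM1, hv]
      rw [f_smull, f_smulr, f_map (S.le (R.tau_mem d₀ hd₀)), h01, hβ₀]; ring
    have e1 : f₄ v a = 0 := by rw [hv, f_smull, o1, mul_zero]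
    have e2 : f₄ v b = 0 := by rw [hv, f_smull, o2, mul_zero]
    rw [e1, e2, e3, mul_div_assoc, div_self ht, mul_one, zero_smul, zero_smul, add_zero, zero_add]
      at e
    exact e
  -- every element of the upper group follows one norm form
  have hcoef : ∀ c, ∃ r s : F, z c = r • z₁ + s • z₀ ∧ β c = r * r + r * s * s₀ + Δ * (s * s) := by
    intro c
    refine ⟨f₄ (z c) z₀ / t, f₄ (z c) z₁ / t, ?_, ?_⟩
    · have e := hcoord (z c)
      rwa [hza, hzb, zero_smul, zero_smul, add_zero, zero_add] at e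
    set r := f₄ (z c) z₀ / t
    set s := f₄ (z c) z₁ / t
    have hzc : z c = r • z₁ + s • z₀ := by
      have e := hcoord (z c)
      rwa [hza, hzb, zero_smul, zero_smul, add_zero, zero_add] at e
    by_cases hc : c = 0
    · subst hc
      obtain ⟨e1, e2⟩ := huniq (c := 0) (z' := 0) (β' := 0) (f_zerol _)
        (by rw [R.u_zero S, Units.val_one, one_mulVec, zero_smul, add_zero, add_zero])
      have hr : r = 0 := by simp only [r, e1, f_zerol, zero_div]
      have hs : s = 0 := by simp only [s, e1, f_zerol, zero_div]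
      rw [e2, hr, hs]; ring
    obtain ⟨d, hd, rfl⟩ := R.sqrt c hc
    obtain ⟨α, -, -, hβd, hzd, -⟩ := htor d hd
    have hMe : α • (tau d : Mat) *ᵥ z₀ = r • z₀ + s • (Δ • z₁ + s₀ • z₀) := by
      calc α • (tau d : Mat) *ᵥ z₀ = α₀ • (tau d₀ : Mat) *ᵥ z (d * d) := by
            rw [hzd, ← hM1]
            simp only [mulVec_smul, ← gl_mul_mulVec, R.tau_comm d d₀ hd hd₀]
            rw [smul_comm]
        _ = _ := by
            rw [hzc, mulVec_add, mulVec_smul, mulVec_smul, smul_add, smul_comm α₀ r, smul_comm α₀ s,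
              hM1, hM0]
    have e : f₄ (α • (tau d : Mat) *ᵥ z₁) (α • (tau d : Mat) *ᵥ z₀) = α * α * t := by
      rw [f_smull, f_smulr, f_map (S.le (R.tau_mem d hd))]; ring
    rw [← hzd, hzc, hMe] at e
    simp only [f_addl, f_addr, f_smull, f_smulr, f_self, h01, ← htdef] at e
    rw [hβd]
    apply mul_right_cancel₀ ht
    linear_combination -e
  have hs₀ : s₀ = t := by
    have hne : d₀ * d₀ + 1 ≠ 0 := fun e => by
      have e1 : d₀ * d₀ = 1 := by linear_combination e - R.char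
      exact hc₀ 1 (by rw [one_smul, hz0def, e1, hz1def])
    have e : (u (d₀ * d₀ + 1) : Mat) *ᵥ b = b + (z₀ + z₁) + (Δ + 1 + t) • a := by
      rw [← R.u_add, gl_mul_mulVec, hub, mulVec_add, mulVec_add, hub, hb1, one_smul, (hua _).1,
        hZ (d₀ * d₀) z₁, show f₄ z₁ a = 0 from hza 1, ← htdef]
      simp only [zero_smul, mul_zero, add_zero]
      rw [hz0def]
      module
    obtain ⟨ez, eβ⟩ := huniq (by rw [f_addl]; simp [hz0def, hz1def, hzb]) e
    obtain ⟨r, s, e1, e2⟩ := hcoef (d₀ * d₀ + 1)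
    rw [ez] at e1
    have er := congrArg (fun v => f₄ v z₀) e1
    have es := congrArg (fun v => f₄ v z₁) e1
    simp only [f_addl, f_smull, f_self, h01, ← htdef, mul_zero, add_zero, zero_add] at er es
    have r1 : r = 1 := mul_right_cancel₀ ht (by linear_combination -er)
    have s1 : s = 1 := mul_right_cancel₀ ht (by linear_combination -es)
    rw [eβ, r1, s1] at e2
    linear_combination -e2
  subst hs₀
  have hwz₀ : (w : Mat) *ᵥ z₀ = t • z₁ + z₀ := by
    apply gl_mulVec_injective (tau d₀)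
    apply smul_right_injective _ hα₀
    show α₀ • (tau d₀ : Mat) *ᵥ ((w : Mat) *ᵥ z₀) = α₀ • (tau d₀ : Mat) *ᵥ (t • z₁ + z₀)
    have e1 : (tau d₀ : Mat) *ᵥ ((w : Mat) *ᵥ z₀) = α₀ • z₁ := by
      conv_lhs => rw [← hM1]
      rw [mulVec_smul, mulVec_smul, ← gl_mul_mulVec, ← gl_mul_mulVec,
        R.tau_w d₀ hd₀, hwz]
    rw [e1, mulVec_add, mulVec_smul, smul_add, smul_comm α₀ t, hM1, hM0, smul_smul, ← hβ₀,
      add_left_comm, vv h2, add_zero]
  -- the form
  set Q : Vec → F := fun x => f₄ x a * f₄ x b + (f₄ x z₀ / t) * (f₄ x z₀ / t) +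
    t * (f₄ x z₀ / t) * (f₄ x z₁ / t) + Δ * ((f₄ x z₁ / t) * (f₄ x z₁ / t)) with hQdef
  have hpolar : QuadraticMap.polar Q = f₄ := by
    funext x y
    have e : f₄ x y = f₄ x b * f₄ y a + f₄ x a * f₄ y b + (f₄ x z₀ / t) * f₄ y z₁ +
        (f₄ x z₁ / t) * f₄ y z₀ := by
      conv_lhs => rw [hcoord x]
      simp only [f_addl, f_smull]
      rw [f_comm h2 a y, f_comm h2 b y, f_comm h2 z₁ y, f_comm h2 z₀ y]
    rw [e]
    simp only [QuadraticMap.polar, hQdef, f_addl]
    field_simp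
    grind
  refine ⟨Q, ⟨fun c v => ?_, ?_, ?_⟩, ?_⟩
  · simp only [hQdef, f_smull]; ring
  · rw [hpolar]; exact hf.bilinear
  · rw [hpolar]; exact hf.nondegenerate
  rintro _ ⟨g, hg, rfl⟩
  let M : Submonoid GL4 :=
    { carrier := {g | ∀ x, Q ((g : Mat) *ᵥ x) = Q x}
      one_mem' := fun x => by simp
      mul_mem' := fun {a b} ha hb x => by rw [gl_mul_mulVec, ha, hb] }
  refine R.gen M (fun c => ?_) ?_ g hg
  · intro x
    obtain ⟨r, s, hrs, hβc⟩ := hcoef c
    have haz : ∀ c, f₄ a (z c) = 0 := fun c => by rw [f_comm h2]; exact hza c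
    have ha' : f₄ ((u c : Mat) *ᵥ x) a = f₄ x a := by
      rw [hZ]; simp [f_addl, f_smull, hza, f_self]
    have hb' : f₄ ((u c : Mat) *ᵥ x) b = f₄ x b + f₄ x (z c) + β c * f₄ x a := by
      rw [hZ]; simp [f_addl, f_smull, hzb, hab]
    have h0' : f₄ ((u c : Mat) *ᵥ x) z₀ = f₄ x z₀ + f₄ x a * (r * t) := by
      rw [hZ, hrs]
      simp [f_addl, f_smull, f_self, show f₄ a z₀ = 0 from haz _, ← htdef]
    have h1' : f₄ ((u c : Mat) *ᵥ x) z₁ = f₄ x z₁ + f₄ x a * (s * t) := by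
      rw [hZ, hrs]
      simp [f_addl, f_smull, f_self, show f₄ a z₁ = 0 from haz _, h01]
    simp only [hQdef, ha', hb', h0', h1', hrs, f_addr, f_smulr, hβc]
    field_simp
    grind
  · intro x
    have ha' : f₄ ((w : Mat) *ᵥ x) a = f₄ x b := R.f_w S x a
    have hb' : f₄ ((w : Mat) *ᵥ x) b = f₄ x a := by rw [R.f_w S, hwb]
    have h1' : f₄ ((w : Mat) *ᵥ x) z₁ = f₄ x z₁ := by rw [R.f_w S, hwz]
    have h0' : f₄ ((w : Mat) *ᵥ x) z₀ = t * f₄ x z₁ + f₄ x z₀ := by
      rw [R.f_w S, hwz₀, f_addr, f_smulr]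
    simp only [hQdef, ha', hb', h1', h0']
    field_simp
    grind

/-- The contradiction. -/
theorem absurd_rel (habs : Cfsg.Geo.ActsAbsolutelyIrreducibly (Cfsg.Geo.matrixSet P))
    (hc2 : ∀ c, c ≠ 0 → ∃ p q, C2 (u c) p q) :
    ∃ Q : (Fin 2 ⊕ Fin 2 → F) → F, Cfsg.Geo.IsNondegenerateQuadraticForm Q ∧
      Cfsg.Geo.FixesQuadForm (Cfsg.Geo.matrixSet P) Q := by
  have h2 := S.two
  obtain ⟨p, q, h1⟩ := hc2 1 one_ne_zero
  by_cases hfix : ∀ c, (u c : Mat) *ᵥ p = p ∧ (u c : Mat) *ᵥ q = q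
  · exact (R.same_plane S habs hc2 h1 hfix).elim
  refine R.same_point S hc2 h1 ?_ (not_forall.1 hfix)
  have hcomm : ∀ c c', Commute (u c) (u c') := fun c c' => by
    show u c * u c' = u c' * u c
    rw [R.u_add, R.u_add, add_comm]
  obtain ⟨c₀, hc₀⟩ := not_forall.1 hfix
  have hc₀0 : c₀ ≠ 0 := fun e => hc₀ (by subst e; simp [R.u_zero S])
  obtain ⟨p₀, q₀, h₀⟩ := hc2 c₀ hc₀0
  obtain ⟨l₀, hl₀⟩ := (h1.share h2 (S.le (R.u_mem c₀)) h₀ (hcomm _ _)).resolve_left hc₀
  intro c p' q' h'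
  rcases h1.share h2 (S.le (R.u_mem c)) h' (hcomm _ _) with hf1 | h
  · rcases h₀.share h2 (S.le (R.u_mem c)) h' (hcomm _ _) with hf0 | ⟨m, hm⟩
    · exfalso
      apply hc₀
      -- both planes lie in the fixed plane of `u c`, hence coincide
      obtain ⟨r₁, s₁, e₁⟩ := h'.mem_of_fix hf1.1
      obtain ⟨r₂, s₂, e₂⟩ := h'.mem_of_fix hf1.2
      obtain ⟨r₃, s₃, e₃⟩ := h'.mem_of_fix hf0.1
      obtain ⟨r₄, s₄, e₄⟩ := h'.mem_of_fix hf0.2
      have horth : ∀ r s r' s' : F, f₄ (r • p' + s • q') (r' • p' + s' • q') = 0 := by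
        intros
        simp [f_addl, f_addr, f_smull, f_smulr, f_self, h'.orth, f_comm h2 q' p']
      obtain ⟨a₁, b₁, g₁⟩ := mem_of_orth_pair h₀.indep h₀.orth
        (show f₄ p p₀ = 0 by rw [e₁, e₃, horth]) (show f₄ p q₀ = 0 by rw [e₁, e₄, horth])
      obtain ⟨a₂, b₂, g₂⟩ := mem_of_orth_pair h₀.indep h₀.orth
        (show f₄ q p₀ = 0 by rw [e₂, e₃, horth]) (show f₄ q q₀ = 0 by rw [e₂, e₄, horth])
      exact ⟨by rw [g₁, h₀.fix_of_mem h2], by rw [g₂, h₀.fix_of_mem h2]⟩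
    · exact ⟨m * l₀, by rw [hm, hl₀, smul_smul]⟩
  · exact h

end L2Rel

end Cfsg.Agent.Lib.Sp4Res55
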