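import Cfsg.Agent.Lib.Sp4Res55.L2Even

/-!
The relations of `L₂(K)`, `K` of characteristic two, transported into a subgroup.
Owner: helper55.
-/
set_option autoImplicit false
set_option linter.unusedSectionVars false

namespace Cfsg.Agent.Lib.Sp4Res55

open Matrix Cfsg.Agent.Lib.Subspaces.Transvection

variable {F : Type*} [Field F] [Fintype F]

section Wire

variable {K : Type*} [Field K]

/-- The swap matrix. -/
def swapM (h2 : (2 : K) = 0) : Matrix.SpecialLinearGroup (Fin 2) K :=
  ⟨!![0, 1; 1, 0], by rw [Matrix.det_fin_two_of]; linear_combination (-1 : K) * h2⟩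

/-- A diagonal matrix. -/
def diagM (d : K) (hd : d ≠ 0) : Matrix.SpecialLinearGroup (Fin 2) K :=
  ⟨!![d, 0; 0, d⁻¹], by rw [Matrix.det_fin_two_of]; simp [hd]⟩

theorem sl_gen (h2 : (2 : K) = 0) (M : Submonoid (Matrix.SpecialLinearGroup (Fin 2) K))
    (hu : ∀ c, upM c ∈ M) (hw : swapM h2 ∈ M) (g : Matrix.SpecialLinearGroup (Fin 2) K) : g ∈ M := by
  have hlo : ∀ c, loM c ∈ M := fun c => by
    have e : loM c = swapM h2 * upM c * swapM h2 := by
      apply Subtype.ext
      simp only [Matrix.SpecialLinearGroup.coe_mul, Matrix.SpecialLinearGroup.coe_one]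
      simp [loM, upM, swapM]
    rw [e]
    exact mul_mem (mul_mem hw (hu c)) hw
  have key : ∀ g : Matrix.SpecialLinearGroup (Fin 2) K,
      (g : Matrix (Fin 2) (Fin 2) K) 1 0 ≠ 0 → g ∈ M := fun g hg => by
    set A := (g : Matrix (Fin 2) (Fin 2) K) with hA
    have hdet : A 0 0 * A 1 1 - A 0 1 * A 1 0 = 1 := by rw [← Matrix.det_fin_two]; exact g.2
    have e : g = upM ((A 0 0 + 1) / A 1 0) * loM (A 1 0) * upM ((A 1 1 + 1) / A 1 0) := by
      apply Subtype.ext
      simp only [Matrix.SpecialLinearGroup.coe_mul, Matrix.SpecialLinearGroup.coe_one]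
      simp only [upM, loM]
      ext i j
      fin_cases i <;> fin_cases j <;>
        simp [Matrix.mul_apply, Fin.sum_univ_two, ← hA] <;> field_simp <;> grind
    rw [e]
    exact mul_mem (mul_mem (hu _) (hlo _)) (hu _)
  by_cases hg : (g : Matrix (Fin 2) (Fin 2) K) 1 0 = 0
  · have hdet : (g : Matrix (Fin 2) (Fin 2) K) 0 0 * (g : Matrix (Fin 2) (Fin 2) K) 1 1 -
        (g : Matrix (Fin 2) (Fin 2) K) 0 1 * (g : Matrix (Fin 2) (Fin 2) K) 1 0 = 1 := by
      rw [← Matrix.det_fin_two]; exact g.2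
    have h00 : (g : Matrix (Fin 2) (Fin 2) K) 0 0 ≠ 0 := fun e => by simp [e, hg] at hdet
    have e : g = swapM h2 * (swapM h2 * g) := by
      rw [← mul_assoc, show swapM h2 * swapM h2 = 1 from Subtype.ext (by
        rw [Matrix.SpecialLinearGroup.coe_mul]
        simp [swapM, Matrix.one_fin_two]), one_mul]
    rw [e]
    refine mul_mem hw (key _ ?_)
    rw [Matrix.SpecialLinearGroup.coe_mul]
    simpa [swapM, Matrix.mul_apply, Fin.sum_univ_two] using h00
  · exact key g hg

theorem not_center {K : Type*} [Field K] {c : K} (hc : c ≠ 0) :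
    upM c ∉ Subgroup.center (Matrix.SpecialLinearGroup (Fin 2) K) := by
  intro h
  have e := congrArg (fun g : Matrix.SpecialLinearGroup (Fin 2) K =>
    (g : Matrix (Fin 2) (Fin 2) K) 0 0) (Subgroup.mem_center_iff.1 h (loM 1))
  simp only [Matrix.SpecialLinearGroup.coe_mul] at e
  simp [upM, loM, hc] at e

variable [Fintype K]

/-- The relations in the image. -/
theorem exists_rel (h2 : (2 : K) = 0)
    {P : Subgroup (Matrix.GeneralLinearGroup (Fin 2 ⊕ Fin 2) F)}
    (e : P ≃* Matrix.ProjectiveSpecialLinearGroup (Fin 2) K) :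
    ∃ (u tau : K → Matrix.GeneralLinearGroup (Fin 2 ⊕ Fin 2) F)
      (w : Matrix.GeneralLinearGroup (Fin 2 ⊕ Fin 2) F), L2Rel P K u tau w := by
  classical
  have : CharP K 2 := (CharP.charP_iff_prime_eq_zero Nat.prime_two).2 h2
  let π : Matrix.SpecialLinearGroup (Fin 2) K →* Matrix.GeneralLinearGroup (Fin 2 ⊕ Fin 2) F :=
    P.subtype.comp (e.symm.toMonoidHom.comp (QuotientGroup.mk' _))
  have hmem : ∀ s, π s ∈ P := fun s => SetLike.coe_mem _
  have hsurj : ∀ g ∈ P, ∃ s, π s = g := fun g hg => by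
    obtain ⟨s, hs⟩ := QuotientGroup.mk'_surjective _ (e ⟨g, hg⟩)
    exact ⟨s, by simp only [π, MonoidHom.comp_apply, hs]; simp⟩
  let T : K → Matrix.SpecialLinearGroup (Fin 2) K := fun d => if hd : d = 0 then 1 else diagM d hd
  have hT : ∀ d (hd : d ≠ 0), T d = diagM d hd := fun d hd => dif_neg hd
  refine ⟨fun c => π (upM c), fun d => π (T d), π (swapM h2), ?_⟩
  refine ⟨fun c => hmem _, fun d _ => hmem _, hmem _, h2, fun c c' => ?_, fun c hc h => ?_,
    fun d c hd => ?_, fun d d' hd hd' => ?_, ?_, fun d hd => ?_, ?_, ?_, fun c hc => ?_⟩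
  · rw [← map_mul, upM_mul]
  · apply not_center hc
    have h1 : e.symm (QuotientGroup.mk' _ (upM c)) = 1 := Subtype.ext h
    rw [MulEquiv.map_eq_one_iff, QuotientGroup.mk'_apply, QuotientGroup.eq_one_iff] at h1
    exact h1
  · rw [← map_mul, ← map_mul, hT d hd]
    congr 1
    apply Subtype.ext
    simp only [Matrix.SpecialLinearGroup.coe_mul, Matrix.SpecialLinearGroup.coe_one]
    simp [upM, diagM]
    field_simp
  · rw [← map_mul, ← map_mul, hT d hd, hT d' hd']
    congr 1
    apply Subtype.ext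
    simp only [Matrix.SpecialLinearGroup.coe_mul, Matrix.SpecialLinearGroup.coe_one]
    simp [diagM, mul_comm]
  · rw [← map_mul, ← map_one π]
    congr 1
    apply Subtype.ext
    simp only [Matrix.SpecialLinearGroup.coe_mul, Matrix.SpecialLinearGroup.coe_one]
    simp [swapM, Matrix.one_fin_two]
  · rw [← map_mul, ← map_mul, hT d hd]
    congr 1
    apply Subtype.ext
    simp only [Matrix.SpecialLinearGroup.coe_mul, Matrix.SpecialLinearGroup.coe_one]
    simp [diagM, swapM, hd]
  · rw [← map_mul, ← map_mul, ← map_mul, ← map_mul]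
    congr 1
    apply Subtype.ext
    simp only [Matrix.SpecialLinearGroup.coe_mul, Matrix.SpecialLinearGroup.coe_one]
    simp [upM, swapM, show (1 : K) + 1 = 0 by linear_combination h2]
  · intro M hu hw g hg
    obtain ⟨s, rfl⟩ := hsurj g hg
    exact sl_gen h2 (M.comap π) hu hw s
  · obtain ⟨d, hd⟩ := FiniteField.isSquare_of_char_two (ringChar.eq K 2) c
    exact ⟨d, fun h => hc (by rw [hd, h, mul_zero]), hd.symm⟩

end Wire

end Cfsg.Agent.Lib.Sp4Res55
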