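import Cfsg.Agent.Lib.Sp4Res55.Centres

/-!
If every point carries at most one transvection, two orthogonal centres with distinct non-zero
products with a third one span the radical centre of the three-space.
Owner: helper55.
-/
set_option autoImplicit false
set_option linter.unusedSectionVars false

namespace Cfsg.Agent.Lib.Sp4Res55

open Matrix Module Cfsg.Agent.Lib.Subspaces.Transvection Cfsg.Agent.Lib.Subspaces.SympGen

variable {F : Type*} [Field F]

local notation "Vec" => Fin 2 ⊕ Fin 2 → F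
local notation "Mat" => Matrix (Fin 2 ⊕ Fin 2) (Fin 2 ⊕ Fin 2) F
local notation "GL4" => Matrix.GeneralLinearGroup (Fin 2 ⊕ Fin 2) F
local notation "f₄" => Cfsg.sympForm 2 F

/-- The stabiliser in `P` of a vector. -/
def vStab (P : Subgroup (Matrix.GeneralLinearGroup (Fin 2 ⊕ Fin 2) F)) (d : Fin 2 ⊕ Fin 2 → F) :
    Subgroup (Matrix.GeneralLinearGroup (Fin 2 ⊕ Fin 2) F) where
  carrier := {g | g ∈ P ∧ (g : Matrix (Fin 2 ⊕ Fin 2) (Fin 2 ⊕ Fin 2) F) *ᵥ d = d}
  mul_mem' := fun {a b} ha hb => ⟨P.mul_mem ha.1 hb.1, by rw [gl_mul_mulVec, hb.2, ha.2]⟩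
  one_mem' := ⟨P.one_mem, by rw [Units.val_one, one_mulVec]⟩
  inv_mem' := fun {a} ha => ⟨P.inv_mem ha.1, gl_mulVec_injective a (by
    show _ *ᵥ _ = _ *ᵥ _
    rw [gl_mulVec_inv, ha.2])⟩

/-- The elements of the stabiliser of `d` trivial on `d⊥` modulo `d`. -/
def vKer (P : Subgroup (Matrix.GeneralLinearGroup (Fin 2 ⊕ Fin 2) F)) (d : Fin 2 ⊕ Fin 2 → F) :
    Subgroup (vStab P d) where
  carrier := {g | ∀ z, Cfsg.sympForm 2 F z d = 0 →
    ∃ a : F, (g.1 : Matrix (Fin 2 ⊕ Fin 2) (Fin 2 ⊕ Fin 2) F) *ᵥ z = z + a • d}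
  mul_mem' := fun {g h} hg hh z hz => by
    obtain ⟨a, ha⟩ := hh z hz
    obtain ⟨b, hb⟩ := hg z hz
    refine ⟨b + a, ?_⟩
    rw [Subgroup.coe_mul, gl_mul_mulVec, ha, mulVec_add, mulVec_smul, hb, g.2.2]
    module
  one_mem' := fun z _ => ⟨0, by rw [Subgroup.coe_one, Units.val_one, one_mulVec, zero_smul, add_zero]⟩
  inv_mem' := fun {g} hg z hz => by
    obtain ⟨a, ha⟩ := hg z hz
    refine ⟨-a, gl_mulVec_injective g.1 ?_⟩
    show _ *ᵥ _ = _ *ᵥ _
    rw [Subgroup.coe_inv, gl_mulVec_inv, mulVec_add, mulVec_smul, ha, g.2.2]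
    module

variable {P : Subgroup (Matrix.GeneralLinearGroup (Fin 2 ⊕ Fin 2) F)}

namespace Setting

variable (S : Setting P)
include S

theorem vKer_normal (d : Vec) : (vKer P d).Normal := by
  refine ⟨fun k hk g z hz => ?_⟩
  have hgP : g.1 ∈ Cfsg.spGL 2 F := S.le g.2.1
  obtain ⟨a, ha⟩ := hk (((g.1⁻¹ : GL4) : Mat) *ᵥ z) (by rw [f_map_inv hgP, g.2.2, hz])
  refine ⟨a, ?_⟩
  rw [Subgroup.coe_mul, Subgroup.coe_mul, Subgroup.coe_inv, gl_mul_mulVec, gl_mul_mulVec, ha,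
    mulVec_add, mulVec_smul, gl_mulVec_inv, g.2.2]

theorem kk_mul {d w w' : Vec} (h : f₄ w d = 0) (h' : f₄ w' d = 0) (β β' : F) :
    kk d w β * kk d w' β' = kk d (w + w') (β + β' + f₄ w w') := by
  have hd : f₄ d w = 0 := swap_eq_zero hf h
  have h'' : f₄ (w + w') d = 0 := by rw [f_addl, h, h', add_zero]
  refine gl_ext fun x => ?_
  rw [gl_mul_mulVec, S.kk_mulVec h', S.kk_mulVec h, S.kk_mulVec h'']
  simp only [f_addl, f_addr, f_smull, f_self, h', hd, f_comm S.two w' w, mul_zero, add_zero]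
  match_scalars <;> ring

theorem kk_shift {d w : Vec} (h : f₄ w d = 0) (a β : F) : kk d (w + a • d) β = kk d w β := by
  have h' : f₄ (w + a • d) d = 0 := by rw [f_addl, f_smull, h, f_self, mul_zero, add_zero]
  refine gl_ext fun x => ?_
  rw [S.kk_mulVec h', S.kk_mulVec h]
  simp only [f_addr, f_smulr]
  match_scalars
  · ring
  · linear_combination a * f₄ x d * S.two
  · ring

theorem kk_zero (d : Vec) (β : F) : kk d 0 β = sv d β := by
  refine gl_ext fun x => ?_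
  rw [S.kk_mulVec (f_zerol d), sv_mulVec]
  simp only [f_zeror, zero_smul, add_zero, smul_zero]

theorem conj_kk {d w : Vec} {g : GL4} (hg : g ∈ Cfsg.spGL 2 F) (hd : (g : Mat) *ᵥ d = d) (β : F) :
    g * kk d w β * g⁻¹ = kk d ((g : Mat) *ᵥ w) β := by
  have e1 := conj_sv hg (w + d) 1
  have e2 := conj_sv hg w 1
  have e3 := conj_sv hg d (β + 1)
  rw [mulVec_add, hd] at e1
  rw [hd] at e3
  have key : ∀ A B C : GL4, g * (A * B * C) * g⁻¹ = g * A * g⁻¹ * (g * B * g⁻¹) * (g * C * g⁻¹) :=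
    fun A B C => by group
  rw [kk, kk, key, e1, e2, e3]

/-- A transvection of the stabiliser moves a kernel element to one along its centre. -/
theorem kk_step {d w c cL : Vec} {a β : F} (hw : f₄ w d = 0) (hk : kk d w β ∈ P) (hc : Cen P c)
    (hcd : f₄ c d = 0) (hcL : c = cL + a • d) :
    kk d (f₄ w c • cL) (f₄ w c * f₄ w c) ∈ P := by
  have hdc : (sv c 1 : Mat) *ᵥ d = d := by
    rw [sv_mulVec, f_comm S.two d c, hcd, mul_zero, zero_smul, add_zero]
  have h1 : kk d ((sv c 1 : Mat) *ᵥ w) β ∈ P := by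
    rw [← S.conj_kk (sv_mem c 1) hdc]
    exact P.mul_mem (P.mul_mem hc.2 hk) (P.inv_mem hc.2)
  have hw' : f₄ ((sv c 1 : Mat) *ᵥ w) d = 0 := by
    conv_lhs => rw [← hdc]
    rw [f_map (sv_mem c 1), hw]
  have h3 := P.mul_mem hk h1
  rw [S.kk_mul hw hw', sv_mulVec, ← add_assoc w, vv S.two, zero_add, aa S.two, zero_add, f_addr,
    f_self, zero_add, f_smulr, one_mul] at h3
  have hcLd : f₄ (f₄ w c • cL) d = 0 := by
    have : f₄ cL d = 0 := by
      rw [hcL, f_addl, f_smull, f_self, mul_zero, add_zero] at hcd; exact hcd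
    rw [f_smull, this, mul_zero]
  have hv : f₄ w c • c = f₄ w c • cL + (f₄ w c * a) • d := by rw [hcL]; module
  rwa [hv, S.kk_shift hcLd] at h3

variable [Fintype F]

/-- The radical centre. -/
theorem cen_radical_aux (h1 : One P) {c₁ c₂ v : Vec} (hc₁ : Cen P c₁) (hc₂ : Cen P c₂) (hv : Cen P v)
    (hi : Indep c₁ c₂) (h12 : f₄ c₁ c₂ = 0) (hm₁ : f₄ v c₁ ≠ 0) (hm₂ : f₄ v c₂ ≠ 0)
    (hne : f₄ v c₁ ≠ f₄ v c₂) (hm1 : f₄ v c₁ ≠ 1) :
    Cen P ((f₄ v c₁ + f₄ v c₂)⁻¹ • (f₄ v c₂ • c₁ + f₄ v c₁ • c₂)) := by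
  set μ := f₄ v c₁ with hμ
  set δ := f₄ v c₂ / μ with hδ
  have hμ2 : f₄ v c₂ = δ * μ := by rw [hδ, div_mul_cancel₀ _ hm₁]
  have hδ0 : δ ≠ 0 := div_ne_zero hm₂ hm₁
  have hδ1 : 1 + δ ≠ 0 := fun e => hne (by rw [hμ2, ← eq_of_add S.two e, one_mul])
  set d : Vec := c₂ + δ • c₁ with hd
  have hd0 : d ≠ 0 := fun e =>
    one_ne_zero (hi.eq_zero (a := δ) (b := 1) (by rw [one_smul, add_comm]; exact e)).2
  have hc₁d : f₄ c₁ d = 0 := by rw [hd, f_addr, f_smulr, h12, f_self, mul_zero, add_zero]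
  have hc₂d : f₄ c₂ d = 0 := by
    rw [hd, f_addr, f_smulr, f_comm S.two c₂ c₁, h12, f_self, mul_zero, add_zero]
  have hvd : f₄ v d = 0 := by rw [hd, f_addr, f_smulr, hμ2, ← hμ, aa S.two]
  have hc₂e : c₂ = δ • c₁ + d := by
    rw [hd, add_comm c₂ (δ • c₁), ← add_assoc, vv S.two, zero_add]
  have hc₁v : f₄ c₁ v = μ := f_comm S.two _ _
  have hdv : f₄ d v = 0 := (f_comm S.two _ _).trans hvd
  have hdc₁ : f₄ d c₁ = 0 := (f_comm S.two _ _).trans hc₁d
  have hdecomp : ∀ z, f₄ z d = 0 →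
      ∃ γ : F, z = (f₄ z v * μ⁻¹) • c₁ + (f₄ z c₁ * μ⁻¹) • v + γ • d := by
    intro z hz
    set y := z + ((f₄ z v * μ⁻¹) • c₁ + (f₄ z c₁ * μ⁻¹) • v) with hy
    have hy1 : f₄ y c₁ = 0 := by
      rw [hy, f_addl, f_addl, f_smull, f_smull, f_self, ← hμ, mul_zero, zero_add, mul_assoc,
        inv_mul_cancel₀ hm₁, mul_one, aa S.two]
    have hyd : f₄ y d = 0 := by
      rw [hy, f_addl, f_addl, f_smull, f_smull, hc₁d, hvd, hz, mul_zero, mul_zero, add_zero, add_zero]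
    have hy2 : f₄ y c₂ = 0 := by rw [hc₂e, f_addr, f_smulr, hy1, hyd, mul_zero, add_zero]
    obtain ⟨a, b, hab⟩ := mem_of_orth_pair hi h12 hy1 hy2
    have hyv : f₄ y v = 0 := by
      rw [hy, f_addl, f_addl, f_smull, f_smull, f_self, hc₁v, mul_zero, add_zero, mul_assoc,
        inv_mul_cancel₀ hm₁, mul_one, aa S.two]
    rw [hab, f_addl, f_smull, f_smull, hc₁v, f_comm S.two c₂ v, hμ2, ← mul_assoc,
      ← add_mul] at hyv
    have hab' : a = b * δ := eq_of_add S.two ((mul_eq_zero.1 hyv).resolve_right hm₁)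
    refine ⟨b, ?_⟩
    have : y = b • d := by rw [hab, hab', hd]; module
    rw [← this, hy, add_comm z, ← add_assoc, vv S.two, zero_add]
  -- the quotient of the stabiliser of `d`
  have := S.vKer_normal d
  have hfix : ∀ c, f₄ c d = 0 → (sv c 1 : Mat) *ᵥ d = d := fun c hc => by
    rw [sv_mulVec, f_comm S.two d c, hc, mul_zero, zero_smul, add_zero]
  set g₀ : GL4 := sv c₁ 1 * sv c₂ 1 with hg₀
  have hg₀P : g₀ ∈ P := P.mul_mem hc₁.2 hc₂.2
  let g : vStab P d := ⟨g₀, hg₀P, by rw [hg₀, gl_mul_mulVec, hfix _ hc₂d, hfix _ hc₁d]⟩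
  let t : vStab P d := ⟨sv v 1, hv.2, hfix _ hvd⟩
  have hgz : ∀ z, f₄ z d = 0 → ∃ a : F, (g₀ : Mat) *ᵥ z = z + ((1 + δ * δ) * f₄ z c₁) • c₁ + a • d := by
    intro z hz
    have h2z : f₄ z c₂ = δ * f₄ z c₁ := by rw [hc₂e, f_addr, f_smulr, hz, add_zero]
    refine ⟨δ * f₄ z c₁, ?_⟩
    rw [hg₀, gl_mul_mulVec, sv_mulVec c₂, sv_mulVec c₁, f_addl, f_smull, f_comm S.two c₂ c₁, h12,
      h2z, hc₂e]
    module
  have hmk : ∀ a b : vStab P d, (QuotientGroup.mk' (vKer P d)) a = QuotientGroup.mk' (vKer P d) b →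
      ∀ z, f₄ z d = 0 → ∃ r : F, (b.1 : Mat) *ᵥ z = (a.1 : Mat) *ᵥ z + r • d := by
    intro a b hab z hz
    obtain ⟨r, hr⟩ := QuotientGroup.eq.1 hab z hz
    rw [Subgroup.coe_mul, Subgroup.coe_inv, gl_mul_mulVec] at hr
    refine ⟨r, ?_⟩
    have := congrArg (fun q => (a.1 : Mat) *ᵥ q) hr
    simp only [gl_mulVec_inv, mulVec_add, mulVec_smul, a.2.2] at this
    exact this
  have hg2 : g * g = 1 := Subtype.ext (by
    show g₀ * g₀ = 1
    rw [hg₀]
    calc sv c₁ 1 * sv c₂ 1 * (sv c₁ 1 * sv c₂ 1)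
        = sv c₁ 1 * (sv c₂ 1 * sv c₁ 1) * sv c₂ 1 := by group
      _ = 1 := by
        rw [(sv_commute h12 1 1).symm.eq, ← mul_assoc, sv_sq S.two, one_mul, sv_sq S.two])
  obtain ⟨h, hhe⟩ : ∃ h : vStab P d,
      QuotientGroup.mk' (vKer P d) (h * t * h⁻¹) = QuotientGroup.mk' (vKer P d) g := by
    refine Exists.elim (conj_of_involutions (t := QuotientGroup.mk' (vKer P d) t)
      (u := QuotientGroup.mk' (vKer P d) g)
      (by rw [← map_mul, show t * t = 1 from Subtype.ext (sv_sq S.two v 1), map_one])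
      (by rw [← map_mul, hg2, map_one])
      ?_) fun n hn => ⟨(t * g) ^ n, by rw [map_mul, map_mul, map_inv, map_pow, map_mul]; exact hn⟩
    intro n hi2 hit hig
    rw [← map_mul, ← map_pow] at hi2 hit hig
    rw [← map_mul, ← map_pow]
    generalize (t * g) ^ n = i at hi2 hit hig ⊢
    rw [← map_mul] at hi2
    have hit' : QuotientGroup.mk' (vKer P d) (i * t) = QuotientGroup.mk' (vKer P d) (t * i) := by
      rw [map_mul, map_mul]; exact hit.eq
    have hig' : QuotientGroup.mk' (vKer P d) (i * g) = QuotientGroup.mk' (vKer P d) (g * i) := by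
      rw [map_mul, map_mul]; exact hig.eq
    have hid : ∀ z, f₄ z d = 0 → f₄ ((i.1 : Mat) *ᵥ z) d = 0 := fun z hz => by
      exact (congrArg (f₄ ((i.1 : Mat) *ᵥ z)) i.2.2.symm).trans ((f_map (S.le i.2.1) z d).trans hz)
    have hmv : ∀ a b : vStab P d, ((a * b : vStab P d).1 : Mat) = (a.1 : Mat) * (b.1 : Mat) :=
      fun a b => rfl
    have hfix₁ : ∃ γ s : F, (i.1 : Mat) *ᵥ c₁ = γ • c₁ + s • d := by
      obtain ⟨r, hr⟩ := hmk _ _ hig' c₁ hc₁d
      obtain ⟨a₁, ha₁⟩ := hgz c₁ hc₁d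
      obtain ⟨a₂, ha₂⟩ := hgz _ (hid c₁ hc₁d)
      rw [f_self, mul_zero, zero_smul, add_zero] at ha₁
      simp only [hmv, ← mulVec_mulVec] at hr
      rw [show (g.1 : Mat) = (g₀ : Mat) from rfl, ha₁, ha₂, mulVec_add, mulVec_smul, i.2.2] at hr
      have e := congrArg (fun q => f₄ q v) hr
      simp only [f_addl, f_smull, hc₁v, hdv, mul_zero, add_zero] at e
      have h0 : f₄ ((i.1 : Mat) *ᵥ c₁) c₁ = 0 := by
        have h' : (1 + δ * δ) * f₄ ((i.1 : Mat) *ᵥ c₁) c₁ * μ = 0 := by linear_combination e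
        rcases mul_eq_zero.1 ((mul_eq_zero.1 h').resolve_right hm₁) with h'' | h''
        · exact absurd (mul_self_eq_zero.1
            (show (1 + δ) * (1 + δ) = 0 by linear_combination h'' + δ * S.two)) hδ1
        · exact h''
      obtain ⟨γ, hγ⟩ := hdecomp _ (hid c₁ hc₁d)
      rw [h0, zero_mul, zero_smul, add_zero] at hγ
      exact ⟨_, _, hγ⟩
    have hfixv : ∃ γ s : F, (i.1 : Mat) *ᵥ v = γ • v + s • d := by
      obtain ⟨r, hr⟩ := hmk _ _ hit' v hvd
      simp only [hmv, ← mulVec_mulVec] at hr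
      rw [show (t.1 : Mat) = (sv v 1 : Mat) from rfl, sv_mulVec, sv_mulVec, f_self, mul_zero,
        zero_smul, add_zero, one_mul] at hr
      have e := congrArg (fun q => f₄ q c₁) hr
      simp only [f_addl, f_smull, ← hμ, hdc₁, mul_zero, add_zero] at e
      have h0 : f₄ ((i.1 : Mat) *ᵥ v) v = 0 := by
        have h' : f₄ ((i.1 : Mat) *ᵥ v) v * μ = 0 := by linear_combination e
        exact (mul_eq_zero.1 h').resolve_right hm₁
      obtain ⟨γ, hγ⟩ := hdecomp _ (hid v hvd)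
      rw [h0, zero_mul, zero_smul, zero_add] at hγ
      exact ⟨_, _, hγ⟩
    have hii : ∀ z, f₄ z d = 0 → ∃ r : F, (i.1 : Mat) *ᵥ ((i.1 : Mat) *ᵥ z) = z + r • d := by
      intro z hz
      obtain ⟨r, hr⟩ := hmk 1 (i * i) (by rw [hi2, map_one]) z hz
      rw [hmv, ← mulVec_mulVec, Subgroup.coe_one, Units.val_one, one_mulVec] at hr
      exact ⟨r, hr⟩
    obtain ⟨γ, s, hiγ⟩ := hfix₁
    obtain ⟨γ', s', hiγ'⟩ := hfixv
    have hγ1 : γ = 1 := by
      obtain ⟨r, hr⟩ := hii c₁ hc₁d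
      rw [hiγ, mulVec_add, mulVec_smul, mulVec_smul, hiγ, i.2.2] at hr
      have e := congrArg (fun q => f₄ q v) hr
      simp only [f_addl, f_smull, hc₁v, hdv, mul_zero, add_zero] at e
      exact S.eq_one_of_mul_self (mul_right_cancel₀ hm₁ (by linear_combination e))
    have hγ1' : γ' = 1 := by
      obtain ⟨r, hr⟩ := hii v hvd
      rw [hiγ', mulVec_add, mulVec_smul, mulVec_smul, hiγ', i.2.2] at hr
      have e := congrArg (fun q => f₄ q c₁) hr
      simp only [f_addl, f_smull, ← hμ, hdc₁, mul_zero, add_zero] at e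
      exact S.eq_one_of_mul_self (mul_right_cancel₀ hm₁ (by linear_combination e))
    refine (QuotientGroup.eq_one_iff _).2 fun z hz => ?_
    obtain ⟨γz, hγz⟩ := hdecomp z hz
    rw [hγz]
    simp only [mulVec_add, mulVec_smul, hiγ, hiγ', i.2.2, hγ1, hγ1']
    exact ⟨(f₄ z v * μ⁻¹) * s + (f₄ z c₁ * μ⁻¹) * s', by module⟩
  -- the conjugate centre
  set c' : Vec := (h.1 : Mat) *ᵥ v with hc'def
  have hcP : Cen P c' := S.toCen hv h.2.1
  have hc'd : f₄ c' d = 0 := by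
    exact (congrArg (f₄ c') h.2.2.symm).trans ((f_map (S.le h.2.1) v d).trans hvd)
  have hc'z : ∀ z, f₄ z d = 0 →
      ∃ r : F, f₄ z c' • c' = ((1 + δ * δ) * f₄ z c₁) • c₁ + r • d := by
    intro z hz
    obtain ⟨r, hr⟩ := hmk _ _ hhe z hz
    obtain ⟨a, ha⟩ := hgz z hz
    rw [show ((h * t * h⁻¹ : vStab P d).1) = h.1 * sv v 1 * h.1⁻¹ from rfl, conj_sv (S.le h.2.1),
      ← hc'def, sv_mulVec, one_mul, show (g.1 : Mat) = (g₀ : Mat) from rfl, ha, add_assoc z,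
      add_assoc z, add_right_inj] at hr
    refine ⟨a + r, ?_⟩
    calc f₄ z c' • c' = f₄ z c' • c' + r • d + r • d := by rw [add_assoc, vv S.two, add_zero]
      _ = _ := by rw [← hr]; module
  obtain ⟨ε, hε⟩ := hdecomp c' hc'd
  set α := f₄ c' v * μ⁻¹ with hαdef
  set b := f₄ c' c₁ * μ⁻¹ with hbdef
  have hc₁c' : f₄ c₁ c' = b * μ := by
    rw [f_comm S.two, hbdef, mul_assoc, inv_mul_cancel₀ hm₁, mul_one]
  have hvc' : f₄ v c' = α * μ := by
    rw [f_comm S.two, hαdef, mul_assoc, inv_mul_cancel₀ hm₁, mul_one]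
  have hb : b = 0 := by
    obtain ⟨r, hr⟩ := hc'z c₁ hc₁d
    have e := congrArg (fun q => f₄ q c₁) hr
    simp only [f_addl, f_smull, hc₁c', f_self, hdc₁, mul_zero, add_zero] at e
    have : f₄ c' c₁ = b * μ := by rw [hbdef, mul_assoc, inv_mul_cancel₀ hm₁, mul_one]
    rw [this] at e
    exact (mul_eq_zero.1 (mul_self_eq_zero.1 e)).resolve_right hm₁
  have hα : α = 1 + δ := by
    obtain ⟨r, hr⟩ := hc'z v hvd
    have e := congrArg (fun q => f₄ q v) hr
    have : f₄ c' v = α * μ := by rw [hαdef, mul_assoc, inv_mul_cancel₀ hm₁, mul_one]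
    simp only [f_addl, f_smull, hvc', this, hc₁v, hdv, ← hμ, mul_zero, add_zero] at e
    have e2 : α * α = (1 + δ) * (1 + δ) := mul_right_cancel₀ (mul_ne_zero hm₁ hm₁)
      (by linear_combination e - δ * (μ * μ) * S.two)
    have e3 : (α + (1 + δ)) * (α + (1 + δ)) = 0 := by
      linear_combination e2 + (α * (1 + δ) + (1 + δ) * (1 + δ)) * S.two
    exact eq_of_add S.two (mul_self_eq_zero.1 e3)
  rw [hb, hα, zero_smul, add_zero] at hε
  set e := δ + (1 + δ) * ε with hedef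
  have hew : ∀ e : F, f₄ (e • c₁) d = 0 := fun e => by rw [f_smull, hc₁d, mul_zero]
  have hkP : kk d (e • c₁) (1 + ε * ε) ∈ P := by
    have heq : kk d (e • c₁) (1 + ε * ε) = g₀ * sv c' 1 := by
      refine gl_ext fun x => ?_
      rw [S.kk_mulVec (hew e), hg₀, gl_mul_mulVec, gl_mul_mulVec, hε, hc₂e]
      simp only [sv_mulVec, f_addl, f_addr, f_smull, f_smulr, f_self, hc₁d, hdc₁, one_mul,
        mul_zero, add_zero]
      rw [hedef]
      match_scalars <;> first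
        | ring1
        | linear_combination (δ + δ * δ + 1) * f₄ x c₁ * S.two
        | linear_combination (-(δ + δ * δ + 1)) * f₄ x c₁ * S.two
    rw [heq]
    exact P.mul_mem hg₀P hcP.2
  have hgoal : (μ + f₄ v c₂)⁻¹ • (f₄ v c₂ • c₁ + μ • c₂) = (1 + δ)⁻¹ • d := by
    rw [hμ2, show μ + δ * μ = (1 + δ) * μ by ring,
      show (δ * μ) • c₁ + μ • c₂ = μ • d by rw [hd]; module, smul_smul]
    congr 1
    field_simp
  rw [hgoal]
  by_cases he0 : e = 0
  · rw [he0, zero_smul, S.kk_zero] at hkP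
    refine ⟨smul_ne_zero (inv_ne_zero hδ1) hd0, ?_⟩
    have hβ : (1 + ε * ε) = (1 + δ)⁻¹ * (1 + δ)⁻¹ * 1 := by
      have hεe : ε = δ * (1 + δ)⁻¹ := by
        rw [hedef] at he0
        rw [← div_eq_mul_inv, eq_div_iff hδ1]
        linear_combination -(eq_of_add S.two he0)
      rw [hεe, mul_one]
      field_simp
      linear_combination (δ + δ * δ) * S.two
    rw [sv_smul, ← hβ]
    exact hkP
  · exfalso
    have hvw : ∀ s : F, f₄ (s • v) d = 0 := fun s => by rw [f_smull, hvd, mul_zero]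
    have stepV : ∀ e β, kk d (e • c₁) β ∈ P → kk d ((e * μ) • v) (e * μ * (e * μ)) ∈ P := by
      intro e β he
      have := S.kk_step (hew e) he hv hvd (cL := v) (a := 0) (by rw [zero_smul, add_zero])
      rwa [f_smull, hc₁v] at this
    have stepA : ∀ e β, kk d (e • c₁) β ∈ P →
        kk d ((μ * μ * e) • c₁) (μ * μ * e * (μ * μ * e)) ∈ P := by
      intro e β he
      have := S.kk_step (hvw _) (stepV e β he) hc₁ hc₁d (cL := c₁) (a := 0)
        (by rw [zero_smul, add_zero])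
      rw [f_smull, ← hμ, show e * μ * μ = μ * μ * e by ring] at this
      exact this
    have stepB : ∀ e β, kk d (e • c₁) β ∈ P →
        kk d ((μ * μ * δ * δ * e) • c₁) (μ * μ * δ * e * (μ * μ * δ * e)) ∈ P := by
      intro e β he
      have := S.kk_step (hvw _) (stepV e β he) hc₂ hc₂d (cL := δ • c₁) (a := 1)
        (by rw [one_smul]; exact hc₂e)
      rw [f_smull, hμ2, smul_smul, show e * μ * (δ * μ) * δ = μ * μ * δ * δ * e by ring,
        show e * μ * (δ * μ) = μ * μ * δ * e by ring] at this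
      exact this
    have key : ∀ e β, kk d (e • c₁) β ∈ P →
        Cen P ((μ * μ * μ * μ * δ * e * (1 + δ)) • d) ∨ e = 0 := by
      intro e β he
      refine (em (e = 0)).symm.imp_left fun hne0 => ?_
      have h3 := P.mul_mem (stepA _ _ (stepB e β he)) (stepB _ _ (stepA e β he))
      rw [S.kk_mul (hew _) (hew _),
        show μ * μ * δ * δ * (μ * μ * e) = μ * μ * (μ * μ * δ * δ * e) by ring, vv S.two,
        S.kk_zero, f_smull, f_smulr, f_self, mul_zero, mul_zero, add_zero] at h3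
      refine ⟨smul_ne_zero ?_ hd0, ?_⟩
      · repeat' apply mul_ne_zero
        all_goals assumption
      rw [sv_smul]
      convert h3 using 2
      linear_combination (μ ^ 8 * δ ^ 3 * e ^ 2) * S.two
    have hA := stepA e _ hkP
    have hμe : μ * μ * e ≠ 0 := mul_ne_zero (mul_ne_zero hm₁ hm₁) he0
    have k1 := (key e _ hkP).resolve_right he0
    have k2 := (key _ _ hA).resolve_right hμe
    rw [show μ * μ * μ * μ * δ * (μ * μ * e) * (1 + δ) = (μ * μ) * (μ * μ * μ * μ * δ * e * (1 + δ))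
      by ring, mul_smul] at k2
    exact hm1 (S.eq_one_of_mul_self (h1 _ _ k1 k2))

/-- The radical centre of a three-space with two orthogonal centres. -/
theorem cen_radical (h1 : One P) {c₁ c₂ v : Vec} (hc₁ : Cen P c₁) (hc₂ : Cen P c₂) (hv : Cen P v)
    (hi : Indep c₁ c₂) (h12 : f₄ c₁ c₂ = 0) (hm₁ : f₄ v c₁ ≠ 0) (hm₂ : f₄ v c₂ ≠ 0)
    (hne : f₄ v c₁ ≠ f₄ v c₂) :
    Cen P ((f₄ v c₁ + f₄ v c₂)⁻¹ • (f₄ v c₂ • c₁ + f₄ v c₁ • c₂)) := by
  by_cases hm : f₄ v c₁ = 1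
  · have := S.cen_radical_aux h1 hc₂ hc₁ hv hi.symm (swap_eq_zero hf h12) hm₂ hm₁ (Ne.symm hne)
      (fun e => hne (hm.trans e.symm))
    rwa [add_comm (f₄ v c₂), add_comm (f₄ v c₁ • c₂)] at this
  · exact S.cen_radical_aux h1 hc₁ hc₂ hv hi h12 hm₁ hm₂ hne hm

end Setting

end Cfsg.Agent.Lib.Sp4Res55
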