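import Cfsg.Agent.Lib.Sp4Res55.Centres

/-!
The centres span, are connected through non-orthogonal pairs, and decide the traces.
Owner: helper55.
-/
set_option autoImplicit false
set_option linter.unusedSectionVars false

namespace Cfsg.Agent.Lib.Sp4Res55

open Matrix Module Cfsg.Agent.Lib.Subspaces.Transvection Cfsg.Agent.Lib.Subspaces.SympGen

variable {F : Type*} [Field F]

local notation "Vec" => Fin 2 ⊕ Fin 2 → F
local notation "Mat" => Matrix (Fin 2 ⊕ Fin 2) (Fin 2 ⊕ Fin 2) F
local notation "GL4" => Matrix.GeneralLinearGroup (Fin 2 ⊕ Fin 2) F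
local notation "f₄" => Cfsg.sympForm 2 F

variable {P : Subgroup (Matrix.GeneralLinearGroup (Fin 2 ⊕ Fin 2) F)}

namespace Setting

variable (S : Setting P)
include S

/-- The centres span. -/
theorem span_cen {c₀ : Vec} (h₀ : Cen P c₀) : Submodule.span F {v | Cen P v} = ⊤ := by
  refine (S.irr _ fun g hg w hw => ?_).resolve_left fun h => h₀.1 ?_
  · induction hw using Submodule.span_induction with
    | mem x hx => exact Submodule.subset_span (S.toCen hx hg)
    | zero => rw [mulVec_zero]; exact zero_mem _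
    | add x y _ _ hx hy => rw [mulVec_add]; exact add_mem hx hy
    | smul c x _ hx => rw [mulVec_smul]; exact Submodule.smul_mem _ c hx
  · exact (Submodule.mem_bot F).1 (h ▸ Submodule.subset_span h₀)

theorem exists_cen_nonorth {c₀ : Vec} (h₀ : Cen P c₀) {z : Vec} (hz : z ≠ 0) :
    ∃ v, Cen P v ∧ f₄ v z ≠ 0 := by
  by_contra! h
  apply hz
  refine eq_zero_of_orth fun x => ?_
  have hall : ∀ x : Vec, f₄ x z = 0 := fun x => by
    have hx : x ∈ Submodule.span F {v | Cen P v} := S.span_cen h₀ ▸ Submodule.mem_top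
    induction hx using Submodule.span_induction with
    | mem v hv => exact h v hv
    | zero => exact f_zerol _
    | add a b _ _ ha hb => rw [f_addl, ha, hb, add_zero]
    | smul c a _ ha => rw [f_smull, ha, mul_zero]
  exact swap_eq_zero hf (hall x)

variable [Fintype F]

/-- Every transvection of `P` is normalised at a centre. -/
theorem cen_of_sv {v : Vec} {a : F} (hv : v ≠ 0) (ha : a ≠ 0) (h : sv v a ∈ P) :
    ∃ s : F, s * s = a ∧ Cen P (s • v) := by
  have : CharP F 2 := (CharP.charP_iff_prime_eq_zero Nat.prime_two).2 S.two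
  obtain ⟨s, hs⟩ := FiniteField.isSquare_of_char_two (ringChar.eq F 2) a
  have hs0 : s ≠ 0 := fun e => ha (by rw [hs, e, mul_zero])
  exact ⟨s, hs.symm, smul_ne_zero hs0 hv, by rw [sv_smul, mul_one, ← hs]; exact h⟩

/-- A simple group with a transvection is generated by them. -/
theorem closure_cen {c₀ : Vec} (h₀ : Cen P c₀) :
    Subgroup.closure {g | ∃ v, Cen P v ∧ g = sv v 1} = P := by
  have := S.simple
  set T := {g : GL4 | ∃ v, Cen P v ∧ g = sv v 1}
  have hle : Subgroup.closure T ≤ P := by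
    rw [Subgroup.closure_le]; rintro _ ⟨v, hv, rfl⟩; exact hv.2
  refine le_antisymm hle ?_
  have hn : ((Subgroup.closure T).subgroupOf P).Normal := by
    refine ⟨fun x hx g => ?_⟩
    rw [Subgroup.mem_subgroupOf] at hx ⊢
    show g.1 * x.1 * g.1⁻¹ ∈ _
    have hmap : (Subgroup.closure T).map (MulAut.conj g.1).toMonoidHom ≤ Subgroup.closure T := by
      rw [MonoidHom.map_closure, Subgroup.closure_le]
      rintro _ ⟨_, ⟨v, hv, rfl⟩, rfl⟩
      exact Subgroup.subset_closure ⟨_, S.toCen hv g.2, (conj_sv (S.le g.2) v 1)⟩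
    exact hmap ⟨x.1, hx, rfl⟩
  rcases hn.eq_bot_or_eq_top with h | h
  · exfalso
    have h1 : (⟨sv c₀ 1, h₀.2⟩ : P) ∈ (Subgroup.closure T).subgroupOf P :=
      Subgroup.mem_subgroupOf.2 (Subgroup.subset_closure ⟨c₀, h₀, rfl⟩)
    rw [h, Subgroup.mem_bot] at h1
    exact sv_ne_one h₀.1 one_ne_zero (congrArg Subtype.val h1)
  · exact Subgroup.subgroupOf_eq_top.1 h

/-- A property of centres passing along non-orthogonal pairs holds for all. -/
theorem cen_connected {Q : Vec → Prop} {c₀ : Vec} (h₀ : Cen P c₀) (hQ : Q c₀)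
    (hstep : ∀ v w, Cen P v → Q v → Cen P w → f₄ v w ≠ 0 → Q w) : ∀ v, Cen P v → Q v := by
  set K := Submodule.span F {v | Cen P v ∧ Q v} with hK
  have hgen : ∀ g ∈ Subgroup.closure {g | ∃ v, Cen P v ∧ g = sv v 1}, ∀ x ∈ K,
      (g : Mat) *ᵥ x ∈ K := by
    intro g hg
    induction hg using Subgroup.closure_induction'' with
    | mem g hg =>
      obtain ⟨v, hv, rfl⟩ := hg
      intro x hx
      induction hx using Submodule.span_induction with
      | mem z hz =>
        rw [sv_mulVec]
        by_cases h : f₄ z v = 0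
        · rw [h, mul_zero, zero_smul, add_zero]; exact Submodule.subset_span hz
        · exact add_mem (Submodule.subset_span hz)
            (Submodule.smul_mem _ _ (Submodule.subset_span ⟨hv, hstep z v hz.1 hz.2 hv h⟩))
      | zero => rw [mulVec_zero]; exact zero_mem _
      | add x y _ _ hx hy => rw [mulVec_add]; exact add_mem hx hy
      | smul c x _ hx => rw [mulVec_smul]; exact Submodule.smul_mem _ c hx
    | inv_mem g hg =>
      obtain ⟨v, hv, rfl⟩ := hg
      intro x hx
      rw [sv_inv S.two]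
      induction hx using Submodule.span_induction with
      | mem z hz =>
        rw [sv_mulVec]
        by_cases h : f₄ z v = 0
        · rw [h, mul_zero, zero_smul, add_zero]; exact Submodule.subset_span hz
        · exact add_mem (Submodule.subset_span hz)
            (Submodule.smul_mem _ _ (Submodule.subset_span ⟨hv, hstep z v hz.1 hz.2 hv h⟩))
      | zero => rw [mulVec_zero]; exact zero_mem _
      | add x y _ _ hx hy => rw [mulVec_add]; exact add_mem hx hy
      | smul c x _ hx => rw [mulVec_smul]; exact Submodule.smul_mem _ c hx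
    | one => intro x hx; rwa [Units.val_one, one_mulVec]
    | mul g h _ _ hg hh => intro x hx; rw [gl_mul_mulVec]; exact hg _ (hh x hx)
  rw [S.closure_cen h₀] at hgen
  have htop : K = ⊤ := (S.irr K hgen).resolve_left fun h =>
    h₀.1 ((Submodule.mem_bot F).1 (h ▸ Submodule.subset_span ⟨h₀, hQ⟩))
  intro v hv
  by_contra hv'
  refine hv.1 (eq_zero_of_orth fun x => ?_)
  have hx : x ∈ K := htop ▸ Submodule.mem_top
  induction hx using Submodule.span_induction with
  | mem z hz =>
    by_contra h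
    exact hv' (hstep z v hz.1 hz.2 hv fun e => h (swap_eq_zero hf e))
  | zero => exact f_zeror _
  | add a b _ _ ha hb => rw [f_addr, ha, hb, add_zero]
  | smul c a _ ha => rw [f_smulr, ha, mul_zero]

/-- If the centres pair into a subfield, the group is realisable over it. -/
theorem realisable_of_pairs {c₀ : Vec} (h₀ : Cen P c₀) (E : Subfield F) (T : Set Vec)
    (hgen : ∀ v, Cen P v → ∃ u ∈ T, ∃ c : F, v = c • u ∧ c * c ∈ E)
    (hT : Submodule.span F T = ⊤) (hTE : ∀ u ∈ T, ∀ u' ∈ T, f₄ u u' ∈ E) :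
    Cfsg.Geo.RealisableOver E (Cfsg.Geo.matrixSet P) := by
  classical
  let W : Set Vec := {x | ∀ u ∈ T, f₄ x u ∈ E}
  have hgW : ∀ g ∈ Subgroup.closure {g : GL4 | ∃ v, Cen P v ∧ g = sv v 1}, ∀ x ∈ W,
      (g : Mat) *ᵥ x ∈ W := by
    have key : ∀ v, Cen P v → ∀ x ∈ W, (sv v 1 : Mat) *ᵥ x ∈ W := by
      intro v hv x hx u' hu'
      obtain ⟨u, hu, c, rfl, hc⟩ := hgen v hv
      rw [sv_mulVec, f_addl, f_smull, f_smull, f_smulr,
        show 1 * (c * f₄ x u) * (c * f₄ u u') = c * c * (f₄ x u * f₄ u u') by ring]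
      exact add_mem (hx u' hu') (mul_mem hc (mul_mem (hx u hu) (hTE u hu u' hu')))
    intro g hg
    induction hg using Subgroup.closure_induction'' with
    | mem g hg => obtain ⟨v, hv, rfl⟩ := hg; exact key v hv
    | inv_mem g hg => obtain ⟨v, hv, rfl⟩ := hg; rw [sv_inv S.two]; exact key v hv
    | one => intro x hx; rwa [Units.val_one, one_mulVec]
    | mul g h _ _ hg hh => intro x hx; rw [gl_mul_mulVec]; exact hg _ (hh x hx)
  rw [S.closure_cen h₀] at hgW
  obtain ⟨s, hsT, hsspan, hsli⟩ := exists_linearIndependent F T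
  let _ : Fintype s := Fintype.ofFinite _
  let b : Basis s F Vec := Basis.mk hsli (by rw [Subtype.range_coe, hsspan, hT])
  have hb : ∀ i, b i = (i : Vec) := fun i => by simp [b]
  let G₀ : Matrix s s E := fun i j => ⟨f₄ (b i) (b j), by
    rw [hb, hb]; exact hTE _ (hsT i.2) _ (hsT j.2)⟩
  let G : Matrix s s F := G₀.map E.subtype
  have hG0 : G₀.det ≠ 0 := by
    intro h
    have h' : G.det = 0 := by
      show (E.subtype.mapMatrix G₀).det = 0
      rw [← RingHom.map_det, h, map_zero]
    obtain ⟨μ, hμ0, hμ⟩ := Matrix.exists_vecMul_eq_zero_iff.2 h'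
    refine hμ0 (funext fun i => ?_)
    have hz : ∑ j, μ j • b j = 0 := by
      refine eq_zero_of_orth fun x => ?_
      rw [← b.sum_repr x]
      have : ∀ i, f₄ (∑ j, μ j • b j) (b i) = 0 := fun i => by
        have := congrFun hμ i
        rw [Matrix.vecMul, dotProduct] at this
        refine Eq.trans ?_ this
        let L : Vec →ₗ[F] F :=
          { toFun := fun z => f₄ z (b i)
            map_add' := fun y z => f_addl _ _ _
            map_smul' := fun c z => f_smull _ _ _ }
        exact (map_sum L _ _).trans (Finset.sum_congr rfl fun j _ => f_smull _ _ _)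
      let R : Vec →ₗ[F] F :=
        { toFun := fun z => f₄ (∑ j, μ j • b j) z
          map_add' := fun y z => f_addr _ _ _
          map_smul' := fun c z => f_smulr _ _ _ }
      show R (∑ i, b.repr x i • b i) = 0
      rw [map_sum]
      exact Finset.sum_eq_zero fun i _ => by rw [map_smul]; exact (congrArg _ (this i)).trans (smul_zero _)
    exact Fintype.linearIndependent_iff.1 b.linearIndependent μ hz i
  have hcoord : ∀ x ∈ W, ∀ i, b.repr x i ∈ E := by
    intro x hx i
    let v₀ : s → E := fun j => ⟨f₄ x (b j), by rw [hb]; exact hx _ (hsT j.2)⟩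
    have hu : IsUnit G₀.det := isUnit_iff_ne_zero.2 hG0
    have e1 : (fun j => b.repr x j) ᵥ* G = fun j => (v₀ j : F) := by
      funext j
      show ∑ k, b.repr x k * f₄ (b k) (b j) = f₄ x (b j)
      let L : Vec →ₗ[F] F :=
        { toFun := fun z => f₄ z (b j)
          map_add' := fun y z => f_addl _ _ _
          map_smul' := fun c z => f_smull _ _ _ }
      show ∑ k, b.repr x k • L (b k) = L x
      conv_rhs => rw [← b.sum_repr x]
      rw [map_sum]
      exact Finset.sum_congr rfl fun k _ => (map_smul L _ _).symm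
    have e2 : G * G₀⁻¹.map E.subtype = 1 := by
      show G₀.map E.subtype * G₀⁻¹.map E.subtype = 1
      rw [← Matrix.map_mul, Matrix.mul_nonsing_inv _ hu]
      exact Matrix.map_one _ (map_zero _) (map_one _)
    have e3 := congrArg (fun w => w ᵥ* G₀⁻¹.map E.subtype) e1
    simp only [Matrix.vecMul_vecMul, e2, Matrix.vecMul_one] at e3
    rw [congrFun e3 i]
    show ∑ j, (v₀ j : F) * ((G₀⁻¹ j i : E) : F) ∈ E
    exact sum_mem fun j _ => mul_mem (v₀ j).2 (G₀⁻¹ j i).2
  let π : (Fin 2 ⊕ Fin 2) ≃ s := ((Pi.basisFun F (Fin 2 ⊕ Fin 2)).indexEquiv b)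
  let b' := b.reindex π.symm
  let M : Mat := (Pi.basisFun F (Fin 2 ⊕ Fin 2)).toMatrix b'
  let N : Mat := b'.toMatrix (Pi.basisFun F (Fin 2 ⊕ Fin 2))
  let B : GL4 := ⟨N, M, b'.toMatrix_mul_toMatrix_flip _,
    (Pi.basisFun F (Fin 2 ⊕ Fin 2)).toMatrix_mul_toMatrix_flip b'⟩
  refine ⟨B, ?_⟩
  rintro _ ⟨g, hg, rfl⟩ i j
  show (N * (g : Mat) * M) i j ∈ E
  rw [Matrix.mul_assoc]
  have hcol : ∀ k, ((g : Mat) * M) k j = ((g : Mat) *ᵥ b' j) k := fun k => rfl
  have : (N * ((g : Mat) * M)) i j = b'.repr ((g : Mat) *ᵥ b' j) i := by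
    rw [← b'.toMatrix_apply (fun _ : Fin 2 ⊕ Fin 2 => (g : Mat) *ᵥ b' j) i i]
    have h := congrFun (congrFun (b'.toMatrix_mul_toMatrix (Pi.basisFun F (Fin 2 ⊕ Fin 2))
      (fun _ : Fin 2 ⊕ Fin 2 => (g : Mat) *ᵥ b' j)) i) i
    rw [← h, Matrix.mul_apply, Matrix.mul_apply]
    exact Finset.sum_congr rfl fun k _ => by rw [hcol, Basis.toMatrix_apply _ _ k i]; rfl
  rw [this, Basis.repr_reindex_apply]
  refine hcoord _ (hgW g hg _ fun u hu => ?_) _
  rw [Basis.reindex_apply, hb]
  exact hTE _ (hsT (Subtype.mem _)) u hu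

end Setting

end Cfsg.Agent.Lib.Sp4Res55
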