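import Cfsg.Agent.Lib.LieTwisted.Suzuki

/-!
The endomorphism `g ↦ g*` of the four-dimensional symplectic group in characteristic two: it is
multiplicative, and its square is the entrywise squaring, both shown on transvections.
Owner: helper55.
-/
set_option autoImplicit false
set_option linter.unusedSectionVars false

namespace Cfsg.Agent.Lib.Sp4Res55

open Matrix Cfsg.Agent.Lib.LieTwisted.Suzuki

variable {F : Type*} [Field F] [Fintype F]

local notation "M₄" => Matrix (Fin 4) (Fin 4) F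

/-- The matrix preserves the form `altForm4`. -/
def Iso4 (g : Matrix (Fin 4) (Fin 4) F) : Prop := gᵀ * wMat F * g = wMat F

theorem Iso4.mul {g k : M₄} (hg : Iso4 g) (hk : Iso4 k) : Iso4 (g * k) := by
  unfold Iso4
  rw [Matrix.transpose_mul, mul_assoc, mul_assoc, ← mul_assoc (wMat F), ← mul_assoc gᵀ,
    ← mul_assoc gᵀ, hg, ← mul_assoc, hk]

theorem Iso4.right {g : M₄} (hg : Iso4 g) : g * wMat F * gᵀ = wMat F := by
  have h1 : (wMat F * gᵀ * wMat F) * g = 1 := by
    rw [mul_assoc, mul_assoc, ← mul_assoc gᵀ, hg, wMat_mul_self]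
  calc g * wMat F * gᵀ = g * (wMat F * gᵀ * wMat F) * wMat F := by
        simp only [mul_assoc, wMat_mul_self, mul_one]
    _ = wMat F := by rw [mul_eq_one_comm.1 h1, one_mul]

section Char2

variable (h2 : (2 : F) = 0)
include h2

theorem star4_mul {g k : M₄} (hg : Iso4 g) (hk : Iso4 k) :
    Cfsg.Lie.star4 (g * k) = Cfsg.Lie.star4 g * Cfsg.Lie.star4 k := by
  ext p r
  obtain ⟨i, j, hij, hij'⟩ : ∃ i j, Cfsg.Lie.pairOf r = (i, j) ∧ wMat F i j = 0 := by
    fin_cases r <;> exact ⟨_, _, rfl, by simp [wMat]⟩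
  obtain ⟨a, c, hac, hac'⟩ : ∃ a c, Cfsg.Lie.pairOf p = (a, c) ∧ wMat F a c = 0 := by
    fin_cases p <;> exact ⟨_, _, rfl, by simp [wMat]⟩
  have hg14 : g a 0 * g c 3 - g c 0 * g a 3 + (g a 1 * g c 2 - g c 1 * g a 2) = 0 := by
    have h := congrFun (congrFun hg.right a) c
    rw [hac'] at h
    simp only [wMat, Matrix.mul_apply, Fin.sum_univ_four, Matrix.transpose_apply] at h
    simp at h
    linear_combination h - (g c 0 * g a 3 + g c 1 * g a 2) * h2
  have hk14 : k 0 i * k 3 j - k 3 i * k 0 j + (k 1 i * k 2 j - k 2 i * k 1 j) = 0 := by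
    have h := congrFun (congrFun hk i) j
    rw [hij'] at h
    simp only [wMat, Matrix.mul_apply, Fin.sum_univ_four, Matrix.transpose_apply] at h
    simp at h
    linear_combination h - (k 3 i * k 0 j + k 2 i * k 1 j) * h2
  have key : Cfsg.Lie.star4 (g * k) p r = (Cfsg.Lie.star4 g * Cfsg.Lie.star4 k) p r +
      (g a 0 * g c 3 - g c 0 * g a 3) * (k 0 i * k 3 j - k 3 i * k 0 j) +
      (g a 1 * g c 2 - g c 1 * g a 2) * (k 1 i * k 2 j - k 2 i * k 1 j) := by
    simp only [Cfsg.Lie.star4, Matrix.of_apply, hij, hac, Matrix.mul_apply, Fin.sum_univ_four]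
    simp only [Cfsg.Lie.pairOf, Matrix.cons_val_zero, Matrix.cons_val_one, Matrix.cons_val]
    ring
  rw [key]
  linear_combination (g a 0 * g c 3 - g c 0 * g a 3) * hk14 -
    (k 1 i * k 2 j - k 2 i * k 1 j) * hg14 +
    (g a 1 * g c 2 - g c 1 * g a 2) * (k 1 i * k 2 j - k 2 i * k 1 j) * h2

/-- The transvection with centre `![p, q, r, s]` in coordinates. -/
def tv4 (p q r s a : F) : Matrix (Fin 4) (Fin 4) F :=
  !![1 + a * p * s, a * p * r, a * p * q, a * p * p;
     a * q * s, 1 + a * q * r, a * q * q, a * q * p;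
     a * r * s, a * r * r, 1 + a * r * q, a * r * p;
     a * s * s, a * s * r, a * s * q, 1 + a * s * p]

theorem iso4_star4_tv4 (p q r s a : F) : Iso4 (Cfsg.Lie.star4 (tv4 p q r s a)) := by
  have : CharP F 2 := (CharP.charP_iff_prime_eq_zero Nat.prime_two).2 h2
  unfold Iso4
  ext i j
  fin_cases i <;> fin_cases j <;>
    simp [tv4, Cfsg.Lie.star4, Cfsg.Lie.pairOf, wMat, Matrix.mul_apply, Fin.sum_univ_four] <;>
    grind

theorem star4_star4_tv4 (p q r s a : F) :
    Cfsg.Lie.star4 (Cfsg.Lie.star4 (tv4 p q r s a)) = (tv4 p q r s a).map (fun x => x * x) := by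
  have : CharP F 2 := (CharP.charP_iff_prime_eq_zero Nat.prime_two).2 h2
  ext i j
  fin_cases i <;> fin_cases j <;>
    simp [tv4, Cfsg.Lie.star4, Cfsg.Lie.pairOf] <;> grind

end Char2

theorem star4_one : Cfsg.Lie.star4 (1 : M₄) = 1 := by
  ext i j
  fin_cases i <;> fin_cases j <;> simp [Cfsg.Lie.star4, Cfsg.Lie.pairOf, Matrix.one_apply]

/-- A matrix fixing the first basis vector has image preserving the span of the first two. -/
theorem star4_low {g : M₄} (h1 : g 1 0 = 0) (h2 : g 2 0 = 0) (h3 : g 3 0 = 0) (p r : Fin 4)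
    (hp : p = 2 ∨ p = 3) (hr : r = 0 ∨ r = 1) : Cfsg.Lie.star4 g p r = 0 := by
  rcases hp with rfl | rfl <;> rcases hr with rfl | rfl <;>
    simp [Cfsg.Lie.star4, Cfsg.Lie.pairOf, h1, h2, h3]

/-- The second exterior trace: the sum of the principal minors of size two. -/
def mtr2 (g : Matrix (Fin 4) (Fin 4) F) : F :=
  (g 0 0 * g 1 1 - g 1 0 * g 0 1) + (g 0 0 * g 2 2 - g 2 0 * g 0 2) +
    (g 1 1 * g 3 3 - g 3 1 * g 1 3) + (g 2 2 * g 3 3 - g 3 2 * g 2 3) +
    (g 0 0 * g 3 3 - g 3 0 * g 0 3) + (g 1 1 * g 2 2 - g 2 1 * g 1 2)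

theorem mtr2_comm (g k : M₄) : mtr2 (g * k) = mtr2 (k * g) := by
  simp only [mtr2, Matrix.mul_apply, Fin.sum_univ_four]
  ring

theorem mtr2_mem (E : Subfield F) {g : M₄} (h : ∀ i j, g i j ∈ E) : mtr2 g ∈ E := by
  simp only [mtr2]
  exact add_mem (add_mem (add_mem (add_mem (add_mem (sub_mem (mul_mem (h _ _) (h _ _))
    (mul_mem (h _ _) (h _ _))) (sub_mem (mul_mem (h _ _) (h _ _)) (mul_mem (h _ _) (h _ _))))
    (sub_mem (mul_mem (h _ _) (h _ _)) (mul_mem (h _ _) (h _ _))))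
    (sub_mem (mul_mem (h _ _) (h _ _)) (mul_mem (h _ _) (h _ _))))
    (sub_mem (mul_mem (h _ _) (h _ _)) (mul_mem (h _ _) (h _ _))))
    (sub_mem (mul_mem (h _ _) (h _ _)) (mul_mem (h _ _) (h _ _)))

theorem trace_star4 (h2 : (2 : F) = 0) {g : M₄} (hg : Iso4 g) :
    (Cfsg.Lie.star4 g).trace = mtr2 g := by
  have : CharP F 2 := (CharP.charP_iff_prime_eq_zero Nat.prime_two).2 h2
  have a := congrFun (congrFun hg 0) 3
  have b := congrFun (congrFun hg 1) 2
  have c := congrFun (congrFun hg.right 0) 3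
  simp [wMat, Matrix.mul_apply, Fin.sum_univ_four] at a b c
  simp [Matrix.trace, Cfsg.Lie.star4, Cfsg.Lie.pairOf, mtr2, Fin.sum_univ_four]
  grind

/-- The normal form of the involutions with alternating associated form. -/
def aTwo (F : Type*) [Field F] : Matrix (Fin 4) (Fin 4) F :=
  !![1, 0, 1, 0; 0, 1, 0, 1; 0, 0, 1, 0; 0, 0, 0, 1]

theorem star4_aTwo : Cfsg.Lie.star4 (aTwo F) = tv4 1 0 0 0 1 := by
  ext i j
  fin_cases i <;> fin_cases j <;> simp [aTwo, tv4, Cfsg.Lie.star4, Cfsg.Lie.pairOf]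

end Cfsg.Agent.Lib.Sp4Res55
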