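import Cfsg.Agent.Lib.Sp4Res55.Eigen

/-!
Traces of powers and the fixed subfields of powers of the Frobenius.
Owner: helper55.
-/
set_option autoImplicit false
set_option linter.unusedSectionVars false

namespace Cfsg.Agent.Lib.Sp4Res55

open Matrix Cfsg.Agent.Lib.Subspaces.Transvection

variable {F : Type*} [Field F] [Fintype F]

local notation "Vec" => Fin 2 ⊕ Fin 2 → F
local notation "Mat" => Matrix (Fin 2 ⊕ Fin 2) (Fin 2 ⊕ Fin 2) F
local notation "GL4" => Matrix.GeneralLinearGroup (Fin 2 ⊕ Fin 2) F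

theorem trace_mul_self (h2 : (2 : F) = 0) (M : Mat) : (M * M).trace = M.trace * M.trace := by
  simp only [Matrix.trace, Matrix.diag, Matrix.mul_apply, Fintype.sum_sum_type, Fin.sum_univ_two]
  grind

theorem trace_pow_two_pow (h2 : (2 : F) = 0) (g : GL4) (e : ℕ) :
    ((g ^ (2 ^ e) : GL4) : Mat).trace = (g : Mat).trace ^ (2 ^ e) := by
  induction e with
  | zero => simp
  | succ e ih => rw [pow_succ, pow_mul, pow_two, Units.val_mul, trace_mul_self h2, ih, ← pow_two,
      ← pow_mul]

theorem trace_one (h2 : (2 : F) = 0) : ((1 : GL4) : Mat).trace = 0 := by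
  rw [Units.val_one, Matrix.trace_one]
  simp only [Fintype.card_sum, Fintype.card_fin]
  push_cast
  linear_combination 2 * h2

theorem trace_inv (h2 : (2 : F) = 0) {g : GL4} (hg : g ∈ Cfsg.spGL 2 F) :
    ((g⁻¹ : GL4) : Mat).trace = (g : Mat).trace := by
  rw [Matrix.trace_eq_neg_charpoly_nextCoeff, Matrix.trace_eq_neg_charpoly_nextCoeff,
    charpoly_inv h2 hg]

/-- Elements of order a power of two have trace zero. -/
theorem trace_two_element (h2 : (2 : F) = 0) {g : GL4} {e : ℕ} (hg : g ^ (2 ^ e) = 1) :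
    (g : Mat).trace = 0 := by
  have h := trace_pow_two_pow h2 g e
  rw [hg, trace_one h2] at h
  exact eq_zero_of_pow_eq_zero h.symm

/-- The elements fixed by `a ↦ a ^ (2 ^ e)`. -/
def fixField (h2 : (2 : F) = 0) (e : ℕ) : Subfield F :=
  haveI : CharP F 2 := (CharP.charP_iff_prime_eq_zero Nat.prime_two).2 h2
  { carrier := {a | a ^ (2 ^ e) = a}
    mul_mem' := fun {a b} (ha : a ^ (2 ^ e) = a) (hb : b ^ (2 ^ e) = b) => by
      show (a * b) ^ (2 ^ e) = a * b
      rw [mul_pow, ha, hb]
    one_mem' := one_pow _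
    add_mem' := fun {a b} (ha : a ^ (2 ^ e) = a) (hb : b ^ (2 ^ e) = b) => by
      show (a + b) ^ (2 ^ e) = a + b
      rw [add_pow_char_pow, ha, hb]
    zero_mem' := zero_pow (by positivity)
    neg_mem' := fun {a} (ha : a ^ (2 ^ e) = a) => by
      show (-a) ^ (2 ^ e) = -a
      rw [show -a = a by linear_combination (-a) * h2, ha]
    inv_mem' := fun a (ha : a ^ (2 ^ e) = a) => by
      show a⁻¹ ^ (2 ^ e) = a⁻¹
      rw [inv_pow, ha] }

theorem mem_fixField (h2 : (2 : F) = 0) {e : ℕ} {a : F} :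
    a ∈ fixField h2 e ↔ a ^ (2 ^ e) = a := Iff.rfl

/-- If every element is fixed, the field is small. -/
theorem card_le_of_fixField (h2 : (2 : F) = 0) {e : ℕ} (he : 1 ≤ e)
    (h : fixField (F := F) h2 e = ⊤) : Fintype.card F ≤ 2 ^ e := by
  classical
  have hall : ∀ a : F, a ^ (2 ^ e) = a := fun a => by
    rw [← mem_fixField h2, h]; exact Subfield.mem_top a
  set p : Polynomial F := Polynomial.X ^ (2 ^ e) - Polynomial.X with hp
  have h1 : 1 < 2 ^ e := Nat.one_lt_two_pow (by omega)
  have hdeg : p.natDegree = 2 ^ e := FiniteField.X_pow_card_sub_X_natDegree_eq F h1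
  have hne : p ≠ 0 := FiniteField.X_pow_card_sub_X_ne_zero F h1
  rw [← hdeg, ← Finset.card_univ]
  refine (Finset.card_le_card (t := p.roots.toFinset) fun a _ => ?_).trans
    ((Multiset.toFinset_card_le _).trans (Polynomial.card_roots' p))
  rw [Multiset.mem_toFinset, Polynomial.mem_roots hne]
  simp [hp, hall a]

end Cfsg.Agent.Lib.Sp4Res55
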