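import Cfsg.Agent.Lib.Sp4Res55.Radical
import Cfsg.Agent.Lib.Sp4Res55.Span

/-!
Three pairwise orthogonal centres on a line, when no point carries two transvections.
Owner: helper55.
-/
set_option autoImplicit false
set_option linter.unusedSectionVars false

namespace Cfsg.Agent.Lib.Sp4Res55

open Matrix Module Cfsg.Agent.Lib.Subspaces.Transvection Cfsg.Agent.Lib.Subspaces.SympGen

variable {F : Type*} [Field F]

local notation "Vec" => Fin 2 ⊕ Fin 2 → F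
local notation "Mat" => Matrix (Fin 2 ⊕ Fin 2) (Fin 2 ⊕ Fin 2) F
local notation "GL4" => Matrix.GeneralLinearGroup (Fin 2 ⊕ Fin 2) F
local notation "f₄" => Cfsg.sympForm 2 F

variable {P : Subgroup (Matrix.GeneralLinearGroup (Fin 2 ⊕ Fin 2) F)}

namespace Setting

variable (S : Setting P)
include S
variable [Fintype F]

theorem two_pairs (h1 : One P) {c₁ c₂ v : Vec} {x y : F} (hc₁ : Cen P c₁) (hc₂ : Cen P c₂)
    (hv : Cen P v) (hi : Indep c₁ c₂) (h12 : f₄ c₁ c₂ = 0) (hc₃ : Cen P (x • c₁ + y • c₂))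
    (hy : y ≠ 0) (hm₁ : f₄ v c₁ ≠ 0) (hm₂ : f₄ v c₂ ≠ 0) (hne : f₄ v c₁ ≠ f₄ v c₂)
    (hm₃ : f₄ v (x • c₁ + y • c₂) ≠ 0) (hne₃ : f₄ v c₁ ≠ f₄ v (x • c₁ + y • c₂)) : x + y = 1 := by
  set μ₁ := f₄ v c₁ with hμ₁
  set μ₂ := f₄ v c₂ with hμ₂
  have hμ₃ : f₄ v (x • c₁ + y • c₂) = x * μ₁ + y * μ₂ := by
    rw [f_addr, f_smulr, f_smulr]
  have hi₃ : Indep c₁ (x • c₁ + y • c₂) := ⟨hi.1, fun c e => by
    refine hy (hi.eq_zero (a := x - c) (b := y) ?_).2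
    rw [sub_smul, sub_add_eq_add_sub, e, sub_self]⟩
  have h13 : f₄ c₁ (x • c₁ + y • c₂) = 0 := by
    rw [f_addr, f_smulr, f_smulr, f_self, h12, mul_zero, mul_zero, add_zero]
  have hA := S.cen_radical h1 hc₁ hc₂ hv hi h12 hm₁ hm₂ hne
  have hB := S.cen_radical h1 hc₁ hc₃ hv hi₃ h13 hm₁ hm₃ hne₃
  rw [hμ₃] at hm₃ hne₃ hB
  set A := μ₁ + μ₂ with hAdef
  set B := μ₁ + (x * μ₁ + y * μ₂) with hBdef
  have hA0 : A ≠ 0 := fun e => hne (eq_of_add S.two e)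
  have hB0 : B ≠ 0 := fun e => hne₃ (eq_of_add S.two e)
  have hvec : B⁻¹ • ((x * μ₁ + y * μ₂) • c₁ + μ₁ • (x • c₁ + y • c₂)) =
      (B⁻¹ * y * A) • (A⁻¹ • (μ₂ • c₁ + μ₁ • c₂)) := by
    rw [smul_smul (B⁻¹ * y * A), mul_assoc (B⁻¹ * y), mul_inv_cancel₀ hA0, mul_one]
    match_scalars
    · linear_combination (B⁻¹ * x * μ₁) * S.two
    · ring
  simp only [← hμ₁, ← hμ₂] at hA hB
  rw [hvec] at hB
  have h := h1 _ _ hA hB
  rw [mul_assoc, inv_mul_eq_one₀ hB0] at h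
  have h' : (1 + (x + y)) * μ₁ = 0 := by
    rw [hBdef, hAdef] at h
    linear_combination h + (y * μ₁) * S.two
  exact (eq_of_add S.two ((mul_eq_zero.1 h').resolve_right hm₁)).symm

/-- A centre orthogonal to `v` on the line of two others with distinct products. -/
theorem zero_third (h1 : One P) {c₁ c₂ v : Vec} {x y : F} (hc₁ : Cen P c₁) (hc₂ : Cen P c₂)
    (hv : Cen P v) (hi : Indep c₁ c₂) (h12 : f₄ c₁ c₂ = 0) (hc₃ : Cen P (x • c₁ + y • c₂))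
    (hm₁ : f₄ v c₁ ≠ 0) (hm₂ : f₄ v c₂ ≠ 0) (hne : f₄ v c₁ ≠ f₄ v c₂)
    (hm₃ : f₄ v (x • c₁ + y • c₂) = 0) : x + y = 1 := by
  set μ₁ := f₄ v c₁ with hμ₁
  set μ₂ := f₄ v c₂ with hμ₂
  rw [f_addr, f_smulr, f_smulr, ← hμ₁, ← hμ₂] at hm₃
  have hx : x * μ₁ = y * μ₂ := eq_of_add S.two hm₃
  have hA := S.cen_radical h1 hc₁ hc₂ hv hi h12 hm₁ hm₂ hne
  set A := μ₁ + μ₂ with hAdef
  have hA0 : A ≠ 0 := fun e => hne (eq_of_add S.two e)
  have hvec : x • c₁ + y • c₂ = (y * μ₁⁻¹ * A) • (A⁻¹ • (μ₂ • c₁ + μ₁ • c₂)) := by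
    rw [smul_smul (y * μ₁⁻¹ * A), mul_assoc (y * μ₁⁻¹), mul_inv_cancel₀ hA0, mul_one]
    match_scalars
    · field_simp
      linear_combination hx
    · field_simp
  rw [hvec] at hc₃
  simp only [← hμ₁, ← hμ₂] at hA
  have h := h1 _ _ hA hc₃
  field_simp at h
  have h' : (x + y + 1) * μ₁ = 0 := by
    rw [hAdef] at h
    linear_combination h + hx + μ₁ * S.two
  exact eq_of_add S.two ((mul_eq_zero.1 h').resolve_right hm₁)

/-- Off an affine line, the non-zero products with a centre coincide. -/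
theorem products_eq (h1 : One P) {c₁ c₂ v : Vec} {x y : F} (hc₁ : Cen P c₁) (hc₂ : Cen P c₂)
    (hv : Cen P v) (hi : Indep c₁ c₂) (h12 : f₄ c₁ c₂ = 0) (hc₃ : Cen P (x • c₁ + y • c₂))
    (hx : x ≠ 0) (hy : y ≠ 0) (haff : x + y ≠ 1) :
    (f₄ v c₁ = 0 ∨ f₄ v c₂ = 0 ∨ f₄ v c₁ = f₄ v c₂) ∧
      (f₄ v c₁ = 0 ∨ f₄ v (x • c₁ + y • c₂) = 0 ∨ f₄ v c₁ = f₄ v (x • c₁ + y • c₂)) ∧
      (f₄ v c₂ = 0 ∨ f₄ v (x • c₁ + y • c₂) = 0 ∨ f₄ v c₂ = f₄ v (x • c₁ + y • c₂)) := by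
  have e13 : y⁻¹ • (x • c₁ + y • c₂) + (y⁻¹ * x) • c₁ = c₂ := by
    rw [smul_add, smul_smul, smul_smul, inv_mul_cancel₀ hy, one_smul, add_comm _ c₂, add_assoc,
      vv S.two, add_zero]
  have e23 : x⁻¹ • (x • c₁ + y • c₂) + (x⁻¹ * y) • c₂ = c₁ := by
    rw [smul_add, smul_smul, smul_smul, inv_mul_cancel₀ hx, one_smul, add_assoc, vv S.two, add_zero]
  have hi13 : Indep (x • c₁ + y • c₂) c₁ := Indep.symm ⟨hi.1, fun c e => by
    refine hy (hi.eq_zero (a := x - c) (b := y) ?_).2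
    rw [sub_smul, sub_add_eq_add_sub, e, sub_self]⟩
  have hi23 : Indep (x • c₁ + y • c₂) c₂ := Indep.symm ⟨hi.ne_right, fun c e => by
    refine hx (hi.eq_zero (a := x) (b := y - c) ?_).1
    rw [sub_smul, ← add_sub_assoc, e, sub_self]⟩
  have h31 : f₄ (x • c₁ + y • c₂) c₁ = 0 := by
    rw [f_addl, f_smull, f_smull, f_self, f_comm S.two c₂ c₁, h12, mul_zero, mul_zero, add_zero]
  have h32 : f₄ (x • c₁ + y • c₂) c₂ = 0 := by
    rw [f_addl, f_smull, f_smull, f_self, h12, mul_zero, mul_zero, add_zero]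
  have conv13 : y⁻¹ + y⁻¹ * x = 1 → x + y = 1 := fun h => by
    have h' : 1 + x = y := by
      calc 1 + x = y * (y⁻¹ + y⁻¹ * x) := by rw [mul_add, ← mul_assoc, mul_inv_cancel₀ hy, one_mul]
        _ = y := by rw [h, mul_one]
    rw [← h', add_left_comm, aa S.two, add_zero]
  have conv23 : x⁻¹ + x⁻¹ * y = 1 → x + y = 1 := fun h => by
    have h' : 1 + y = x := by
      calc 1 + y = x * (x⁻¹ + x⁻¹ * y) := by rw [mul_add, ← mul_assoc, mul_inv_cancel₀ hx, one_mul]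
        _ = x := by rw [h, mul_one]
    rw [← h', add_assoc, aa S.two, add_zero]
  set c₃ := x • c₁ + y • c₂ with hc₃def
  refine ⟨?_, ?_, ?_⟩
  · by_contra! h
    obtain ⟨h₁, h₂, h₁₂⟩ := h
    by_cases h₃ : f₄ v c₃ = 0
    · exact haff (S.zero_third h1 hc₁ hc₂ hv hi h12 hc₃ h₁ h₂ h₁₂ h₃)
    by_cases h₁₃ : f₄ v c₁ = f₄ v c₃
    · have := S.two_pairs h1 (x := y) (y := x) hc₂ hc₁ hv hi.symm (swap_eq_zero hf h12)
        (by rw [add_comm]; exact hc₃) hx h₂ h₁ (Ne.symm h₁₂) (by rw [add_comm]; exact h₃)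
        (by rw [add_comm]; exact fun e => h₁₂ (h₁₃.trans e.symm))
      exact haff (by rw [add_comm]; exact this)
    · exact haff (S.two_pairs h1 hc₁ hc₂ hv hi h12 hc₃ hy h₁ h₂ h₁₂ h₃ h₁₃)
  · by_contra! h
    obtain ⟨h₁, h₃, h₁₃⟩ := h
    by_cases h₂ : f₄ v c₂ = 0
    · exact haff (conv13 (S.zero_third h1 (x := y⁻¹) (y := y⁻¹ * x) hc₃ hc₁ hv hi13 h31
        (by rw [e13]; exact hc₂) h₃ h₁ (Ne.symm h₁₃) (by rw [e13]; exact h₂)))
    by_cases h₁₂ : f₄ v c₁ = f₄ v c₂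
    · exact haff (conv13 (S.two_pairs h1 (x := y⁻¹) (y := y⁻¹ * x) hc₃ hc₁ hv hi13 h31
        (by rw [e13]; exact hc₂) (mul_ne_zero (inv_ne_zero hy) hx) h₃ h₁ (Ne.symm h₁₃)
        (by rw [e13]; exact h₂) (by rw [e13]; exact fun e => h₁₃ (h₁₂.trans e.symm))))
    · exact haff (S.two_pairs h1 hc₁ hc₂ hv hi h12 hc₃ hy h₁ h₂ h₁₂ h₃ h₁₃)
  · by_contra! h
    obtain ⟨h₂, h₃, h₂₃⟩ := h
    by_cases h₁ : f₄ v c₁ = 0
    · exact haff (conv23 (S.zero_third h1 (x := x⁻¹) (y := x⁻¹ * y) hc₃ hc₂ hv hi23 h32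
        (by rw [e23]; exact hc₁) h₃ h₂ (Ne.symm h₂₃) (by rw [e23]; exact h₁)))
    by_cases h₁₂ : f₄ v c₁ = f₄ v c₂
    · exact haff (conv23 (S.two_pairs h1 (x := x⁻¹) (y := x⁻¹ * y) hc₃ hc₂ hv hi23 h32
        (by rw [e23]; exact hc₁) (mul_ne_zero (inv_ne_zero hx) hy) h₃ h₂ (Ne.symm h₂₃)
        (by rw [e23]; exact h₁) (by rw [e23]; exact fun e => h₂₃ (h₁₂.symm.trans e.symm))))
    · have := S.two_pairs h1 (x := y) (y := x) hc₂ hc₁ hv hi.symm (swap_eq_zero hf h12)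
        (by rw [add_comm]; exact hc₃) hx h₂ h₁ (Ne.symm h₁₂) (by rw [add_comm]; exact h₃)
        (by rw [add_comm]; exact h₂₃)
      exact haff (by rw [add_comm]; exact this)

/-- A triangle is `c₁, c₂, c₁ + c₂`. -/
theorem coeff_eq_one (h1 : One P) {c₁ c₂ : Vec} {x y : F} (hc₁ : Cen P c₁) (hc₂ : Cen P c₂)
    (hi : Indep c₁ c₂) (h12 : f₄ c₁ c₂ = 0) (hc₃ : Cen P (x • c₁ + y • c₂))
    (hx : x ≠ 0) (hy : y ≠ 0) (haff : x + y ≠ 1) : x = 1 ∧ y = 1 := by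
  have hμ : ∀ v : Vec, f₄ v (x • c₁ + y • c₂) = x * f₄ v c₁ + y * f₄ v c₂ := fun v => by
    rw [f_addr, f_smulr, f_smulr]
  obtain ⟨u, hu, hu₁⟩ := S.exists_cen_nonorth hc₁ hc₁.1
  obtain ⟨w, hw, hw₂⟩ := S.exists_cen_nonorth hc₁ hc₂.1
  obtain ⟨z, hz, hz₃⟩ := S.exists_cen_nonorth hc₁ hc₃.1
  have A : x = 1 ∨ x = y := by
    obtain ⟨p12, p13, -⟩ := S.products_eq h1 hc₁ hc₂ hu hi h12 hc₃ hx hy haff
    rw [hμ] at p13
    rcases p12.resolve_left hu₁ with h | h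
    · rw [h, mul_zero, add_zero] at p13
      rcases p13.resolve_left hu₁ with h' | h'
      · exact absurd h' (mul_ne_zero hx hu₁)
      · exact Or.inl (mul_right_cancel₀ hu₁ (by rw [one_mul]; exact h'.symm))
    · rw [← h, ← add_mul] at p13
      rcases p13.resolve_left hu₁ with h' | h'
      · exact Or.inr (eq_of_add S.two ((mul_eq_zero.1 h').resolve_right hu₁))
      · exact absurd (mul_right_cancel₀ hu₁ (by rw [one_mul]; exact h'.symm)) haff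
  have B : y = 1 ∨ x = y := by
    obtain ⟨p12, -, p23⟩ := S.products_eq h1 hc₁ hc₂ hw hi h12 hc₃ hx hy haff
    rw [hμ] at p23
    rcases p12 with h | h | h
    · rw [h, mul_zero, zero_add] at p23
      rcases p23.resolve_left hw₂ with h' | h'
      · exact absurd h' (mul_ne_zero hy hw₂)
      · exact Or.inl (mul_right_cancel₀ hw₂ (by rw [one_mul]; exact h'.symm))
    · exact absurd h hw₂
    · rw [h, ← add_mul] at p23
      rcases p23.resolve_left hw₂ with h' | h'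
      · exact Or.inr (eq_of_add S.two ((mul_eq_zero.1 h').resolve_right hw₂))
      · exact absurd (mul_right_cancel₀ hw₂ (by rw [one_mul]; exact h'.symm)) haff
  have C : x = 1 ∨ y = 1 := by
    obtain ⟨p12, p13, p23⟩ := S.products_eq h1 hc₁ hc₂ hz hi h12 hc₃ hx hy haff
    rw [hμ] at p13 p23 hz₃
    by_cases e₁ : f₄ z c₁ = 0
    · rw [e₁, mul_zero, zero_add] at p23 hz₃
      have e₂ : f₄ z c₂ ≠ 0 := right_ne_zero_of_mul hz₃
      rcases p23.resolve_left e₂ with h' | h'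
      · exact absurd h' hz₃
      · exact Or.inr (mul_right_cancel₀ e₂ (by rw [one_mul]; exact h'.symm))
    by_cases e₂ : f₄ z c₂ = 0
    · rw [e₂, mul_zero, add_zero] at p13 hz₃
      rcases p13.resolve_left e₁ with h' | h'
      · exact absurd h' hz₃
      · exact Or.inl (mul_right_cancel₀ e₁ (by rw [one_mul]; exact h'.symm))
    have e12 := (p12.resolve_left e₁).resolve_left e₂
    rw [← e12, ← add_mul] at p13 hz₃
    rcases p13.resolve_left e₁ with h' | h'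
    · exact absurd h' hz₃
    · exact absurd (mul_right_cancel₀ e₁ (by rw [one_mul]; exact h'.symm)) haff
  rcases A with rfl | rfl <;> rcases B with rfl | h <;> rcases C with h' | h' <;>
    first
      | exact ⟨rfl, rfl⟩
      | exact ⟨rfl, h.symm⟩
      | exact ⟨h', rfl⟩
      | exact ⟨h', h'⟩
      | exact ⟨rfl, h'⟩

/-- All products with a vertex of a triangle are `0` or `1`. -/
theorem binary_of_triangle (h1 : One P) {c₁ c₂ : Vec} (hc₁ : Cen P c₁) (hc₂ : Cen P c₂)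
    (hi : Indep c₁ c₂) (h12 : f₄ c₁ c₂ = 0) (hc₃ : Cen P (c₁ + c₂)) {v : Vec} (hv : Cen P v) :
    f₄ v c₁ = 0 ∨ f₄ v c₁ = 1 := by
  refine or_iff_not_imp_left.2 fun hm => ?_
  set μ := f₄ v c₁ with hμ
  have hc₃' : Cen P ((1 : F) • c₁ + (1 : F) • c₂) := by rwa [one_smul, one_smul]
  have haff : (1 : F) + 1 ≠ 1 := by rw [aa S.two]; exact zero_ne_one
  obtain ⟨p12, -, -⟩ :=
    S.products_eq h1 hc₁ hc₂ hv hi h12 hc₃' one_ne_zero one_ne_zero haff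
  have key : ∀ k, Cen P k → k ≠ 0 → f₄ v k = 0 → f₄ c₁ k = 0 → Cen P (v + μ • k) → μ = 1 := by
    intro k hk hk0 hvk h1k hsum
    by_contra hne
    have hi' : Indep v k := ⟨hv.1, fun c e => hk0 (by
      have h0 : c = 0 := by
        rw [e, f_smulr, f_comm S.two c₁ v, ← hμ] at h1k
        exact (mul_eq_zero.1 h1k).resolve_right hm
      rw [e, h0, zero_smul])⟩
    have hsum' : Cen P ((1 : F) • v + μ • k) := by rwa [one_smul]
    have := S.coeff_eq_one h1 hv hk hi' hvk hsum' one_ne_zero hm fun e =>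
      hm (by linear_combination e)
    exact hne this.2
  rcases p12.resolve_left hm with h2 | h2
  · refine key c₂ hc₂ hc₂.1 h2 h12 ?_
    have hC : Cen P ((sv c₁ 1 : Mat) *ᵥ ((sv (c₁ + c₂) 1 : Mat) *ᵥ v)) :=
      S.toCen (S.toCen hv hc₃.2) hc₁.2
    simp only [sv_mulVec, f_addl, f_addr, f_smull, f_self, h2, f_comm S.two c₂ c₁, h12, ← hμ, one_mul,
      mul_zero, add_zero] at hC
    convert hC using 1
    match_scalars <;> first
      | ring1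
      | linear_combination μ * S.two
      | linear_combination (-μ) * S.two
  · refine key (c₁ + c₂) hc₃ hc₃.1 (by rw [f_addr, ← hμ, ← h2, aa S.two])
      (by rw [f_addr, f_self, h12, add_zero]) ?_
    have hC : Cen P ((sv c₁ 1 : Mat) *ᵥ ((sv c₂ 1 : Mat) *ᵥ v)) :=
      S.toCen (S.toCen hv hc₂.2) hc₁.2
    simp only [sv_mulVec, f_addl, f_smull, f_comm S.two c₂ c₁, h12, ← hμ, ← h2, one_mul,
      mul_zero, add_zero] at hC
    convert hC using 1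
    module

end Setting

end Cfsg.Agent.Lib.Sp4Res55
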